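import Mathlib.LinearAlgebra.Matrix.SpecialLinearGroup
import Mathlib.GroupTheory.Commutator.Basic
import Mathlib.GroupTheory.Abelianization.Defs

/-!
`SL n F` is generated by transvections; it is perfect for `n ≥ 3` (helper9).
-/

set_option autoImplicit false

namespace Cfsg.Agent.LinearGroup

open Matrix Matrix.SpecialLinearGroup
open scoped commutatorElement

universe u v
variable {ι : Type u} [DecidableEq ι] [Fintype ι] {F : Type v} [Field F]

theorem diag2n_eq_prod_transvection {i j : ι} (hij : i ≠ j) (a : F) (ha : a ≠ 0) :
    diag2n hij a ha =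
      transvection hij a * transvection hij.symm (-a⁻¹) * transvection hij a *
      transvection hij (-1) * transvection hij.symm 1 * transvection hij (-1) := by
  apply Subtype.ext
  show Matrix.diagonal _ = Matrix.transvection i j a * Matrix.transvection j i (-a⁻¹) *
      Matrix.transvection i j a * Matrix.transvection i j (-1) * Matrix.transvection j i 1 *
      Matrix.transvection i j (-1)
  rw [← Matrix.mul_one (Matrix.transvection i j a * Matrix.transvection j i (-a⁻¹) *
      Matrix.transvection i j a * Matrix.transvection i j (-1) * Matrix.transvection j i 1 *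
      Matrix.transvection i j (-1))]
  simp only [Matrix.mul_assoc]
  ext k l
  rcases eq_or_ne k i with rfl | hki
  · simp only [Matrix.transvection_mul_apply_same, Matrix.transvection_mul_apply_of_ne, hij, hij.symm,
      ne_eq, not_false_eq_true, Matrix.diagonal_apply, Matrix.one_apply]
    split_ifs <;> field_simp <;> ring
  rcases eq_or_ne k j with rfl | hkj
  · simp only [Matrix.transvection_mul_apply_same, Matrix.transvection_mul_apply_of_ne, hij,
      hij.symm, ne_eq, not_false_eq_true, Matrix.diagonal_apply, Matrix.one_apply,
      if_false, if_true]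
    split_ifs <;> field_simp <;> ring
  · simp only [Matrix.transvection_mul_apply_of_ne, hki, hkj, ne_eq, not_false_eq_true,
      Matrix.diagonal_apply, Matrix.one_apply, if_false]

/-- Conjugation of a transvection by a diagonal element. -/
theorem diag2n_mul_transvection {i j : ι} (hij : i ≠ j) (a : F) (ha : a ≠ 0) (x : F) :
    diag2n hij a ha * transvection hij x = transvection hij (a ^ 2 * x) * diag2n hij a ha := by
  apply Subtype.ext
  rw [coe_mul, coe_mul, diag2n_coe, transvection_coe, transvection_coe]
  ext k l
  rw [Matrix.diagonal_mul, Matrix.mul_diagonal]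
  rcases eq_or_ne k l with rfl | hkl
  · have h : ¬(i = k ∧ j = k) := fun h => hij (h.1.trans h.2.symm)
    simp [Matrix.add_apply, h]
  · simp only [Matrix.add_apply, Matrix.one_apply, hkl, if_false, zero_add, Matrix.single_apply]
    by_cases h : i = k ∧ j = l
    · obtain ⟨rfl, rfl⟩ := h
      simp [hij.symm]
      field_simp
    · simp [h]

/-- A subgroup of `SL ι F` containing all transvections is everything. -/
theorem eq_top_of_transvection_mem {H : Subgroup (Matrix.SpecialLinearGroup ι F)}
    (h : ∀ (i j : ι) (hij : i ≠ j) (c : F), transvection hij c ∈ H) : H = ⊤ := by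
  rcases subsingleton_or_nontrivial ι with hs | hn
  · exact Subsingleton.elim _ _
  rw [Subgroup.eq_top_iff']
  intro M
  refine diagonal_transvection_induction' (fun A => A ∈ H) M ?_ (fun i j hij a => h i j hij a)
    (fun A B hA hB => mul_mem hA hB)
  intro i j hij c hc
  rw [diag2n_eq_prod_transvection hij c hc]
  refine mul_mem (mul_mem (mul_mem (mul_mem (mul_mem ?_ ?_) ?_) ?_) ?_) ?_ <;> exact h _ _ _ _

theorem closure_transvection_eq_top :
    Subgroup.closure {A : Matrix.SpecialLinearGroup ι F |
      ∃ (i j : ι) (hij : i ≠ j) (c : F), A = transvection hij c} = ⊤ :=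
  eq_top_of_transvection_mem fun i j hij c => Subgroup.subset_closure ⟨i, j, hij, c, rfl⟩

/-- It suffices to take coefficients in a set generating `(F, +)`. -/
theorem eq_top_of_transvection_mem_of_addClosure {H : Subgroup (Matrix.SpecialLinearGroup ι F)}
    (S : Set F) (hS : AddSubgroup.closure S = ⊤)
    (h : ∀ (i j : ι) (hij : i ≠ j), ∀ c ∈ S, transvection hij c ∈ H) : H = ⊤ := by
  refine eq_top_of_transvection_mem fun i j hij c => ?_
  have hc : c ∈ AddSubgroup.closure S := by rw [hS]; trivial
  induction hc using AddSubgroup.closure_induction with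
  | mem x hx => exact h i j hij x hx
  | zero => rw [transvection_coeff_zero]; exact one_mem _
  | add x y _ _ hx hy => rw [transvection_add]; exact mul_mem hx hy
  | neg x _ hx => rw [← transvection_inv]; exact inv_mem hx

/-- Homomorphisms out of `SL ι F` agree if they agree on transvections. -/
theorem monoidHom_ext_transvection {M : Type*} [Group M]
    {f g : Matrix.SpecialLinearGroup ι F →* M}
    (h : ∀ (i j : ι) (hij : i ≠ j) (c : F), f (transvection hij c) = g (transvection hij c)) :
    f = g :=
  MonoidHom.ext fun x => (eq_top_of_transvection_mem (H := f.eqLocus g) h ▸ Subgroup.mem_top x :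
    x ∈ f.eqLocus g)

theorem commutator_transvection {i j k : ι} (hik : i ≠ k) (hkj : k ≠ j) (hij : i ≠ j) (a b : F) :
    ⁅transvection hik a, transvection hkj b⁆ =
      (transvection hij (a * b) : Matrix.SpecialLinearGroup ι F) := by
  rw [commutatorElement_def, transvection_inv, transvection_inv]
  apply Subtype.ext
  simp only [coe_mul, transvection_coe]
  simp only [mul_add, add_mul, mul_one, one_mul, single_mul_single_of_ne _ _ _ _ hij.symm,
    single_mul_single_of_ne _ _ _ _ hik.symm, single_mul_single_of_ne _ _ _ _ hkj.symm,
    single_mul_single_same, zero_mul, mul_zero, add_zero, ← single_neg, neg_mul, mul_neg]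
  abel

/-- `SL ι F` is perfect when `ι` has at least three elements. -/
theorem commutator_SL_eq_top (h : 3 ≤ Fintype.card ι) :
    commutator (Matrix.SpecialLinearGroup ι F) = ⊤ := by
  refine eq_top_of_transvection_mem fun i j hij c => ?_
  have : ({i, j}ᶜ : Finset ι).Nonempty := by
    rw [← Finset.card_pos, Finset.card_compl, Finset.card_pair hij]
    omega
  obtain ⟨k, hk⟩ := this
  simp only [Finset.mem_compl, Finset.mem_insert, Finset.mem_singleton, not_or] at hk
  rw [← mul_one c, ← commutator_transvection (Ne.symm hk.1) hk.2 hij c 1]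
  exact Subgroup.commutator_mem_commutator (Subgroup.mem_top _) (Subgroup.mem_top _)

/-- `SL ι F` is perfect unless `|ι| = 2` and `|F| ≤ 3`. -/
theorem commutator_SL_eq_top' (h : Fintype.card ι = 2 → ∃ a : F, a ≠ 0 ∧ a ^ 2 ≠ 1) :
    commutator (Matrix.SpecialLinearGroup ι F) = ⊤ := by
  rcases lt_trichotomy (Fintype.card ι) 2 with h2 | h2 | h2
  · haveI : Subsingleton ι := Fintype.card_le_one_iff_subsingleton.mp (by omega)
    exact Subsingleton.elim _ _
  · obtain ⟨a, ha, ha2⟩ := h h2
    have hne : a ^ 2 - 1 ≠ 0 := sub_ne_zero_of_ne ha2
    refine eq_top_of_transvection_mem fun i j hij c => ?_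
    have key : ⁅diag2n hij a ha, transvection hij (c / (a ^ 2 - 1))⁆ =
        (transvection hij c : Matrix.SpecialLinearGroup ι F) := by
      rw [commutatorElement_def, diag2n_mul_transvection, mul_inv_cancel_right, transvection_inv,
        ← transvection_add]
      congr 1
      rw [show a ^ 2 * (c / (a ^ 2 - 1)) + -(c / (a ^ 2 - 1)) = c / (a ^ 2 - 1) * (a ^ 2 - 1) by
        ring, div_mul_cancel₀ c hne]
    rw [← key]
    exact Subgroup.commutator_mem_commutator (Subgroup.mem_top _) (Subgroup.mem_top _)
  · exact commutator_SL_eq_top (by omega)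

end Cfsg.Agent.LinearGroup
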