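import Mathlib.LinearAlgebra.Matrix.ProjectiveSpecialLinearGroup
import Mathlib.LinearAlgebra.Matrix.GeneralLinearGroup.Card
import Mathlib.LinearAlgebra.Matrix.GeneralLinearGroup.Basic
import Mathlib.Algebra.BigOperators.Fin
import Mathlib.RingTheory.IntegralDomain
import Mathlib.FieldTheory.Finite.Basic
import Mathlib.GroupTheory.SpecificGroups.Cyclic
import Mathlib.Algebra.Order.BigOperators.Group.Finset

/-!
Orders of `GL`, `SL`, `PSL` and of the centre of `SL` over finite fields (helper9).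
-/

set_option autoImplicit false

namespace Cfsg.Agent.LinearGroup

open Matrix

universe u v
variable {n : Type u} [DecidableEq n] [Fintype n] {R : Type v} [CommRing R]

theorem glDet_surjective [Nonempty n] :
    Function.Surjective (Matrix.GeneralLinearGroup.det : GL n R → Rˣ) := by
  intro a
  obtain ⟨i⟩ := ‹Nonempty n›
  have hd : (Matrix.diagonal (Function.update (1 : n → R) i (a : R))).det = a := by
    rw [Matrix.det_diagonal, Finset.prod_update_of_mem (Finset.mem_univ i)]
    simp
  refine ⟨Matrix.GeneralLinearGroup.mk'' _ (hd.symm ▸ a.isUnit), Units.ext ?_⟩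
  rw [Matrix.GeneralLinearGroup.val_det_apply]
  exact hd

theorem range_toGL_eq_ker_det :
    (Matrix.SpecialLinearGroup.toGL : Matrix.SpecialLinearGroup n R →* GL n R).range =
      (Matrix.GeneralLinearGroup.det : GL n R →* Rˣ).ker := by
  ext g
  constructor
  · rintro ⟨s, rfl⟩
    exact Units.ext (by simp [Matrix.SpecialLinearGroup.toGL])
  · intro hg
    have : (g : Matrix n n R).det = 1 := by
      simpa using congrArg Units.val (show Matrix.GeneralLinearGroup.det g = 1 from hg)
    exact ⟨⟨g, this⟩, Units.ext (by simp [Matrix.SpecialLinearGroup.toGL])⟩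

theorem toGL_injective :
    Function.Injective (Matrix.SpecialLinearGroup.toGL : Matrix.SpecialLinearGroup n R →* GL n R) := by
  intro a b h
  exact Subtype.ext (congrArg Units.val h)

/-- `SL n R` is the kernel of the determinant on `GL n R`. -/
noncomputable def slEquivKerDet :
    Matrix.SpecialLinearGroup n R ≃* (Matrix.GeneralLinearGroup.det : GL n R →* Rˣ).ker :=
  (MonoidHom.ofInjective toGL_injective).trans (MulEquiv.subgroupCongr range_toGL_eq_ker_det)

theorem card_GL_eq_units_mul_SL [Nonempty n] :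
    Nat.card (GL n R) = Nat.card Rˣ * Nat.card (Matrix.SpecialLinearGroup n R) := by
  rw [Nat.card_congr slEquivKerDet.toEquiv,
    Subgroup.card_eq_card_quotient_mul_card_subgroup
      (Matrix.GeneralLinearGroup.det : GL n R →* Rˣ).ker,
    Nat.card_congr (QuotientGroup.quotientKerEquivOfSurjective _ glDet_surjective).toEquiv]

theorem card_SL_eq_center_mul_PSL :
    Nat.card (Matrix.SpecialLinearGroup n R) =
      Nat.card (Subgroup.center (Matrix.SpecialLinearGroup n R)) *
        Nat.card (Matrix.ProjectiveSpecialLinearGroup n R) := by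
  rw [Subgroup.card_eq_card_quotient_mul_card_subgroup
    (Subgroup.center (Matrix.SpecialLinearGroup n R)), Nat.mul_comm]

variable {F : Type v} [Field F] [Finite F]

theorem natCard_units_field : Nat.card Fˣ = Nat.card F - 1 := Nat.card_units F

/-- `(q - 1) |SL_n(q)| = ∏ i, (q^n - q^i)`. -/
theorem card_SL_mul {m : ℕ} (hm : 1 ≤ m) :
    (Nat.card F - 1) * Nat.card (Matrix.SpecialLinearGroup (Fin m) F) =
      ∏ i : Fin m, (Nat.card F ^ m - Nat.card F ^ (i : ℕ)) := by
  haveI := Fintype.ofFinite F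
  haveI : Nonempty (Fin m) := ⟨⟨0, hm⟩⟩
  rw [← natCard_units_field, ← card_GL_eq_units_mul_SL, Matrix.card_GL_field,
    Nat.card_eq_fintype_card]

theorem card_center_SL [Nonempty n] :
    Nat.card (Subgroup.center (Matrix.SpecialLinearGroup n F)) =
      Nat.gcd (Fintype.card n) (Nat.card F - 1) := by
  obtain ⟨i⟩ := ‹Nonempty n›
  have e : rootsOfUnity (Fintype.card n) F =
      (powMonoidHom (Fintype.card n) : Fˣ →* Fˣ).ker := by
    ext x
    simp [mem_rootsOfUnity]
  rw [Nat.card_congr (Matrix.SpecialLinearGroup.center_equiv_rootsOfUnity' (R := F) i).toEquiv, e,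
    IsCyclic.card_powMonoidHom_ker, natCard_units_field, Nat.gcd_comm]

/-- `gcd(n, q-1) |PSL_n(q)| = |SL_n(q)|`. -/
theorem gcd_mul_card_PSL [Nonempty n] :
    Nat.gcd (Fintype.card n) (Nat.card F - 1) *
        Nat.card (Matrix.ProjectiveSpecialLinearGroup n F) =
      Nat.card (Matrix.SpecialLinearGroup n F) := by
  rw [← card_center_SL, ← card_SL_eq_center_mul_PSL]

theorem one_lt_natCard : 1 < Nat.card F := Finite.one_lt_card

/-- `|SL_2(q)| = q (q^2 - 1)`. -/
theorem card_SL_two :
    Nat.card (Matrix.SpecialLinearGroup (Fin 2) F) = Nat.card F * (Nat.card F ^ 2 - 1) := by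
  have h := card_SL_mul (F := F) (m := 2) (by omega)
  rw [Fin.prod_univ_two] at h
  have hq : 1 < Nat.card F := one_lt_natCard
  simp only [Fin.val_zero, Fin.val_one, pow_zero, pow_one] at h
  have : Nat.card F ^ 2 - Nat.card F = (Nat.card F - 1) * Nat.card F := by
    rw [Nat.sub_mul, one_mul, sq]
  rw [this] at h
  refine Nat.eq_of_mul_eq_mul_left (by omega : 0 < Nat.card F - 1) ?_
  rw [h]; ring

/-- `gcd(2, q-1) |PSL_2(q)| = q (q^2 - 1)`. -/
theorem gcd_mul_card_PSL_two :
    Nat.gcd 2 (Nat.card F - 1) * Nat.card (Matrix.ProjectiveSpecialLinearGroup (Fin 2) F) =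
      Nat.card F * (Nat.card F ^ 2 - 1) := by
  have h := gcd_mul_card_PSL (F := F) (n := Fin 2)
  rwa [card_SL_two, Fintype.card_fin] at h

/-- `|SL_n(q)| = q^(n(n-1)/2) ∏_{i=2}^n (q^i - 1)`. -/
theorem card_SL_eq_pow_mul_prod (m : ℕ) :
    Nat.card (Matrix.SpecialLinearGroup (Fin (m + 1)) F) =
      Nat.card F ^ (∑ i : Fin (m + 1), (i : ℕ)) *
        ∏ i ∈ Finset.range m, (Nat.card F ^ (i + 2) - 1) := by
  have h := card_SL_mul (F := F) (m := m + 1) (by omega)
  set q := Nat.card F with hq
  have hq1 : 1 < q := one_lt_natCard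
  have e : ∀ i : Fin (m + 1), q ^ (m + 1) - q ^ (i : ℕ) =
      q ^ (i : ℕ) * (q ^ (m + 1 - i) - 1) := by
    intro i
    rw [Nat.mul_sub, mul_one, ← pow_add, Nat.add_sub_cancel' i.2.le]
  simp only [e] at h
  rw [Finset.prod_mul_distrib, Finset.prod_pow_eq_pow_sum] at h
  have e2 : ∏ i : Fin (m + 1), (q ^ (m + 1 - i) - 1) =
      (q - 1) * ∏ i ∈ Finset.range m, (q ^ (i + 2) - 1) := by
    rw [Fin.prod_univ_eq_prod_range (fun i => q ^ (m + 1 - i) - 1) (m + 1),
      ← Finset.prod_range_reflect, Finset.prod_range_succ']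
    have : ∀ x ∈ Finset.range m, q ^ (m + 1 - (m + 1 - 1 - (x + 1))) - 1 = q ^ (x + 2) - 1 := by
      intro x hx
      have hx' := Finset.mem_range.mp hx
      congr 2
      omega
    rw [Finset.prod_congr rfl this]
    simp [Nat.mul_comm]
  rw [e2] at h
  refine Nat.eq_of_mul_eq_mul_left (by omega : 0 < q - 1) ?_
  rw [h]; ring

/-- `|GL_n(q)| = q^(n(n-1)/2) ∏_{i=1}^n (q^i - 1)`. -/
theorem card_GL_eq_pow_mul_prod (m : ℕ) :
    Nat.card (GL (Fin m) F) =
      Nat.card F ^ (∑ i : Fin m, (i : ℕ)) *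
        ∏ i ∈ Finset.range m, (Nat.card F ^ (i + 1) - 1) := by
  haveI := Fintype.ofFinite F
  rw [Matrix.card_GL_field, ← Nat.card_eq_fintype_card]
  set q := Nat.card F with hq
  have e : ∀ i : Fin m, q ^ m - q ^ (i : ℕ) = q ^ (i : ℕ) * (q ^ (m - i) - 1) := by
    intro i
    rw [Nat.mul_sub, mul_one, ← pow_add, Nat.add_sub_cancel' i.2.le]
  simp only [e]
  rw [Finset.prod_mul_distrib, Finset.prod_pow_eq_pow_sum,
    Fin.prod_univ_eq_prod_range (fun i => q ^ (m - i) - 1) m, ← Finset.prod_range_reflect]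
  congr 1
  refine Finset.prod_congr rfl fun x hx => ?_
  have hx' := Finset.mem_range.mp hx
  congr 2
  omega

end Cfsg.Agent.LinearGroup
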