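import Cfsg.Agent.Lib.LinearGroup.PermRep
import Mathlib.GroupTheory.Perm.Closure
import Mathlib.GroupTheory.SpecificGroups.Alternating.Simple

/-!
Symmetric and alternating groups acting on partitions into two labelled parts (helper9).
-/

set_option autoImplicit false

namespace Cfsg.Agent.LinearGroup

open Equiv

theorem closure_swap_rotate (n : ℕ) :
    Subgroup.closure ({finRotate (n + 2), swap 0 (finRotate (n + 2) 0)} : Set (Perm (Fin (n + 2)))) = ⊤ :=
  Equiv.Perm.closure_cycle_adjacent_swap isCycle_finRotate support_finRotate 0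

/-- Two-part partition of `Fin n` whose first part is the list `l`. -/
def splitRel {n : ℕ} (l : List ℕ) (a b : Fin n) : Bool := l.contains a.val == l.contains b.val

variable {n : ℕ} {β : Type} [Finite β] (tab : β → List ℕ)
  (hinj : Function.Injective (fun i => (splitRel (tab i) : Fin (n + 2) → Fin (n + 2) → Bool)))

theorem split_stab
    (h : ∀ i, (∃ j, ∀ a b, splitRel (tab j) (finRotate (n + 2) a) (finRotate (n + 2) b) =
        (splitRel (tab i) a b : Bool)) ∧
      ∃ j, ∀ a b, splitRel (tab j) (swap 0 (finRotate (n + 2) 0) a)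
        (swap 0 (finRotate (n + 2) 0) b) = (splitRel (tab i) a b : Bool)) :
    famStab (relHom (MonoidHom.id (Perm (Fin (n + 2))))) _ hinj = ⊤ :=
  famStab_eq_top_of_closure _ hinj (closure_swap_rotate n) (by
    rintro g (rfl | rfl) i
    · obtain ⟨j, hj⟩ := (h i).1
      exact ⟨j, relHom_eq_of_forall hj⟩
    · obtain ⟨j, hj⟩ := (h i).2
      exact ⟨j, relHom_eq_of_forall hj⟩)

variable (hst : famStab (relHom (MonoidHom.id (Perm (Fin (n + 2))))) _ hinj = ⊤)

/-- The alternating group acting on a family of two-part partitions. -/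
noncomputable def altSplitHom : alternatingGroup (Fin (n + 2)) →* Perm β :=
  (famHom _ hinj hst).comp (alternatingGroup (Fin (n + 2))).subtype

theorem altSplitHom_eq (g : alternatingGroup (Fin (n + 2))) (σ : β → β)
    (h : ∀ i a b, splitRel (tab (σ i)) ((g : Perm (Fin (n + 2))) a) ((g : Perm (Fin (n + 2))) b) =
      (splitRel (tab i) a b : Bool)) :
    ⇑(altSplitHom tab hinj hst g) = σ :=
  famHom_eq _ hinj hst _ σ fun i => relHom_eq_of_forall (h i)

end Cfsg.Agent.LinearGroup
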