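import Cfsg.Agent.Lib.LinearGroup.PSLTools
import Cfsg.Agent.Lib.LinearGroup.AltRep
import Mathlib.Algebra.QuadraticAlgebra.Basic

/-!
`PSL₂(9) ≅ A₆`: the projective line is labelled by the ten partitions `3 + 3` (helper9).
-/

set_option autoImplicit false
set_option maxRecDepth 100000

namespace Cfsg.Agent.LinearGroup.PSL29

open Equiv Cfsg.Agent.LinearGroup

/-- The field of nine elements. -/
abbrev K : Type := QuadraticAlgebra (ZMod 3) (-1) 0

instance fact_nonsquare : Fact (∀ r : ZMod 3, r ^ 2 ≠ -1 + 0 * r) := ⟨by decide⟩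
local instance fact_three : Fact (Nat.Prime 3) := ⟨by decide⟩

instance fintypeK : Fintype K := Fintype.ofEquiv _ (QuadraticAlgebra.equivProd (-1 : ZMod 3) 0).symm

theorem card_K : Fintype.card K = 9 :=
  (Fintype.card_congr (QuadraticAlgebra.equivProd (-1 : ZMod 3) 0)).trans rfl

theorem natCard_K : Nat.card K = 9 := by rw [Nat.card_eq_fintype_card, card_K]

def partTab : Fin 10 → List ℕ :=
  ![[0,1,2], [0,1,3], [0,1,5], [0,2,4], [0,3,4], [0,4,5], [0,3,5], [0,2,5], [0,2,3], [0,1,4]]

def perU1 : Equiv.Perm (Fin 6) :=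
  ⟨![2, 0, 1, 3, 4, 5], ![1, 2, 0, 3, 4, 5], by decide, by decide⟩

def sigU1 : Fin 10 → Fin 10 :=
  ![0, 8, 7, 6, 2, 1, 9, 4, 5, 3]

def perUI : Equiv.Perm (Fin 6) :=
  ⟨![0, 1, 2, 4, 5, 3], ![0, 1, 2, 5, 3, 4], by decide, by decide⟩

def sigUI : Fin 10 → Fin 10 :=
  ![0, 9, 1, 7, 5, 6, 4, 8, 3, 2]

def perL1 : Equiv.Perm (Fin 6) :=
  ⟨![4, 0, 2, 3, 1, 5], ![1, 4, 2, 3, 0, 5], by decide, by decide⟩

def sigL1 : Fin 10 → Fin 10 :=
  ![3, 4, 5, 6, 7, 8, 0, 1, 2, 9]

def perLI : Equiv.Perm (Fin 6) :=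
  ⟨![0, 1, 3, 5, 4, 2], ![0, 1, 5, 2, 4, 3], by decide, by decide⟩

def sigLI : Fin 10 → Fin 10 :=
  ![1, 2, 0, 4, 5, 3, 7, 8, 6, 9]

/-- The representative of the point with label `p`. -/
def ptRep : Fin 10 → K × K :=
  ![(⟨1, 0⟩, ⟨0, 0⟩), (⟨1, 0⟩, ⟨0, 1⟩), (⟨1, 0⟩, ⟨0, 2⟩), (⟨1, 0⟩, ⟨1, 0⟩), (⟨1, 0⟩, ⟨1, 1⟩),
    (⟨1, 0⟩, ⟨1, 2⟩), (⟨1, 0⟩, ⟨2, 0⟩), (⟨1, 0⟩, ⟨2, 1⟩), (⟨1, 0⟩, ⟨2, 2⟩), (⟨0, 0⟩, ⟨1, 0⟩)]

/-- `v` lies on the line with label `p`. -/
def enc (p : Fin 10) (v : K × K) : Bool := decide (v.1 * (ptRep p).2 = v.2 * (ptRep p).1)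

theorem enc_injective : Function.Injective enc := by
  have h : ∀ i j : Fin 10, (∀ k : Fin 10, enc i (ptRep k) = enc j (ptRep k)) → i = j := by
    decide +kernel
  intro i j hij
  exact h i j (fun k => by rw [hij])

def cI : K := ⟨0, 1⟩

theorem check : (∀ p v, enc (sigU1 p) (v.1 + 1 * v.2, v.2) = enc p v) ∧
    (∀ p v, enc (sigUI p) (v.1 + cI * v.2, v.2) = enc p v) ∧
    (∀ p v, enc (sigL1 p) (v.1, 1 * v.1 + v.2) = enc p v) ∧
    (∀ p v, enc (sigLI p) (v.1, cI * v.1 + v.2) = enc p v) := by decide +kernel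

theorem checkC : ∀ r : K, r * r = 1 → ∀ p v, enc p (r * v.1, r * v.2) = enc p v := by decide +kernel

abbrev G : Type := Matrix.SpecialLinearGroup (Fin 2) K

def tU (c : K) : G := Matrix.SpecialLinearGroup.transvection (zero_ne_one (α := Fin 2)) c
def tL (c : K) : G := Matrix.SpecialLinearGroup.transvection (one_ne_zero (α := Fin 2)) c

theorem relU (c : K) (σ : Fin 10 → Fin 10) (h : ∀ p v, enc (σ p) (v.1 + c * v.2, v.2) = enc p v)
    (p : Fin 10) : setHom pairHom (tU c) (enc p) = enc (σ p) :=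
  setHom_eq_of_forall fun v => by simp only [tU, pairHom_upper]; exact h p v

theorem relL (c : K) (σ : Fin 10 → Fin 10) (h : ∀ p v, enc (σ p) (v.1, c * v.1 + v.2) = enc p v)
    (p : Fin 10) : setHom pairHom (tL c) (enc p) = enc (σ p) :=
  setHom_eq_of_forall fun v => by simp only [tL, pairHom_lower]; exact h p v

theorem span_one_I : AddSubgroup.closure ({1, cI} : Set K) = ⊤ := by
  rw [eq_top_iff]
  intro x _
  have hall : ∀ y : K, y.re.val • (1 : K) + y.im.val • cI = y := by decide +kernel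
  have hx := hall x
  rw [← hx]
  exact add_mem (AddSubgroup.nsmul_mem _ (AddSubgroup.subset_closure (by simp)) _)
    (AddSubgroup.nsmul_mem _ (AddSubgroup.subset_closure (by simp)) _)

theorem closure_gens : Subgroup.closure ({tU 1, tU cI, tL 1, tL cI} : Set G) = ⊤ := by
  refine eq_top_of_transvection_mem_of_addClosure {1, cI} span_one_I ?_
  intro i j hij c hc
  apply Subgroup.subset_closure
  rcases hc with rfl | rfl <;> fin_cases i <;> fin_cases j <;>
    first | exact absurd rfl hij | simp [tU, tL]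

theorem stab : famStab (setHom (pairHom (K := K))) enc enc_injective = ⊤ :=
  famStab_eq_top_of_closure _ enc_injective closure_gens (by
    rintro g (rfl | rfl | rfl | rfl) p
    · exact ⟨_, relU _ _ check.1 p⟩
    · exact ⟨_, relU _ _ check.2.1 p⟩
    · exact ⟨_, relL _ _ check.2.2.1 p⟩
    · exact ⟨_, relL _ _ check.2.2.2 p⟩)

noncomputable def onLine : G →* Perm (Fin 10) := famHom _ enc_injective stab

theorem center_le : Subgroup.center G ≤ onLine.ker := by
  intro g hg
  obtain ⟨r, hr, hv⟩ := pairHom_center hg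
  rw [MonoidHom.mem_ker]
  ext p
  refine congrArg Fin.val (enc_injective ?_)
  refine (enc_famHom _ enc_injective stab g p).trans ?_
  exact setHom_eq_of_forall fun v => by rw [hv]; exact checkC r hr p v

noncomputable def onLineP : Matrix.ProjectiveSpecialLinearGroup (Fin 2) K →* Perm (Fin 10) :=
  QuotientGroup.lift _ onLine center_le

theorem onLineP_injective : Function.Injective onLineP := by
  have : IsSimpleGroup (Matrix.ProjectiveSpecialLinearGroup (Fin 2) K) :=
    Matrix.ProjectiveSpecialLinearGroup.rank_two_simple (by rw [natCard_K]; omega)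
  refine injective_of_simple onLineP (QuotientGroup.mk (tU 1)) fun h => ?_
  have hall : ∀ p, onLine (tU 1) p = p := fun p => congrArg (fun q : Perm (Fin 10) => q p) h
  rw [onLine, famHom_eq _ enc_injective stab _ sigU1 (relU _ _ check.1)] at hall
  revert hall
  decide

theorem part_inj :
    Function.Injective (fun i => (splitRel (partTab i) : Fin 6 → Fin 6 → Bool)) := by decide +kernel

theorem part_stab : famStab (relHom (MonoidHom.id (Perm (Fin 6)))) _ part_inj = ⊤ :=
  split_stab partTab part_inj (by decide +kernel)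

noncomputable def onParts : alternatingGroup (Fin 6) →* Perm (Fin 10) :=
  altSplitHom partTab part_inj part_stab

theorem checkP : (∀ i a b, splitRel (partTab (sigU1 i)) (perU1 a) (perU1 b) = (splitRel (partTab i) a b : Bool)) ∧
    (∀ i a b, splitRel (partTab (sigUI i)) (perUI a) (perUI b) = (splitRel (partTab i) a b : Bool)) ∧
    (∀ i a b, splitRel (partTab (sigL1 i)) (perL1 a) (perL1 b) = (splitRel (partTab i) a b : Bool)) ∧
    (∀ i a b, splitRel (partTab (sigLI i)) (perLI a) (perLI b) = (splitRel (partTab i) a b : Bool)) := by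
  decide +kernel

theorem per_mem : perU1 ∈ alternatingGroup (Fin 6) ∧ perUI ∈ alternatingGroup (Fin 6) ∧
    perL1 ∈ alternatingGroup (Fin 6) ∧ perLI ∈ alternatingGroup (Fin 6) := by
  simp only [Equiv.Perm.mem_alternatingGroup]
  decide +kernel

theorem onParts_injective : Function.Injective onParts := by
  have : IsSimpleGroup (alternatingGroup (Fin 6)) := alternatingGroup.isSimpleGroup (by simp)
  refine injective_of_simple onParts ⟨perU1, per_mem.1⟩ fun h => ?_
  have hall : ∀ p, onParts ⟨perU1, per_mem.1⟩ p = p := fun p => congrArg (fun q : Perm (Fin 10) => q p) h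
  rw [onParts, altSplitHom_eq partTab part_inj part_stab _ sigU1 checkP.1] at hall
  revert hall
  decide

theorem equiv :
    Nonempty (Matrix.ProjectiveSpecialLinearGroup (Fin 2) K ≃* alternatingGroup (Fin 6)) := by
  have hS : Subgroup.closure ((QuotientGroup.mk' (Subgroup.center G)) '' {tU 1, tU cI, tL 1, tL cI}) = ⊤ := by
    rw [← MonoidHom.map_closure, closure_gens,
      Subgroup.map_top_of_surjective _ (QuotientGroup.mk'_surjective _)]
  refine nonempty_mulEquiv_of_closure onLineP onParts onLineP_injective onParts_injective _ hS ?_ ?_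
  · rintro _ ⟨g, hg, rfl⟩
    show onLine g ∈ onParts.range
    rcases hg with rfl | rfl | rfl | rfl
    · exact ⟨⟨perU1, per_mem.1⟩, DFunLike.coe_injective (by
        rw [onParts, altSplitHom_eq partTab part_inj part_stab _ sigU1 checkP.1, onLine,
          famHom_eq _ enc_injective stab _ sigU1 (relU _ _ check.1)])⟩
    · exact ⟨⟨perUI, per_mem.2.1⟩, DFunLike.coe_injective (by
        rw [onParts, altSplitHom_eq partTab part_inj part_stab _ sigUI checkP.2.1, onLine,
          famHom_eq _ enc_injective stab _ sigUI (relU _ _ check.2.1)])⟩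
    · exact ⟨⟨perL1, per_mem.2.2.1⟩, DFunLike.coe_injective (by
        rw [onParts, altSplitHom_eq partTab part_inj part_stab _ sigL1 checkP.2.2.1, onLine,
          famHom_eq _ enc_injective stab _ sigL1 (relL _ _ check.2.2.1)])⟩
    · exact ⟨⟨perLI, per_mem.2.2.2⟩, DFunLike.coe_injective (by
        rw [onParts, altSplitHom_eq partTab part_inj part_stab _ sigLI checkP.2.2.2, onLine,
          famHom_eq _ enc_injective stab _ sigLI (relL _ _ check.2.2.2)])⟩
  · have h1 := gcd_mul_card_PSL_two (F := K)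
    rw [natCard_K] at h1
    norm_num at h1
    rw [nat_card_alternatingGroup, Nat.card_fin]
    simp [Nat.factorial]
    omega

end Cfsg.Agent.LinearGroup.PSL29
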