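import Mathlib.GroupTheory.SpecificGroups.Alternating
import Mathlib.GroupTheory.SpecificGroups.Alternating.Simple
import Mathlib.GroupTheory.GroupAction.Quotient
import Mathlib.GroupTheory.Subgroup.Simple

/-!
Recognising groups inside symmetric groups: tools for small isomorphisms (helper9).
-/

set_option autoImplicit false

namespace Cfsg.Agent.LinearGroup

open Equiv

universe u v w
variable {G : Type u} [Group G] {α : Type v} [Fintype α] [DecidableEq α]

/-- Transport of an alternating group along an equivalence of point sets. -/
noncomputable def altCongrFin {n : ℕ} (h : Fintype.card α = n) :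
    alternatingGroup α ≃* alternatingGroup (Fin n) :=
  have e : α ≃ Fin n := Fintype.equivFinOfCardEq h
  (MulEquiv.subgroupMap e.permCongrHom (alternatingGroup α)).trans
    (MulEquiv.subgroupCongr (by
      ext g
      rw [Equiv.Perm.mem_alternatingGroup]
      constructor
      · rintro ⟨a, ha, rfl⟩
        simpa [Equiv.permCongrHom] using ha
      · intro hg
        refine ⟨e.permCongrHom.symm g, ?_, e.permCongrHom.apply_symm_apply g⟩
        simpa [Equiv.permCongrHom, Equiv.Perm.mem_alternatingGroup] using hg))

/-- A group of order `|α|!` acting faithfully on `α` is the symmetric group. -/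
theorem nonempty_mulEquiv_perm {n : ℕ} (f : G →* Perm α) (hf : Function.Injective f)
    (hn : Fintype.card α = n) (hG : Nat.card G = n.factorial) :
    Nonempty (G ≃* Perm (Fin n)) := by
  have hb : Function.Bijective f :=
    ⟨hf, (hf.bijective_of_nat_card_le (by rw [Nat.card_perm, Nat.card_eq_fintype_card, hn, hG])).2⟩
  exact ⟨(MulEquiv.ofBijective f hb).trans (Fintype.equivFinOfCardEq hn).permCongrHom⟩

/-- A group of order `|α|!/2` acting faithfully on `α` is the alternating group. -/
theorem nonempty_mulEquiv_alternating {n : ℕ} (f : G →* Perm α) (hf : Function.Injective f)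
    (hn : Fintype.card α = n) (hG : 2 * Nat.card G = n.factorial) :
    Nonempty (G ≃* alternatingGroup (Fin n)) := by
  have hc : Nat.card f.range * 2 = Nat.card (Perm α) := by
    rw [Nat.card_perm, Nat.card_eq_fintype_card (α := α), hn, ← hG,
      ← Nat.card_congr (MonoidHom.ofInjective hf).toEquiv, Nat.mul_comm]
  have h1 := f.range.card_mul_index
  have hi : f.range.index = 2 := by
    have : 0 < Nat.card f.range := Nat.card_pos
    exact Nat.eq_of_mul_eq_mul_left this (h1.trans hc.symm)
  have he := Equiv.Perm.eq_alternatingGroup_of_index_eq_two hi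
  exact ⟨((MonoidHom.ofInjective hf).trans (MulEquiv.subgroupCongr he)).trans (altCongrFin hn)⟩

/-- Two groups of equal finite order inside the same group, the generators of the first lying in
the second, are isomorphic. -/
theorem nonempty_mulEquiv_of_closure {A : Type u} {B : Type w} {P : Type v} [Group A] [Group B]
    [Group P] [Finite A] [Finite B] (f : A →* P) (g : B →* P) (hf : Function.Injective f)
    (hg : Function.Injective g) (S : Set A) (hS : Subgroup.closure S = ⊤)
    (h : ∀ s ∈ S, f s ∈ g.range) (hc : Nat.card A = Nat.card B) : Nonempty (A ≃* B) := by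
  have hle : f.range ≤ g.range := by
    rw [MonoidHom.range_eq_map, ← hS, MonoidHom.map_closure, Subgroup.closure_le]
    rintro _ ⟨s, hs, rfl⟩
    exact h s hs
  let eA := MonoidHom.ofInjective hf
  let eB := MonoidHom.ofInjective hg
  let φ : A →* B := eB.symm.toMonoidHom.comp ((Subgroup.inclusion hle).comp eA.toMonoidHom)
  have hφ : Function.Injective φ :=
    eB.symm.injective.comp ((Subgroup.inclusion_injective hle).comp eA.injective)
  exact ⟨MulEquiv.ofBijective φ ⟨hφ, (hφ.bijective_of_nat_card_le hc.ge).2⟩⟩

/-- A simple group of order 60 with a faithful action on six points is `A₅`. -/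
theorem nonempty_mulEquiv_alternating_five_of_six [IsSimpleGroup G] (f : G →* Perm α)
    (hf : Function.Injective f) (hn : Fintype.card α = 6) (hG : Nat.card G = 60) :
    Nonempty (G ≃* alternatingGroup (Fin 5)) := by
  classical
  have hfin : Finite G := Nat.finite_of_card_ne_zero (by omega)
  have hsign : ∀ x, f x ∈ alternatingGroup α := by
    rcases ((Equiv.Perm.sign : Perm α →* ℤˣ).comp f).normal_ker.eq_bot_or_eq_top with h | h
    · exfalso
      have h2 := Nat.card_le_card_of_injective _ ((MonoidHom.ker_eq_bot_iff _).mp h)
      rw [hG, Nat.card_eq_fintype_card, Fintype.card_units_int] at h2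
      omega
    · intro x
      exact Equiv.Perm.mem_alternatingGroup.mpr
        (MonoidHom.mem_ker.mp (h ▸ Subgroup.mem_top x :))
  let g : G →* alternatingGroup α := f.codRestrict _ hsign
  have hg : Function.Injective g := fun a b h => hf (congrArg Subtype.val h)
  let A := alternatingGroup α
  have hA : Nat.card A = 360 := by
    have : Nontrivial α := Fintype.one_lt_card_iff_nontrivial.mp (by omega)
    rw [nat_card_alternatingGroup, Nat.card_eq_fintype_card, hn]
    decide
  have hsimple : IsSimpleGroup A :=
    alternatingGroup.isSimpleGroup (by rw [Nat.card_eq_fintype_card]; omega)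
  set H := g.range with hH
  have hcH : Nat.card H = 60 := by
    rw [← Nat.card_congr (MonoidHom.ofInjective hg).toEquiv, hG]
  have hidx : H.index = 6 := by
    have := H.card_mul_index
    rw [hcH, hA] at this
    omega
  let π : A →* Perm (A ⧸ H) := MulAction.toPermHom A (A ⧸ H)
  have hπ : Function.Injective π := by
    rw [← MonoidHom.ker_eq_bot_iff]
    rcases π.normal_ker.eq_bot_or_eq_top with h | h
    · exact h
    · exfalso
      have hone : Subsingleton (A ⧸ H) := by
        refine ⟨fun x y => ?_⟩
        obtain ⟨a, ha⟩ := MulAction.exists_smul_eq A x y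
        have : π a = 1 := MonoidHom.mem_ker.mp (h ▸ Subgroup.mem_top a :)
        rw [← ha]
        exact (congrArg (fun p : Perm (A ⧸ H) => p x) this).symm
      have := Finite.card_le_one_iff_subsingleton.mpr hone
      rw [← Subgroup.index_eq_card] at this
      omega
  let x₀ : A ⧸ H := ((1 : A) : A ⧸ H)
  have hfix : ∀ x : H, π (x : A) x₀ = x₀ := by
    intro x
    show (((x : A) * 1 : A) : A ⧸ H) = ((1 : A) : A ⧸ H)
    rw [mul_one, QuotientGroup.eq, mul_one]
    exact inv_mem x.2
  have hmem : ∀ (x : H) (y : A ⧸ H), π (x : A) y ≠ x₀ ↔ y ≠ x₀ := by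
    intro x y
    refine not_congr ⟨fun h => (π (x : A)).injective (h.trans (hfix x).symm), ?_⟩
    rintro rfl
    exact hfix x
  let ψ : H →* Perm {y : A ⧸ H // y ≠ x₀} :=
    { toFun := fun x => (π (x : A)).subtypePerm (hmem x)
      map_one' := by ext; simp
      map_mul' := fun x y => by ext z; simp only [Equiv.Perm.subtypePerm_apply, Equiv.Perm.mul_apply, Subgroup.coe_mul, map_mul] }
  have hψ : Function.Injective ψ := by
    intro x y h
    apply Subtype.ext
    apply hπ
    ext z
    by_cases hz : z = x₀
    · rw [hz, hfix, hfix]
    · exact congrArg (fun p : Perm {y : A ⧸ H // y ≠ x₀} => (p ⟨z, hz⟩ : A ⧸ H)) h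
  have := Fintype.ofFinite (A ⧸ H)
  have hcard : Fintype.card {y : A ⧸ H // y ≠ x₀} = 5 := by
    rw [Fintype.card_subtype_compl, Fintype.card_subtype_eq, ← Nat.card_eq_fintype_card,
      ← Subgroup.index_eq_card, hidx]
  obtain ⟨e⟩ := nonempty_mulEquiv_alternating ψ hψ hcard (by rw [hcH]; decide)
  exact ⟨(MonoidHom.ofInjective hg).trans e⟩

end Cfsg.Agent.LinearGroup
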