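import Mathlib.LinearAlgebra.Projectivization.Action
import Mathlib.LinearAlgebra.Projectivization.Cardinality
import Mathlib.FieldTheory.Finite.GaloisField
import Cfsg.Agent.Lib.LinearGroup.Card
import Cfsg.Agent.Lib.LinearGroup.Simple
import Cfsg.Agent.Lib.LinearGroup.PermTools

/-!
`SL₂(2) ≅ S₃`, `PSL₂(3) ≅ A₄`, `PSL₂(4) ≅ A₅`, `PSL₂(5) ≅ A₅`; base change along ring
equivalences (helper9).
-/

set_option autoImplicit false

namespace Cfsg.Agent.LinearGroup

open Matrix Equiv
open scoped LinearAlgebra.Projectivization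

universe u v w
variable {n : Type w} [DecidableEq n] [Fintype n] {R : Type u} {S : Type v} [CommRing R] [CommRing S]

/-- `SL n` of isomorphic rings. -/
def slCongr (e : R ≃+* S) : Matrix.SpecialLinearGroup n R ≃* Matrix.SpecialLinearGroup n S :=
  { Matrix.SpecialLinearGroup.map (n := n) (e : R →+* S) with
    invFun := Matrix.SpecialLinearGroup.map (n := n) (e.symm : S →+* R)
    left_inv := fun A => by ext i j; exact e.symm_apply_apply _
    right_inv := fun A => by ext i j; exact e.apply_symm_apply _ }

/-- `PSL n` of isomorphic rings. -/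
noncomputable def pslCongr (e : R ≃+* S) :
    Matrix.ProjectiveSpecialLinearGroup n R ≃* Matrix.ProjectiveSpecialLinearGroup n S :=
  QuotientGroup.congr _ _ (slCongr e) (by
    ext g
    rw [Subgroup.mem_map]
    constructor
    · rintro ⟨a, ha, rfl⟩
      rw [Subgroup.mem_center_iff] at ha ⊢
      intro b
      obtain ⟨c, rfl⟩ := (slCongr e).surjective b
      simp only [MonoidHom.coe_coe]
      rw [← map_mul, ← map_mul, ha c]
    · intro hg
      refine ⟨(slCongr e).symm g, ?_, (slCongr e).apply_symm_apply g⟩
      rw [Subgroup.mem_center_iff] at hg ⊢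
      intro b
      apply (slCongr e).injective
      rw [map_mul, map_mul, MulEquiv.apply_symm_apply]
      exact hg _)

variable {F : Type u} [Field F] [Finite F]

theorem card_projectiveLine : Nat.card (ℙ F (Fin 2 → F)) = Nat.card F + 1 :=
  Projectivization.card_of_finrank_two F _ (by simp)

theorem psl_two_two (hF : Nat.card F = 2) :
    Nonempty (Matrix.SpecialLinearGroup (Fin 2) F ≃* Perm (Fin 3)) := by
  classical
  have hbot : Subgroup.center (Matrix.SpecialLinearGroup (Fin 2) F) = ⊥ := by
    rw [← Subgroup.card_eq_one, card_center_SL, hF]; simp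
  have := Fintype.ofFinite (ℙ F (Fin 2 → F))
  refine nonempty_mulEquiv_perm (MulAction.toPermHom (Matrix.SpecialLinearGroup (Fin 2) F)
    (ℙ F (Fin 2 → F))) ?_ (by rw [← Nat.card_eq_fintype_card, card_projectiveLine, hF]) ?_
  · rw [← MonoidHom.ker_eq_bot_iff, Projectivization.SL_mulAction_ker, hbot]
  · rw [card_SL_two, hF]; decide

theorem psl_two_small (hF : Nat.card F = 3 ∨ Nat.card F = 4) :
    Nonempty (Matrix.ProjectiveSpecialLinearGroup (Fin 2) F ≃*
      alternatingGroup (Fin (Nat.card F + 1))) := by
  classical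
  have := Fintype.ofFinite (ℙ F (Fin 2 → F))
  refine nonempty_mulEquiv_alternating (Projectivization.PSLAction.toPermHom (K := F) (ι := Fin 2))
    Matrix.ProjectiveSpecialLinearGroup.toPermHom_injective
    (by rw [← Nat.card_eq_fintype_card, card_projectiveLine]) ?_
  have h := gcd_mul_card_PSL_two (F := F)
  rcases hF with hF | hF <;> rw [hF] at h ⊢ <;> simp [Nat.factorial] at h ⊢ <;> omega

theorem psl_two_five (hF : Nat.card F = 5) :
    Nonempty (Matrix.ProjectiveSpecialLinearGroup (Fin 2) F ≃* alternatingGroup (Fin 5)) := by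
  classical
  have := Fintype.ofFinite (ℙ F (Fin 2 → F))
  have : IsSimpleGroup (Matrix.ProjectiveSpecialLinearGroup (Fin 2) F) :=
    Matrix.ProjectiveSpecialLinearGroup.rank_two_simple (by omega)
  refine nonempty_mulEquiv_alternating_five_of_six
    (Projectivization.PSLAction.toPermHom (K := F) (ι := Fin 2))
    Matrix.ProjectiveSpecialLinearGroup.toPermHom_injective
    (by rw [← Nat.card_eq_fintype_card, card_projectiveLine, hF]) ?_
  have h := gcd_mul_card_PSL_two (F := F)
  rw [hF] at h
  simp at h
  omega

end Cfsg.Agent.LinearGroup
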