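import Cfsg.Agent.Lib.LinearGroup.Card
import Mathlib.Algebra.QuadraticAlgebra.Basic
import Mathlib.GroupTheory.Sylow
import Mathlib.GroupTheory.SpecificGroups.Quaternion
import Mathlib.Algebra.CharP.Basic
import Mathlib.FieldTheory.Finite.Basic
import Mathlib.NumberTheory.LegendreSymbol.QuadraticChar.Basic

/-!
Tori of `SL₂(q)` and its Sylow subgroups away from the characteristic: cyclic for odd primes,
generalised quaternion for the prime two (helper9).
-/

set_option autoImplicit false

namespace Cfsg.Agent.LinearGroup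

open Matrix

universe u v
variable {F : Type u} [Field F] [Finite F]

/-- The split torus. -/
noncomputable def splitTorus : Fˣ →* Matrix.SpecialLinearGroup (Fin 2) F :=
  MonoidHom.mk' (fun t => ⟨!![(t : F), 0; 0, ((t⁻¹ : Fˣ) : F)], by rw [Matrix.det_fin_two_of]; simp⟩)
    (fun s t => Subtype.ext (by
      show _ = (!![(s : F), 0; 0, ((s⁻¹ : Fˣ) : F)] : Matrix (Fin 2) (Fin 2) F) *
        !![(t : F), 0; 0, ((t⁻¹ : Fˣ) : F)]
      rw [Matrix.mul_fin_two]
      simp [mul_comm]))

theorem splitTorus_val (t : Fˣ) :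
    (splitTorus t).1 = !![(t : F), 0; 0, ((t⁻¹ : Fˣ) : F)] := rfl

theorem splitTorus_injective : Function.Injective (splitTorus (F := F)) := by
  intro s t h
  have h' := congrFun (congrFun (congrArg Subtype.val h) 0) 0
  rw [splitTorus_val, splitTorus_val] at h'
  exact Units.ext (by simpa using h')

section quadratic

variable (a b : F) [hab : Fact (∀ r : F, r ^ 2 ≠ a + b * r)]

instance finite_quadraticAlgebra : Finite (QuadraticAlgebra F a b) :=
  Finite.of_equiv _ (QuadraticAlgebra.equivProd a b).symm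

/-- The norm on units of a quadratic extension. -/
noncomputable def unitsNorm : (QuadraticAlgebra F a b)ˣ →* Fˣ :=
  Units.map (QuadraticAlgebra.norm (a := a) (b := b))

/-- The field element underlying a norm one unit. -/
noncomputable def torVal (z : (unitsNorm a b).ker) : QuadraticAlgebra F a b :=
  ((z : (QuadraticAlgebra F a b)ˣ) : QuadraticAlgebra F a b)

theorem norm_torVal (z : (unitsNorm a b).ker) : QuadraticAlgebra.norm (torVal a b z) = 1 :=
  congrArg Units.val (MonoidHom.mem_ker.mp z.2)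

/-- Left multiplication by a norm one element. -/
noncomputable def nonsplitTorus :
    (unitsNorm a b).ker →* Matrix.SpecialLinearGroup (Fin 2) F :=
  MonoidHom.mk' (fun z => ⟨!![(torVal a b z).re, a * (torVal a b z).im;
      (torVal a b z).im, (torVal a b z).re + b * (torVal a b z).im], by
    have h := norm_torVal a b z
    rw [QuadraticAlgebra.norm_def] at h
    rw [Matrix.det_fin_two_of]
    linear_combination h⟩)
  (fun z w => Subtype.ext (by
    have e : torVal a b (z * w) = torVal a b z * torVal a b w := rfl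
    show !![(torVal a b (z * w)).re, a * (torVal a b (z * w)).im; (torVal a b (z * w)).im,
        (torVal a b (z * w)).re + b * (torVal a b (z * w)).im] =
      (!![(torVal a b z).re, a * (torVal a b z).im; (torVal a b z).im,
        (torVal a b z).re + b * (torVal a b z).im] : Matrix (Fin 2) (Fin 2) F) *
      !![(torVal a b w).re, a * (torVal a b w).im; (torVal a b w).im,
        (torVal a b w).re + b * (torVal a b w).im]
    rw [e, Matrix.mul_fin_two, QuadraticAlgebra.re_mul, QuadraticAlgebra.im_mul]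
    ext i j
    fin_cases i <;> fin_cases j <;> simp <;> ring))

theorem nonsplitTorus_val (z : (unitsNorm a b).ker) :
    (nonsplitTorus a b z).1 = !![(torVal a b z).re, a * (torVal a b z).im; (torVal a b z).im,
      (torVal a b z).re + b * (torVal a b z).im] := rfl

theorem nonsplitTorus_injective : Function.Injective (nonsplitTorus a b) := by
  intro z w h
  have h' := congrArg Subtype.val h
  rw [nonsplitTorus_val, nonsplitTorus_val] at h'
  exact Subtype.ext (Units.ext (QuadraticAlgebra.ext (by simpa [torVal] using congrFun (congrFun h' 0) 0)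
    (by simpa [torVal] using congrFun (congrFun h' 1) 0)))

theorem dvd_card_nonsplit : Nat.card F + 1 ∣ Nat.card (unitsNorm a b).ker := by
  have hq : 1 < Nat.card F := Finite.one_lt_card
  have hE : Nat.card (QuadraticAlgebra F a b)ˣ = Nat.card F ^ 2 - 1 := by
    rw [Nat.card_units, Nat.card_congr (QuadraticAlgebra.equivProd a b), Nat.card_prod, sq]
  have h1 := Subgroup.card_eq_card_quotient_mul_card_subgroup (unitsNorm a b).ker
  rw [Nat.card_congr (QuotientGroup.quotientKerEquivRange (unitsNorm a b)).toEquiv, hE] at h1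
  obtain ⟨c, hc⟩ : Nat.card (unitsNorm a b).range ∣ Nat.card F - 1 := by
    rw [← natCard_units_field]; exact Subgroup.card_subgroup_dvd_card _
  have hsq : Nat.card F ^ 2 - 1 = (Nat.card F + 1) * (Nat.card F - 1) := by
    rw [← Nat.sq_sub_sq, one_pow]
  rw [hsq, hc] at h1
  have hpos : 0 < Nat.card (unitsNorm a b).range := Nat.card_pos
  refine ⟨c, Nat.eq_of_mul_eq_mul_left hpos ?_⟩
  rw [← h1]; ring

end quadratic

theorem exists_irreducible_quadratic : ∃ a b : F, ∀ r : F, r ^ 2 ≠ a + b * r := by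
  haveI := Fintype.ofFinite F
  have hns : ¬ Function.Surjective (fun r : F => r ^ 2 + r) := by
    intro hs
    have h1 : (0 : F) = -1 := Finite.injective_iff_surjective.mpr hs (by simp)
    simp at h1
  simp only [Function.Surjective, not_forall, not_exists] at hns
  obtain ⟨a, ha⟩ := hns
  exact ⟨a, -1, fun r h => ha r (by linear_combination h)⟩

/-- There is a cyclic subgroup of order `q - 1` and one of order divisible by `q + 1`. -/
theorem exists_cyclic_subgroup (d : ℕ) (hd : d ∣ Nat.card F - 1 ∨ d ∣ Nat.card F + 1) :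
    ∃ C : Subgroup (Matrix.SpecialLinearGroup (Fin 2) F), IsCyclic C ∧ d ∣ Nat.card C := by
  rcases hd with hd | hd
  · refine ⟨(splitTorus (F := F)).range, isCyclic_of_surjective _ (MonoidHom.rangeRestrict_surjective _), ?_⟩
    rwa [← Nat.card_congr (MonoidHom.ofInjective splitTorus_injective).toEquiv, natCard_units_field]
  · obtain ⟨a, b, hab⟩ := exists_irreducible_quadratic (F := F)
    haveI : Fact (∀ r : F, r ^ 2 ≠ a + b * r) := ⟨hab⟩
    refine ⟨(nonsplitTorus a b).range, isCyclic_of_surjective _ (MonoidHom.rangeRestrict_surjective _), ?_⟩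
    rw [← Nat.card_congr (MonoidHom.ofInjective (nonsplitTorus_injective a b)).toEquiv]
    exact hd.trans (dvd_card_nonsplit a b)

theorem odd_prime_pow_dvd {r e A B : ℕ} (hr : r.Prime) (hr2 : r ≠ 2) (hB : B = A + 2)
    (h : r ^ e ∣ A * B) : r ^ e ∣ A ∨ r ^ e ∣ B := by
  by_cases hA : r ∣ A
  · left
    have hnB : ¬ r ∣ B := fun hB' => hr2 ((Nat.prime_dvd_prime_iff_eq hr Nat.prime_two).mp
      ((Nat.dvd_add_right hA).mp (hB ▸ hB')))
    exact (Nat.Coprime.pow_left e (hr.coprime_iff_not_dvd.mpr hnB)).dvd_of_dvd_mul_right h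
  · exact Or.inr ((Nat.Coprime.pow_left e (hr.coprime_iff_not_dvd.mpr hA)).dvd_of_dvd_mul_left h)

/-- For an odd prime different from the characteristic the Sylow subgroups of `SL₂` are cyclic. -/
theorem isCyclic_sylow_SL_two {r : ℕ} [hr : Fact r.Prime] (hr2 : r ≠ 2) (hrq : ¬ r ∣ Nat.card F)
    (R : Sylow r (Matrix.SpecialLinearGroup (Fin 2) F)) :
    IsCyclic (R : Subgroup (Matrix.SpecialLinearGroup (Fin 2) F)) := by
  set e := (Nat.card (Matrix.SpecialLinearGroup (Fin 2) F)).factorization r with he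
  have hq : 1 < Nat.card F := Finite.one_lt_card
  have hdvd : r ^ e ∣ (Nat.card F - 1) * (Nat.card F + 1) := by
    have h := Nat.ordProj_dvd (Nat.card (Matrix.SpecialLinearGroup (Fin 2) F)) r
    rw [← he, card_SL_two] at h
    have := (Nat.Coprime.pow_left e (hr.out.coprime_iff_not_dvd.mpr hrq)).dvd_of_dvd_mul_left h
    rwa [← one_pow 2, Nat.sq_sub_sq, Nat.mul_comm] at this
  obtain ⟨C, hC, hdC⟩ := exists_cyclic_subgroup (F := F) (r ^ e)
    (odd_prime_pow_dvd hr.out hr2 (by omega) hdvd)
  obtain ⟨g, hg⟩ := hC.exists_generator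
  have hord : orderOf (g : Matrix.SpecialLinearGroup (Fin 2) F) = Nat.card C := by
    rw [Subgroup.orderOf_coe, orderOf_eq_card_of_forall_mem_zpowers hg]
  set x := (g : Matrix.SpecialLinearGroup (Fin 2) F) ^ (orderOf (g : Matrix.SpecialLinearGroup (Fin 2) F) / r ^ e)
  have hx : orderOf x = r ^ e :=
    orderOf_pow_orderOf_div (orderOf_pos _).ne' (hord ▸ hdC)
  let T : Sylow r (Matrix.SpecialLinearGroup (Fin 2) F) :=
    Sylow.ofCard (Subgroup.zpowers x) (by rw [Nat.card_zpowers, hx])
  haveI : IsCyclic (T : Subgroup (Matrix.SpecialLinearGroup (Fin 2) F)) :=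
    inferInstanceAs (IsCyclic (Subgroup.zpowers x))
  exact isCyclic_of_surjective (Sylow.equiv T R) (Sylow.equiv T R).surjective

/-- A homomorphism from a generalised quaternion group. -/
theorem exists_quaternion_hom {G : Type v} [Group G] {n : ℕ} [NeZero n] (a x : G)
    (ha : a ^ (2 * n) = 1) (hx : x * x = a ^ n) (hax : x * a = a⁻¹ * x) :
    ∃ f : QuaternionGroup n →* G,
      f (QuaternionGroup.a 1) = a ∧ f (QuaternionGroup.xa 0) = x ∧
      (∀ i : ZMod (2 * n), f (QuaternionGroup.a i) = a ^ i.val) ∧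
      ∀ i : ZMod (2 * n), f (QuaternionGroup.xa i) = x * a ^ i.val := by
  have hconj : ∀ k : ℕ, a ^ k * x = x * (a ^ k)⁻¹ := by
    intro k
    have h1 : x * a⁻¹ = a * x := by
      rw [eq_comm, ← eq_inv_mul_iff_mul_eq, ← mul_assoc, ← hax, mul_inv_cancel_right]
    induction k with
    | zero => simp
    | succ k ih =>
      rw [pow_succ, mul_assoc, ← h1, ← mul_assoc, ih, mul_assoc, _root_.mul_inv_rev, ← inv_pow]
      congr 1
      exact (Commute.self_pow a⁻¹ k).eq.symm
  let φ : ZMod (2 * n) → G := fun i => a ^ i.val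
  have φadd : ∀ i j, φ (i + j) = φ i * φ j := by
    intro i j
    show a ^ (i + j).val = _
    rw [ZMod.val_add, ← pow_eq_pow_mod _ ha, pow_add]
  have φn : φ (n : ZMod (2 * n)) = a ^ n := by
    show a ^ (n : ZMod (2 * n)).val = a ^ n
    rw [ZMod.val_natCast, ← pow_eq_pow_mod _ ha]
  have φ0 : φ 0 = 1 := by show a ^ (0 : ZMod (2 * n)).val = 1; simp
  have φneg : ∀ i, φ (-i) = (φ i)⁻¹ := by
    intro i
    rw [eq_inv_iff_mul_eq_one, ← φadd, neg_add_cancel, φ0]
  let f : QuaternionGroup n → G := fun g => match g with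
    | QuaternionGroup.a i => φ i
    | QuaternionGroup.xa i => x * φ i
  have hf : ∀ g h, f (g * h) = f g * f h := by
    rintro (i | i) (j | j)
    · exact φadd i j
    · show x * φ (j - i) = φ i * (x * φ j)
      rw [← mul_assoc, hconj, mul_assoc, ← φneg, ← φadd]
      congr 2; ring
    · show x * φ (i + j) = x * φ i * φ j
      rw [φadd, mul_assoc]
    · show φ (↑n + j - i) = x * φ i * (x * φ j)
      rw [mul_assoc, ← mul_assoc (φ i), hconj, mul_assoc x, ← mul_assoc x x, hx, ← φn, ← φneg, ← φadd, ← φadd]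
      congr 1; ring
  refine ⟨MonoidHom.mk' f hf, ?_, ?_, fun i => rfl, fun i => rfl⟩
  · show φ 1 = a
    show a ^ (1 : ZMod (2 * n)).val = a
    haveI : Fact (1 < 2 * n) := ⟨by have := NeZero.ne n; omega⟩
    rw [ZMod.val_one, pow_one]
  · show x * φ 0 = x
    rw [φ0, mul_one]

/-- The generalised quaternion subgroup generated by `a` and `x`. -/
theorem exists_quaternion_subgroup {G : Type v} [Group G] {n : ℕ} [NeZero n] (hn : 2 ≤ n)
    (a x : G) (ha : orderOf a = 2 * n) (hx : x * x = a ^ n) (hax : x * a = a⁻¹ * x) :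
    ∃ f : QuaternionGroup n →* G, Function.Injective f := by
  obtain ⟨f, -, -, hfa, hfx⟩ := exists_quaternion_hom a x (ha ▸ pow_orderOf_eq_one a) hx hax
  refine ⟨f, (injective_iff_map_eq_one f).mpr ?_⟩
  rintro (i | i) hi
  · rw [hfa] at hi
    have h0 : i.val = 0 := by
      by_contra h
      exact absurd (orderOf_le_of_pow_eq_one (Nat.pos_of_ne_zero h) hi)
        (by rw [ha]; have := ZMod.val_lt i; omega)
    rw [(ZMod.val_eq_zero i).mp h0]
    exact QuaternionGroup.a_zero
  · rw [hfx] at hi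
    exfalso
    have hxa : x = (a ^ i.val)⁻¹ := eq_inv_of_mul_eq_one_left hi
    have hcomm : x * a = a * x := by rw [hxa]; exact ((Commute.self_pow a i.val).inv_right).eq.symm
    rw [hcomm] at hax
    have h2 : a ^ 2 = 1 := by
      rw [sq]
      nth_rewrite 1 [mul_right_cancel hax]
      exact inv_mul_cancel a
    have := orderOf_le_of_pow_eq_one two_pos h2
    omega

theorem eq_neg_one_of_sq_eq_one (h2 : (2 : F) ≠ 0) (A : Matrix.SpecialLinearGroup (Fin 2) F)
    (hA : A * A = 1) (hne : A ≠ 1) : A.1 = -1 := by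
  have hdet := A.2
  rw [Matrix.det_fin_two] at hdet
  have hinv : A⁻¹ = A := inv_eq_of_mul_eq_one_left hA
  have hadj : Matrix.adjugate A.1 = A.1 := congrArg Subtype.val hinv
  rw [Matrix.adjugate_fin_two] at hadj
  have e00 : A.1 1 1 = A.1 0 0 := by simpa using congrFun (congrFun hadj 0) 0
  have e01 : -A.1 0 1 = A.1 0 1 := by simpa using congrFun (congrFun hadj 0) 1
  have e10 : -A.1 1 0 = A.1 1 0 := by simpa using congrFun (congrFun hadj 1) 0
  have z01 : A.1 0 1 = 0 := by
    have : 2 * A.1 0 1 = 0 := by linear_combination -e01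
    exact (mul_eq_zero.mp this).resolve_left h2
  have z10 : A.1 1 0 = 0 := by
    have : 2 * A.1 1 0 = 0 := by linear_combination -e10
    exact (mul_eq_zero.mp this).resolve_left h2
  rw [z01, zero_mul, sub_zero, e00] at hdet
  rcases mul_self_eq_one_iff.mp hdet with h | h
  · exact absurd (Subtype.ext (by ext i j; fin_cases i <;> fin_cases j <;> simp [e00, z01, z10, h])) hne
  · ext i j; fin_cases i <;> fin_cases j <;> simp [e00, z01, z10, h]

/-- A quaternion Sylow 2-subgroup, given a cyclic torus inverted by an element squaring to `-1`. -/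
theorem quaternion_sylow_of_torus (h2 : (2 : F) ≠ 0) {m : ℕ} (hm : 2 ≤ m)
    (hfac : (Nat.card (Matrix.SpecialLinearGroup (Fin 2) F)).factorization 2 = m + 1)
    {C : Type v} [CommGroup C] [Finite C] [IsCyclic C]
    (φ : C →* Matrix.SpecialLinearGroup (Fin 2) F) (hφ : Function.Injective φ)
    (hC : 2 ^ m ∣ Nat.card C) (x : Matrix.SpecialLinearGroup (Fin 2) F) (hx2 : (x * x).1 = -1)
    (hinv : ∀ c, x * φ c = (φ c)⁻¹ * x)
    (P : Sylow 2 (Matrix.SpecialLinearGroup (Fin 2) F)) :
    ∃ k : ℕ, 1 ≤ k ∧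
      Nonempty ((P : Subgroup (Matrix.SpecialLinearGroup (Fin 2) F)) ≃* QuaternionGroup (2 ^ k)) := by
  obtain ⟨k, rfl⟩ : ∃ k, m = k + 1 := ⟨m - 1, by omega⟩
  obtain ⟨g, hg⟩ := IsCyclic.exists_generator (α := C)
  set c := g ^ (orderOf g / 2 ^ (k + 1))
  have hc : orderOf c = 2 ^ (k + 1) :=
    orderOf_pow_orderOf_div (orderOf_pos g).ne' (by rw [orderOf_eq_card_of_forall_mem_zpowers hg]; exact hC)
  have ha : orderOf (φ c) = 2 * 2 ^ k := by rw [orderOf_injective φ hφ, hc, pow_succ']
  haveI : NeZero (2 ^ k) := ⟨by positivity⟩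
  have hsq : φ c ^ 2 ^ k * φ c ^ 2 ^ k = 1 := by
    rw [← pow_add, ← two_mul, ← ha, pow_orderOf_eq_one]
  have hne : φ c ^ 2 ^ k ≠ 1 := by
    intro h
    have := orderOf_le_of_pow_eq_one (Nat.two_pow_pos k) h
    have := Nat.two_pow_pos k
    omega
  have hx : x * x = φ c ^ 2 ^ k := Subtype.ext (hx2.trans (eq_neg_one_of_sq_eq_one h2 _ hsq hne).symm)
  have hk2 : 2 ≤ 2 ^ k := by
    calc 2 = 2 ^ 1 := rfl
    _ ≤ 2 ^ k := Nat.pow_le_pow_right (by norm_num) (by omega)
  obtain ⟨f, hf⟩ := exists_quaternion_subgroup hk2 (φ c) x ha hx (hinv c)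
  have hcard : Nat.card f.range = 2 ^ (Nat.card (Matrix.SpecialLinearGroup (Fin 2) F)).factorization 2 := by
    rw [← Nat.card_congr (MonoidHom.ofInjective hf).toEquiv, Nat.card_eq_fintype_card,
      QuaternionGroup.card, hfac, pow_succ, pow_succ]
    ring
  haveI : Fact (Nat.Prime 2) := ⟨Nat.prime_two⟩
  exact ⟨k, by omega, ⟨(Sylow.equiv P (Sylow.ofCard f.range hcard)).trans (MonoidHom.ofInjective hf).symm⟩⟩

theorem two_part_SL_two (hodd : Odd (Nat.card F)) :
    ∃ m, 2 ≤ m ∧ (Nat.card (Matrix.SpecialLinearGroup (Fin 2) F)).factorization 2 = m + 1 ∧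
      ((Nat.card F % 4 = 1 ∧ 2 ^ m ∣ Nat.card F - 1) ∨
        (Nat.card F % 4 = 3 ∧ 2 ^ m ∣ Nat.card F + 1)) := by
  have hq : 1 < Nat.card F := Finite.one_lt_card
  set q := Nat.card F with hq'
  obtain ⟨t, ht⟩ := hodd
  have hfac : (Nat.card (Matrix.SpecialLinearGroup (Fin 2) F)).factorization 2 =
      (q - 1).factorization 2 + (q + 1).factorization 2 := by
    rw [card_SL_two, ← hq', show q ^ 2 - 1 = (q + 1) * (q - 1) from Nat.sq_sub_sq q 1,
      Nat.factorization_mul (by omega) (Nat.mul_ne_zero (by omega) (by omega)), Finsupp.add_apply,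
      Nat.factorization_mul (by omega) (by omega), Finsupp.add_apply,
      Nat.factorization_eq_zero_of_not_dvd (by omega : ¬ 2 ∣ q)]
    omega
  rcases (by omega : q % 4 = 1 ∨ q % 4 = 3) with h4 | h4
  · have h1 : (q + 1).factorization 2 = 1 := by
      obtain ⟨w, hw⟩ : ∃ w, q + 1 = 2 * (2 * w + 1) := ⟨(q + 1) / 4, by omega⟩
      rw [hw, Nat.factorization_mul (by omega) (by omega), Finsupp.add_apply,
        Nat.prime_two.factorization_self, Nat.factorization_eq_zero_of_not_dvd (by omega)]
    refine ⟨(q - 1).factorization 2, ?_, by rw [hfac, h1], Or.inl ⟨h4, Nat.ordProj_dvd _ _⟩⟩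
    exact (Nat.prime_two.pow_dvd_iff_le_factorization (k := 2) (by omega)).mp (by omega)
  · have h1 : (q - 1).factorization 2 = 1 := by
      obtain ⟨w, hw⟩ : ∃ w, q - 1 = 2 * (2 * w + 1) := ⟨(q - 1) / 4, by omega⟩
      rw [hw, Nat.factorization_mul (by omega) (by omega), Finsupp.add_apply,
        Nat.prime_two.factorization_self, Nat.factorization_eq_zero_of_not_dvd (by omega)]
    refine ⟨(q + 1).factorization 2, ?_, by rw [hfac, h1]; omega, Or.inr ⟨h4, Nat.ordProj_dvd _ _⟩⟩
    exact (Nat.prime_two.pow_dvd_iff_le_factorization (k := 2) (by omega)).mp (by omega)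

/-- For `q` odd the Sylow 2-subgroups of `SL₂(q)` are generalised quaternion. -/
theorem quaternion_sylow_SL_two (hodd : Odd (Nat.card F))
    (P : Sylow 2 (Matrix.SpecialLinearGroup (Fin 2) F)) :
    ∃ k : ℕ, 1 ≤ k ∧
      Nonempty ((P : Subgroup (Matrix.SpecialLinearGroup (Fin 2) F)) ≃* QuaternionGroup (2 ^ k)) := by
  haveI := Fintype.ofFinite F
  obtain ⟨p, hp⟩ := CharP.exists F
  haveI : CharP F p := hp
  obtain ⟨n, hpp, hn⟩ := FiniteField.card F p
  haveI : Fact p.Prime := ⟨hpp⟩
  have h2 : (2 : F) ≠ 0 := by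
    intro h
    have hd : p ∣ 2 := (CharP.cast_eq_zero_iff F p 2).mp (by exact_mod_cast h)
    rw [(Nat.prime_dvd_prime_iff_eq hpp Nat.prime_two).mp hd] at hn
    rw [Nat.card_eq_fintype_card, hn, Nat.odd_pow_iff n.pos.ne'] at hodd
    exact absurd hodd (by decide)
  obtain ⟨m, hm, hfac, h⟩ := two_part_SL_two hodd
  rcases h with ⟨-, hd⟩ | ⟨h4, hd⟩
  · refine quaternion_sylow_of_torus h2 hm hfac splitTorus splitTorus_injective
      (by rwa [natCard_units_field]) ⟨!![0, 1; -1, 0], by simp [Matrix.det_fin_two_of]⟩ ?_ ?_ P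
    · show (!![0, 1; -1, 0] : Matrix (Fin 2) (Fin 2) F) * !![0, 1; -1, 0] = -1
      rw [Matrix.mul_fin_two, Matrix.one_fin_two]
      ext i j
      fin_cases i <;> fin_cases j <;> simp
    · intro t
      apply Subtype.ext
      show (!![0, 1; -1, 0] : Matrix (Fin 2) (Fin 2) F) * (splitTorus t).1 =
        Matrix.adjugate (splitTorus t).1 * !![0, 1; -1, 0]
      rw [splitTorus_val, Matrix.adjugate_fin_two_of, Matrix.mul_fin_two, Matrix.mul_fin_two]
      ext i j
      fin_cases i <;> fin_cases j <;> simp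
  · have hns : ∀ r : F, r ^ 2 ≠ (-1) + 0 * r := by
      intro r hr
      refine absurd h4 ?_
      rw [Nat.card_eq_fintype_card]
      exact FiniteField.isSquare_neg_one_iff.mp ⟨r, by linear_combination -hr⟩
    haveI : Fact (∀ r : F, r ^ 2 ≠ (-1) + 0 * r) := ⟨hns⟩
    haveI : NeZero p := ⟨hpp.ne_zero⟩
    obtain ⟨u, w, huw⟩ := CharP.sq_add_sq F p (-1)
    have huw' : (u : F) ^ 2 + (w : F) ^ 2 = -1 := by simpa using huw
    refine quaternion_sylow_of_torus h2 hm hfac (nonsplitTorus (-1 : F) 0)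
      (nonsplitTorus_injective _ _) (hd.trans (dvd_card_nonsplit _ _))
      ⟨!![(u : F), w; w, -u], by rw [Matrix.det_fin_two_of]; linear_combination -huw'⟩ ?_ ?_ P
    · show (!![(u : F), w; w, -u] : Matrix (Fin 2) (Fin 2) F) * !![(u : F), w; w, -u] = -1
      rw [Matrix.mul_fin_two, Matrix.one_fin_two]
      ext i j
      fin_cases i <;> fin_cases j <;> simp <;> (first | linear_combination huw' | linear_combination -huw' | linear_combination (0:F) * huw')
    · intro z
      apply Subtype.ext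
      show (!![(u : F), w; w, -u] : Matrix (Fin 2) (Fin 2) F) * (nonsplitTorus (-1 : F) 0 z).1 =
        Matrix.adjugate (nonsplitTorus (-1 : F) 0 z).1 * !![(u : F), w; w, -u]
      rw [nonsplitTorus_val, Matrix.adjugate_fin_two_of, Matrix.mul_fin_two, Matrix.mul_fin_two]
      ext i j
      fin_cases i <;> fin_cases j <;> simp <;> ring

end Cfsg.Agent.LinearGroup
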