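import Mathlib.GroupTheory.GroupAction.Basic
import Mathlib.GroupTheory.Subgroup.Simple
import Mathlib.Algebra.Group.End
import Mathlib.Data.Fintype.EquivFin

/-!
Permutation representations restricted to a finite labelled invariant family (helper9).
-/

set_option autoImplicit false

namespace Cfsg.Agent.LinearGroup

open Equiv

universe u v w
variable {G : Type u} [Group G] {V : Type w}

/-- Induced action on subsets, given by characteristic functions. -/
def setHom (π : G →* Perm V) : G →* Perm (V → Bool) where
  toFun g := Equiv.arrowCongr (π g) (Equiv.refl Bool)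
  map_one' := by ext f x; simp [Equiv.Perm.one_def]
  map_mul' a b := by ext f x; simp [Equiv.Perm.mul_def]

/-- Induced action on binary relations. -/
def relHom (π : G →* Perm V) : G →* Perm (V → V → Bool) where
  toFun g := Equiv.arrowCongr (π g) (Equiv.arrowCongr (π g) (Equiv.refl Bool))
  map_one' := by ext f x y; simp [Equiv.Perm.one_def]
  map_mul' a b := by ext f x y; simp [Equiv.Perm.mul_def]

theorem setHom_eq_of_forall {π : G →* Perm V} {g : G} {f f' : V → Bool}
    (h : ∀ x, f' (π g x) = f x) : setHom π g f = f' := by
  funext x
  have := h ((π g).symm x)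
  simpa [setHom] using this.symm

theorem relHom_eq_of_forall {π : G →* Perm V} {g : G} {f f' : V → V → Bool}
    (h : ∀ x y, f' (π g x) (π g y) = f x y) : relHom π g f = f' := by
  funext x y
  have := h ((π g).symm x) ((π g).symm y)
  simpa [relHom] using this.symm

variable {X : Type v} {β : Type*} [Finite β] (ρ : G →* Perm X) {enc : β → X}
  (henc : Function.Injective enc)

/-- The elements mapping a labelled family into itself. -/
def famStab (enc : β → X) (henc : Function.Injective enc) : Subgroup G where
  carrier := {g | ∀ i, ∃ j, ρ g (enc i) = enc j}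
  one_mem' := fun i => ⟨i, by simp⟩
  mul_mem' := fun {a b} ha hb i => by
    obtain ⟨j, hj⟩ := hb i
    obtain ⟨k, hk⟩ := ha j
    exact ⟨k, by rw [map_mul, Equiv.Perm.mul_apply, hj, hk]⟩
  inv_mem' := fun {g} hg i => by
    choose σ hσ using hg
    have hinj : Function.Injective σ := fun a b h =>
      henc ((ρ g).injective (by rw [hσ, hσ, h]))
    obtain ⟨j, rfl⟩ := Finite.injective_iff_surjective.mp hinj i
    exact ⟨j, by rw [← hσ, map_inv, Equiv.Perm.coe_inv, Equiv.symm_apply_apply]⟩

theorem famStab_eq_top_of_closure {S : Set G} (hS : Subgroup.closure S = ⊤)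
    (h : ∀ g ∈ S, ∀ i, ∃ j, ρ g (enc i) = enc j) : famStab ρ enc henc = ⊤ := by
  rw [← top_le_iff, ← hS, Subgroup.closure_le]
  exact h

variable (hst : famStab ρ enc henc = ⊤)

/-- The induced permutation of the labels. -/
noncomputable def famPerm (g : G) : Perm β :=
  Equiv.ofBijective
    (fun i => ((hst ▸ Subgroup.mem_top g : g ∈ famStab ρ enc henc) i).choose)
    (Finite.injective_iff_bijective.mp fun a b h => by
      apply henc
      apply (ρ g).injective
      rw [((hst ▸ Subgroup.mem_top g : g ∈ famStab ρ enc henc) a).choose_spec,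
        ((hst ▸ Subgroup.mem_top g : g ∈ famStab ρ enc henc) b).choose_spec]
      exact congrArg enc h)

theorem enc_famPerm (g : G) (i : β) : enc (famPerm ρ henc hst g i) = ρ g (enc i) :=
  (((hst ▸ Subgroup.mem_top g : g ∈ famStab ρ enc henc) i).choose_spec).symm

/-- The induced permutation representation on the labels. -/
noncomputable def famHom : G →* Perm β where
  toFun := famPerm ρ henc hst
  map_one' := by
    ext i
    apply henc
    refine (enc_famPerm ρ henc hst 1 i).trans ?_
    rw [map_one, Equiv.Perm.one_apply, Equiv.Perm.one_apply]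
  map_mul' a b := by
    ext i
    apply henc
    refine (enc_famPerm ρ henc hst (a * b) i).trans ?_
    refine Eq.trans ?_ (enc_famPerm ρ henc hst a _).symm
    rw [enc_famPerm ρ henc hst b i, map_mul, Equiv.Perm.mul_apply]

theorem enc_famHom (g : G) (i : β) : enc (famHom ρ henc hst g i) = ρ g (enc i) :=
  enc_famPerm ρ henc hst g i

/-- `famHom g` is the permutation given by `σ` as soon as `σ` describes `ρ g` on the family. -/
theorem famHom_eq (g : G) (σ : β → β) (h : ∀ i, ρ g (enc i) = enc (σ i)) :
    ⇑(famHom ρ henc hst g) = σ := by
  funext i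
  apply henc
  exact (enc_famHom ρ henc hst g i).trans (h i)

/-- A homomorphism from a simple group which is not trivial is injective. -/
theorem injective_of_simple {H : Type*} [Group H] [IsSimpleGroup G] (f : G →* H) (g : G)
    (hg : f g ≠ 1) : Function.Injective f := by
  rw [← MonoidHom.ker_eq_bot_iff]
  exact f.normal_ker.eq_bot_or_eq_top.resolve_right fun h =>
    hg (MonoidHom.mem_ker.mp (h ▸ Subgroup.mem_top g :))

end Cfsg.Agent.LinearGroup
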