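import Cfsg.Agent.Lib.LinearGroup.SmallPSL
import Cfsg.Agent.Lib.LinearGroup.PermRep
import Mathlib.Data.ZMod.Basic

/-!
Tools for the computed small isomorphisms of projective special linear groups (helper9).
-/

set_option autoImplicit false

namespace Cfsg.Agent.LinearGroup

open Matrix Equiv

universe u v

theorem zmod_addClosure_one (p : ℕ) [NeZero p] : AddSubgroup.closure ({1} : Set (ZMod p)) = ⊤ := by
  rw [eq_top_iff]
  intro x _
  have hx : x.val • (1 : ZMod p) = x := by rw [nsmul_one, ZMod.natCast_zmod_val]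
  have h1 : (1 : ZMod p) ∈ AddSubgroup.closure ({1} : Set (ZMod p)) :=
    AddSubgroup.subset_closure (Set.mem_singleton _)
  exact hx ▸ AddSubgroup.nsmul_mem _ h1 x.val

/-- `SL n F ≃* PSL n F` when `gcd(n, |F| - 1) = 1`. -/
noncomputable def slEquivPSL {n : Type*} [DecidableEq n] [Fintype n] [Nonempty n] {F : Type u}
    [Field F] [Finite F] (h : Nat.gcd (Fintype.card n) (Nat.card F - 1) = 1) :
    Matrix.SpecialLinearGroup n F ≃* Matrix.ProjectiveSpecialLinearGroup n F :=
  (QuotientGroup.quotientBot.symm).trans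
    (QuotientGroup.quotientMulEquivOfEq
      ((Subgroup.card_eq_one.mp (card_center_SL.trans h)).symm))

variable {K : Type u} [Field K]

/-- `SL₂` acting on pairs. -/
def pairHom : Matrix.SpecialLinearGroup (Fin 2) K →* Equiv.Perm (K × K) :=
  (finTwoArrowEquiv K).permCongrHom.toMonoidHom.comp
    (MulAction.toPermHom (Matrix.SpecialLinearGroup (Fin 2) K) (Fin 2 → K))

theorem pairHom_apply (g : Matrix.SpecialLinearGroup (Fin 2) K) (v : K × K) :
    pairHom g v = (g.1 0 0 * v.1 + g.1 0 1 * v.2, g.1 1 0 * v.1 + g.1 1 1 * v.2) := by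
  obtain ⟨x, y⟩ := v
  simp [pairHom, Equiv.permCongrHom, Matrix.SpecialLinearGroup.smul_def, Matrix.mulVec,
    dotProduct, Fin.sum_univ_two]

theorem pairHom_upper (c : K) (v : K × K) :
    pairHom (Matrix.SpecialLinearGroup.transvection (zero_ne_one (α := Fin 2)) c) v =
      (v.1 + c * v.2, v.2) := by
  rw [pairHom_apply]
  simp [Matrix.SpecialLinearGroup.transvection_coe]

theorem pairHom_lower (c : K) (v : K × K) :
    pairHom (Matrix.SpecialLinearGroup.transvection (one_ne_zero (α := Fin 2)) c) v =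
      (v.1, c * v.1 + v.2) := by
  rw [pairHom_apply]
  simp [Matrix.SpecialLinearGroup.transvection_coe]

theorem pairHom_center {g : Matrix.SpecialLinearGroup (Fin 2) K}
    (hg : g ∈ Subgroup.center (Matrix.SpecialLinearGroup (Fin 2) K)) :
    ∃ r : K, r * r = 1 ∧ ∀ v, pairHom g v = (r * v.1, r * v.2) := by
  obtain ⟨r, hr, hrg⟩ := Matrix.SpecialLinearGroup.mem_center_iff.mp hg
  refine ⟨r, by rw [← hr, Fintype.card_fin, sq], fun v => ?_⟩
  rw [pairHom_apply, ← hrg]
  simp [Matrix.scalar_apply]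

end Cfsg.Agent.LinearGroup
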