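import Cfsg.Agent.Lib.LinearGroup.SmallPSL
import Mathlib.GroupTheory.Sylow
import Mathlib.Algebra.CharP.Basic

/-!
Sylow `p`-subgroups of `GL n q` and `SL 2 q` in the defining characteristic (helper9).
-/

set_option autoImplicit false

namespace Cfsg.Agent.LinearGroup

open Matrix MulAction
open scoped LinearAlgebra.Projectivization

universe u
variable {F : Type u} [Field F] [Finite F] (p : ℕ) [hp : Fact p.Prime] [CharP F p]

theorem exists_natCard_eq_pow : ∃ k : ℕ, 0 < k ∧ Nat.card F = p ^ k := by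
  haveI := Fintype.ofFinite F
  obtain ⟨k, -, hk⟩ := FiniteField.card F p
  exact ⟨k, k.pos, by rw [Nat.card_eq_fintype_card, hk]⟩

theorem not_dvd_pow_sub_one {a : ℕ} (ha : 0 < a) : ¬ p ∣ Nat.card F ^ a - 1 := by
  obtain ⟨k, hk, hq⟩ := exists_natCard_eq_pow (F := F) p
  intro h
  have h1 : p ∣ Nat.card F ^ a :=
    hq ▸ dvd_pow (dvd_pow_self p (by omega : k ≠ 0)) (by omega : a ≠ 0)
  have h2 : 1 ≤ Nat.card F ^ a := Nat.one_le_pow _ _ Nat.card_pos
  exact hp.out.not_dvd_one (by
    have := Nat.dvd_sub h1 h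
    rwa [Nat.sub_sub_self h2] at this)

theorem ordProj_eq_of_coprime {G e k : ℕ} (hk : ¬ p ∣ k) (hG : G = p ^ e * k) :
    p ^ G.factorization p = p ^ e := by
  have hk0 : k ≠ 0 := fun h => hk (h ▸ dvd_zero p)
  rw [hG, Nat.factorization_mul (pow_ne_zero _ hp.out.ne_zero) hk0, Finsupp.add_apply,
    Nat.factorization_eq_zero_of_not_dvd hk, hp.out.factorization_pow]
  simp

theorem card_sylow_GL (n : ℕ) (P : Sylow p (GL (Fin n) F)) :
    Nat.card P = Nat.card F ^ (n * (n - 1) / 2) := by
  obtain ⟨k, hk, hq⟩ := exists_natCard_eq_pow (F := F) p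
  have hs : ∑ i : Fin n, (i : ℕ) = n * (n - 1) / 2 := by
    rw [Fin.sum_univ_eq_sum_range (fun i => i), Finset.sum_range_id]
  rw [P.card_eq_multiplicity, ordProj_eq_of_coprime p (e := k * (n * (n - 1) / 2))
    (k := ∏ i ∈ Finset.range n, (Nat.card F ^ (i + 1) - 1)) ?_ ?_, hq, ← pow_mul]
  · intro h
    obtain ⟨i, -, hi⟩ := (Prime.dvd_finset_prod_iff hp.out.prime _).mp h
    exact not_dvd_pow_sub_one p (Nat.succ_pos i) hi
  · rw [card_GL_eq_pow_mul_prod, hs]
    conv_lhs => rw [hq]
    rw [← pow_mul, hq]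

/-- `SL₂` is transitive on nonzero vectors, so a point stabiliser has order `q`. -/
theorem exists_smul_eq_nonzero {v w : Fin 2 → F} (hv : v ≠ 0) (hw : w ≠ 0) :
    ∃ g : Matrix.SpecialLinearGroup (Fin 2) F, g • v = w := by
  have base : ∀ v : Fin 2 → F, v ≠ 0 →
      ∃ g : Matrix.SpecialLinearGroup (Fin 2) F, g • (![1, 0] : Fin 2 → F) = v := by
    intro v hv
    have key : ∀ x y : F, v 0 * y - x * v 1 = 1 →
        ∃ g : Matrix.SpecialLinearGroup (Fin 2) F, g • (![1, 0] : Fin 2 → F) = v := by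
      intro x y h
      refine ⟨⟨!![v 0, x; v 1, y], by rw [Matrix.det_fin_two_of, h]⟩, ?_⟩
      show (!![v 0, x; v 1, y] : Matrix (Fin 2) (Fin 2) F) *ᵥ ![1, 0] = v
      ext i
      fin_cases i <;> simp
    rcases eq_or_ne (v 0) 0 with h0 | h0
    · have h1 : v 1 ≠ 0 := fun h1 => hv (by ext i; fin_cases i <;> assumption)
      exact key (-(v 1)⁻¹) 0 (by field_simp; simp)
    · exact key 0 (v 0)⁻¹ (by field_simp; simp)
  obtain ⟨g, hg⟩ := base v hv
  obtain ⟨k, hk⟩ := base w hw
  exact ⟨k * g⁻¹, by rw [mul_smul, ← hg, inv_smul_smul, hk]⟩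

theorem card_stabilizer_vector {v : Fin 2 → F} (hv : v ≠ 0) :
    Nat.card (stabilizer (Matrix.SpecialLinearGroup (Fin 2) F) v) = Nat.card F := by
  have horb : orbit (Matrix.SpecialLinearGroup (Fin 2) F) v = {w | w ≠ 0} := by
    ext w
    constructor
    · rintro ⟨g, rfl⟩
      exact (smul_ne_zero_iff_ne g).mpr hv
    · intro hw
      obtain ⟨g, hg⟩ := exists_smul_eq_nonzero hv hw
      exact ⟨g, hg⟩
  have h : Nat.card (orbit (Matrix.SpecialLinearGroup (Fin 2) F) v) *
      Nat.card (stabilizer (Matrix.SpecialLinearGroup (Fin 2) F) v) =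
      Nat.card (Matrix.SpecialLinearGroup (Fin 2) F) := by
    rw [← Nat.card_prod]
    exact Nat.card_congr (orbitProdStabilizerEquivGroup _ v)
  have hcard : Nat.card {w : Fin 2 → F | w ≠ 0} = Nat.card F ^ 2 - 1 := by
    haveI := Fintype.ofFinite F
    classical
    simp only [Nat.card_eq_fintype_card, Set.coe_setOf]
    rw [Fintype.card_subtype_compl, Fintype.card_subtype_eq, Fintype.card_fun, Fintype.card_fin]
  rw [horb, hcard, card_SL_two, Nat.mul_comm (Nat.card F)] at h
  exact Nat.eq_of_mul_eq_mul_left (by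
    have : 1 < Nat.card F := Finite.one_lt_card
    nlinarith [Nat.sub_pos_of_lt (Nat.one_lt_pow two_ne_zero this)]) h

/-- A subgroup of `SL₂` fixing two independent vectors is trivial. -/
theorem eq_one_of_fix {g : Matrix.SpecialLinearGroup (Fin 2) F} {v w : Fin 2 → F}
    (hvw : LinearIndependent F ![v, w]) (hv : g • v = v) (hw : g • w = w) : g = 1 := by
  apply Subtype.ext
  refine Matrix.toLin'.injective ((basisOfLinearIndependentOfCardEqFinrank hvw (by simp)).ext ?_)
  intro i
  fin_cases i <;> simp [Matrix.toLin'_apply] <;> assumption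

theorem stabilizer_eq_iff {v w : Fin 2 → F} (hv : v ≠ 0) (hw : w ≠ 0) :
    stabilizer (Matrix.SpecialLinearGroup (Fin 2) F) v =
        stabilizer (Matrix.SpecialLinearGroup (Fin 2) F) w ↔
      Projectivization.mk F v hv = Projectivization.mk F w hw := by
  rw [Projectivization.mk_eq_mk_iff']
  constructor
  · intro h
    by_contra hne
    have hind : LinearIndependent F ![w, v] := (LinearIndependent.pair_iff' hw).mpr fun a ha => hne ⟨a, ha⟩
    have hc := card_stabilizer_vector hv
    have key : ∀ g : Matrix.SpecialLinearGroup (Fin 2) F, g ∈ stabilizer _ v → g = 1 := by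
      intro g hg
      have hg' : g ∈ stabilizer (Matrix.SpecialLinearGroup (Fin 2) F) w := by rw [← h]; exact hg
      exact eq_one_of_fix hind hg' hg
    have : Subsingleton (stabilizer (Matrix.SpecialLinearGroup (Fin 2) F) v) :=
      ⟨fun a b => Subtype.ext (by rw [key _ a.2, key _ b.2])⟩
    have := Finite.card_le_one_iff_subsingleton.mpr this
    have : 1 < Nat.card F := Finite.one_lt_card
    omega
  · rintro ⟨a, rfl⟩
    have ha : a ≠ 0 := fun h => hv (by rw [h, zero_smul])
    ext g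
    rw [mem_stabilizer_iff, mem_stabilizer_iff, smul_comm]
    exact ⟨fun h => smul_right_injective _ ha h, fun h => by rw [h]⟩

theorem card_sylow_SL_two (P : Sylow p (Matrix.SpecialLinearGroup (Fin 2) F)) :
    Nat.card P = Nat.card F := by
  obtain ⟨k, hk, hq⟩ := exists_natCard_eq_pow (F := F) p
  rw [P.card_eq_multiplicity, ordProj_eq_of_coprime p (e := k) (k := Nat.card F ^ 2 - 1)
    (not_dvd_pow_sub_one p (by norm_num)) (by rw [card_SL_two, hq]), hq]

theorem exists_sylow_eq_stabilizer (P : Sylow p (Matrix.SpecialLinearGroup (Fin 2) F)) :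
    ∃ v : Fin 2 → F, v ≠ 0 ∧
      (P : Subgroup (Matrix.SpecialLinearGroup (Fin 2) F)) = stabilizer _ v := by
  obtain ⟨k, hk, hq⟩ := exists_natCard_eq_pow (F := F) p
  have hdvd : p ∣ Nat.card (Fin 2 → F) := by
    rw [Nat.card_fun, hq, ← pow_mul]
    exact dvd_pow_self p (by simp; omega)
  obtain ⟨v, hv, hne⟩ := P.isPGroup'.exists_fixed_point_of_prime_dvd_card_of_fixed_point
    (Fin 2 → F) hdvd (a := 0) (fun g => smul_zero g)
  refine ⟨v, fun h => hne h.symm, ?_⟩
  apply Subgroup.eq_of_le_of_card_ge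
  · intro g hg
    exact mem_stabilizer_iff.mpr (hv ⟨g, hg⟩)
  · rw [card_stabilizer_vector (fun h => hne h.symm), card_sylow_SL_two p P]

/-- The Sylow subgroup fixing a given nonzero vector. -/
noncomputable def sylowOfVector (v : Fin 2 → F) (hv : v ≠ 0) :
    Sylow p (Matrix.SpecialLinearGroup (Fin 2) F) :=
  Sylow.ofCard (stabilizer _ v) (by
    obtain ⟨k, hk, hq⟩ := exists_natCard_eq_pow (F := F) p
    rw [card_stabilizer_vector hv, ordProj_eq_of_coprime p (e := k) (k := Nat.card F ^ 2 - 1)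
      (not_dvd_pow_sub_one p (by norm_num)) (by rw [card_SL_two, hq]), hq])

theorem card_sylow_SL_two_count :
    Nat.card (Sylow p (Matrix.SpecialLinearGroup (Fin 2) F)) = Nat.card F + 1 := by
  rw [← card_projectiveLine (F := F)]
  symm
  refine Nat.card_eq_of_bijective (fun l : ℙ F (Fin 2 → F) => sylowOfVector p l.rep l.rep_nonzero)
    ⟨fun a b h => ?_, fun P => ?_⟩
  · rw [← Projectivization.mk_rep a, ← Projectivization.mk_rep b,
      ← stabilizer_eq_iff a.rep_nonzero b.rep_nonzero]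
    exact congrArg Sylow.toSubgroup h
  · obtain ⟨v, hv, hP⟩ := exists_sylow_eq_stabilizer p P
    refine ⟨Projectivization.mk F v hv, Sylow.ext ?_⟩
    show stabilizer _ _ = _
    rw [hP, stabilizer_eq_iff (Projectivization.rep_nonzero _) hv, Projectivization.mk_rep]

theorem sylow_inf_eq_bot_SL_two (P Q : Sylow p (Matrix.SpecialLinearGroup (Fin 2) F)) (h : P ≠ Q) :
    (P : Subgroup (Matrix.SpecialLinearGroup (Fin 2) F)) ⊓ Q = ⊥ := by
  obtain ⟨v, hv, hP⟩ := exists_sylow_eq_stabilizer p P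
  obtain ⟨w, hw, hQ⟩ := exists_sylow_eq_stabilizer p Q
  rw [Subgroup.eq_bot_iff_forall, hP, hQ]
  rintro g ⟨hgv, hgw⟩
  refine eq_one_of_fix ((LinearIndependent.pair_iff' hv).mpr fun a ha => h (Sylow.ext ?_)) hgv hgw
  rw [hP, hQ]
  exact ((stabilizer_eq_iff hw hv).mpr ((Projectivization.mk_eq_mk_iff' _ _ _ _ _).mpr ⟨a, ha⟩)).symm

theorem sylow_sup_eq_top_SL_two (P Q : Sylow p (Matrix.SpecialLinearGroup (Fin 2) F)) (h : P ≠ Q) :
    (P : Subgroup (Matrix.SpecialLinearGroup (Fin 2) F)) ⊔ Q = ⊤ := by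
  obtain ⟨v, hv, hP⟩ := exists_sylow_eq_stabilizer p P
  obtain ⟨w, hw, hQ⟩ := exists_sylow_eq_stabilizer p Q
  have hne : ∀ a : F, a • v ≠ w := fun a ha => h (Sylow.ext (by
    rw [hP, hQ]
    exact ((stabilizer_eq_iff hw hv).mpr ((Projectivization.mk_eq_mk_iff' _ _ _ _ _).mpr ⟨a, ha⟩)).symm))
  have hd : v 0 * w 1 - v 1 * w 0 ≠ 0 := by
    intro hd
    rcases eq_or_ne (v 0) 0 with h0 | h0
    · have h1 : v 1 ≠ 0 := fun h1 => hv (by ext i; fin_cases i <;> assumption)
      refine hne (w 1 / v 1) ?_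
      ext i; fin_cases i
      · simp [h0]
        rw [h0] at hd
        simpa [h1, eq_comm] using hd
      · simp [h1]
    · refine hne (w 0 / v 0) ?_
      ext i; fin_cases i
      · simp [h0]
      · simp
        field_simp
        linear_combination -hd
  set d := v 0 * w 1 - v 1 * w 0 with hd'
  let g : Matrix.SpecialLinearGroup (Fin 2) F :=
    ⟨!![v 0, w 0 / d; v 1, w 1 / d], by
      rw [Matrix.det_fin_two_of]; field_simp; rw [hd']; ring⟩
  have h0 : g • (Pi.single 0 1 : Fin 2 → F) = v := by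
    show (!![v 0, w 0 / d; v 1, w 1 / d] : Matrix (Fin 2) (Fin 2) F) *ᵥ (Pi.single 0 1) = v
    ext i; fin_cases i <;> simp
  have h1 : g • (Pi.single 1 1 : Fin 2 → F) = d⁻¹ • w := by
    show (!![v 0, w 0 / d; v 1, w 1 / d] : Matrix (Fin 2) (Fin 2) F) *ᵥ (Pi.single 1 1) = d⁻¹ • w
    ext i; fin_cases i <;> simp [div_eq_inv_mul]
  rw [hP, hQ]
  set H := stabilizer (Matrix.SpecialLinearGroup (Fin 2) F) v ⊔ stabilizer _ w with hH
  have hmem : ∀ (i j : Fin 2) (hij : i ≠ j) (c : F),
      g * Matrix.SpecialLinearGroup.transvection hij c * g⁻¹ ∈ H := by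
    intro i j hij c
    have hfix : (Matrix.SpecialLinearGroup.transvection hij c) • (Pi.single i 1 : Fin 2 → F) =
        Pi.single i 1 := Matrix.SpecialLinearGroup.transvection_smul_single_fst hij c
    fin_cases i
    · refine Subgroup.mem_sup_left (mem_stabilizer_iff.mpr ?_)
      rw [mul_smul, mul_smul, ← h0, inv_smul_smul]
      exact congrArg (g • ·) hfix
    · refine Subgroup.mem_sup_right (mem_stabilizer_iff.mpr ?_)
      refine smul_right_injective _ (inv_ne_zero hd) ?_
      show d⁻¹ • ((g * _ * g⁻¹) • w) = d⁻¹ • w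
      rw [← smul_comm, ← h1, mul_smul, mul_smul, inv_smul_smul]
      exact congrArg (g • ·) hfix
  have htop : H.comap (MulAut.conj g).toMonoidHom = ⊤ :=
    eq_top_of_transvection_mem fun i j hij c => hmem i j hij c
  rw [Subgroup.eq_top_iff']
  intro x
  have hx : g⁻¹ * x * g ∈ H.comap (MulAut.conj g).toMonoidHom := htop ▸ Subgroup.mem_top _
  simpa [mul_assoc] using hx

omit [Finite F] in
theorem sylow_GL_le_ker_det (P : Sylow p (GL (Fin 2) F)) [Finite F] :
    (P : Subgroup (GL (Fin 2) F)) ≤ (Matrix.GeneralLinearGroup.det : GL (Fin 2) F →* Fˣ).ker := by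
  intro g hg
  obtain ⟨j, hj⟩ := P.isPGroup' ⟨g, hg⟩
  have hj' : g ^ p ^ j = 1 := congrArg Subtype.val hj
  rw [MonoidHom.mem_ker, ← orderOf_eq_one_iff]
  have h1 : orderOf (Matrix.GeneralLinearGroup.det g) ∣ p ^ j :=
    orderOf_dvd_of_pow_eq_one (by rw [← map_pow, hj', map_one])
  have h2 : orderOf (Matrix.GeneralLinearGroup.det g) ∣ Nat.card F - 1 := by
    rw [← natCard_units_field]; exact orderOf_dvd_natCard _
  refine Nat.eq_one_of_dvd_coprimes ?_ h1 h2
  have := not_dvd_pow_sub_one (F := F) p Nat.one_pos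
  rw [pow_one] at this
  exact Nat.Coprime.pow_left j ((hp.out.coprime_iff_not_dvd).mpr this)

theorem factorization_GL_two :
    (Nat.card (GL (Fin 2) F)).factorization p =
      (Nat.card (Matrix.SpecialLinearGroup (Fin 2) F)).factorization p := by
  have hq : 1 < Nat.card F := Finite.one_lt_card
  rw [card_GL_eq_units_mul_SL, natCard_units_field,
    Nat.factorization_mul (by omega) Nat.card_pos.ne', Finsupp.add_apply,
    Nat.factorization_eq_zero_of_not_dvd (by simpa using not_dvd_pow_sub_one (F := F) p Nat.one_pos),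
    zero_add]

/-- The Sylow subgroup of `SL₂` cut out by one of `GL₂`. -/
noncomputable def sylowComap (P : Sylow p (GL (Fin 2) F)) :
    Sylow p (Matrix.SpecialLinearGroup (Fin 2) F) :=
  Sylow.ofCard ((P : Subgroup (GL (Fin 2) F)).comap Matrix.SpecialLinearGroup.toGL) (by
    rw [← factorization_GL_two, ← P.card_eq_multiplicity]
    have hle : (P : Subgroup (GL (Fin 2) F)) ≤ Matrix.SpecialLinearGroup.toGL.range := by
      rw [range_toGL_eq_ker_det]; exact sylow_GL_le_ker_det p P
    rw [← Subgroup.card_map_of_injective toGL_injective, Subgroup.map_comap_eq, inf_eq_right.mpr hle])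

theorem map_sylowComap (P : Sylow p (GL (Fin 2) F)) :
    ((sylowComap p P : Subgroup (Matrix.SpecialLinearGroup (Fin 2) F))).map
      Matrix.SpecialLinearGroup.toGL = P := by
  show ((P : Subgroup (GL (Fin 2) F)).comap Matrix.SpecialLinearGroup.toGL).map _ = _
  rw [Subgroup.map_comap_eq, inf_eq_right]
  rw [range_toGL_eq_ker_det]; exact sylow_GL_le_ker_det p P

theorem sylowComap_injective : Function.Injective (sylowComap (F := F) p) := fun P Q h =>
  Sylow.ext (by rw [← map_sylowComap p P, h, map_sylowComap p Q])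

theorem card_sylow_GL_two_count : Nat.card (Sylow p (GL (Fin 2) F)) = Nat.card F + 1 := by
  rw [← card_sylow_SL_two_count (F := F) p]
  refine Nat.card_eq_of_bijective (sylowComap p) ⟨sylowComap_injective p, fun S => ?_⟩
  have hc : Nat.card ((S : Subgroup (Matrix.SpecialLinearGroup (Fin 2) F)).map
      Matrix.SpecialLinearGroup.toGL) = p ^ (Nat.card (GL (Fin 2) F)).factorization p := by
    rw [Subgroup.card_map_of_injective toGL_injective, factorization_GL_two]
    exact S.card_eq_multiplicity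
  refine ⟨Sylow.ofCard _ hc, Sylow.ext ?_⟩
  exact Subgroup.comap_map_eq_self_of_injective toGL_injective _

theorem sylow_inf_eq_bot_GL_two (P Q : Sylow p (GL (Fin 2) F)) (h : P ≠ Q) :
    (P : Subgroup (GL (Fin 2) F)) ⊓ Q = ⊥ := by
  rw [← map_sylowComap p P, ← map_sylowComap p Q, ← Subgroup.map_inf _ _ _ toGL_injective,
    sylow_inf_eq_bot_SL_two p _ _ fun e => h (sylowComap_injective p e), Subgroup.map_bot]

end Cfsg.Agent.LinearGroup
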