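import Cfsg.Agent.Lib.LinearGroup.PSLTools
import Cfsg.Agent.Lib.LinearGroup.AltRep
import Cfsg.Agent.Lib.Symplectic.Card
import Mathlib.LinearAlgebra.SymplecticGroup

/-!
`Sp₄(2) ≅ S₆`: nonzero vectors are labelled by duads (helper9).
-/

set_option autoImplicit false
set_option maxRecDepth 100000

namespace Cfsg.Agent.LinearGroup.Sp42

open Matrix Equiv Cfsg.Agent.LinearGroup

local instance fact_two : Fact (Nat.Prime 2) := ⟨by decide⟩

universe u v

/-- Symplectic groups over isomorphic rings. -/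
def spCongr {l : Type*} [DecidableEq l] [Fintype l] {R : Type u} {S : Type v} [CommRing R]
    [CommRing S] (e : R ≃+* S) : Matrix.symplecticGroup l R ≃* Matrix.symplecticGroup l S where
  toFun A := ⟨(A : Matrix (l ⊕ l) (l ⊕ l) R).map (e : R →+* S), SymplecticGroup.map_mem A.2 (e : R →+* S)⟩
  invFun A := ⟨(A : Matrix (l ⊕ l) (l ⊕ l) S).map (e.symm : S →+* R),
    SymplecticGroup.map_mem A.2 (e.symm : S →+* R)⟩
  left_inv A := Subtype.ext (Matrix.ext fun i j => e.symm_apply_apply _)
  right_inv A := Subtype.ext (Matrix.ext fun i j => e.apply_symm_apply _)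
  map_mul' A B := Subtype.ext ((e : R →+* S).mapMatrix.map_mul _ _)

def duadTab : Fin 15 → List ℕ :=
  ![[0,1], [0,2], [0,3], [0,4], [0,5], [1,2], [1,3], [1,4], [1,5], [2,3], [2,4], [2,5], [3,4], [3,5], [4,5]]

def vecTab : Fin 15 → (Fin 2 ⊕ Fin 2 → ZMod 2) :=
  ![Sum.elim ![0, 0] ![0, 1],
    Sum.elim ![1, 1] ![0, 0],
    Sum.elim ![1, 1] ![1, 0],
    Sum.elim ![0, 1] ![0, 1],
    Sum.elim ![0, 1] ![1, 0],
    Sum.elim ![1, 1] ![0, 1],
    Sum.elim ![1, 1] ![1, 1],
    Sum.elim ![0, 1] ![0, 0],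
    Sum.elim ![0, 1] ![1, 1],
    Sum.elim ![0, 0] ![1, 0],
    Sum.elim ![1, 0] ![0, 1],
    Sum.elim ![1, 0] ![1, 0],
    Sum.elim ![1, 0] ![1, 1],
    Sum.elim ![1, 0] ![0, 0],
    Sum.elim ![0, 0] ![1, 1]]

def sigS : Fin 15 → Fin 15 :=
  ![0, 5, 6, 7, 8, 1, 2, 3, 4, 9, 10, 11, 12, 13, 14]

def matS : Matrix (Fin 2 ⊕ Fin 2) (Fin 2 ⊕ Fin 2) (ZMod 2) :=
  Matrix.fromBlocks !![1, 0; 0, 1] !![0, 0; 0, 0] !![0, 0; 0, 1] !![1, 0; 0, 1]

def sigC : Fin 15 → Fin 15 :=
  ![5, 6, 7, 8, 0, 9, 10, 11, 1, 12, 13, 2, 14, 3, 4]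

def matC : Matrix (Fin 2 ⊕ Fin 2) (Fin 2 ⊕ Fin 2) (ZMod 2) :=
  Matrix.fromBlocks !![0, 1; 1, 0] !![1, 1; 0, 1] !![0, 1; 1, 0] !![1, 0; 1, 1]

abbrev G : Type := Matrix.symplecticGroup (Fin 2) (ZMod 2)
abbrev V : Type := Fin 2 ⊕ Fin 2 → ZMod 2

/-- The action on vectors. -/
def vecAct : G →* Perm V where
  toFun g :=
    { toFun := fun v => g.1 *ᵥ v
      invFun := fun v => (g⁻¹).1 *ᵥ v
      left_inv := fun v => by
        show (g⁻¹).1 *ᵥ (g.1 *ᵥ v) = v
        rw [Matrix.mulVec_mulVec, ← Submonoid.coe_mul, inv_mul_cancel, Submonoid.coe_one, Matrix.one_mulVec]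
      right_inv := fun v => by
        show g.1 *ᵥ ((g⁻¹).1 *ᵥ v) = v
        rw [Matrix.mulVec_mulVec, ← Submonoid.coe_mul, mul_inv_cancel, Submonoid.coe_one, Matrix.one_mulVec] }
  map_one' := Equiv.ext fun v => Matrix.one_mulVec v
  map_mul' a b := Equiv.ext fun v => (Matrix.mulVec_mulVec v a.1 b.1).symm

theorem vecAct_apply (g : G) (v : V) : vecAct g v = g.1 *ᵥ v := rfl

theorem vecTab_injective : Function.Injective vecTab := by decide +kernel

theorem vecTab_surj : ∀ v : V, v ≠ 0 → ∃ i, vecTab i = v := by decide +kernel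

theorem vecTab_ne : ∀ i, vecTab i ≠ 0 := by decide +kernel

theorem vec_stab : famStab vecAct vecTab vecTab_injective = ⊤ := by
  rw [Subgroup.eq_top_iff']
  intro g i
  have h0 : vecAct g (0 : V) = 0 := by rw [vecAct_apply]; exact Matrix.mulVec_zero g.1
  obtain ⟨j, hj⟩ := vecTab_surj (vecAct g (vecTab i)) fun h =>
    vecTab_ne i ((vecAct g).injective (h.trans h0.symm))
  exact ⟨j, hj.symm⟩

noncomputable def onVectors : G →* Perm (Fin 15) := famHom _ vecTab_injective vec_stab

theorem onVectors_injective : Function.Injective onVectors := by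
  rw [← MonoidHom.ker_eq_bot_iff, Subgroup.eq_bot_iff_forall]
  intro g hg
  rw [MonoidHom.mem_ker] at hg
  apply Subtype.ext
  refine Matrix.toLin'.injective (LinearMap.ext fun v => ?_)
  rcases eq_or_ne v 0 with rfl | hv
  · simp
  obtain ⟨i, rfl⟩ := vecTab_surj v hv
  have h := enc_famHom _ vecTab_injective vec_stab g i
  rw [show famHom _ vecTab_injective vec_stab g = 1 from hg] at h
  simpa [Matrix.toLin'_apply, vecAct_apply] using h.symm

/-- Duads as two-part partitions. -/
theorem duad_inj :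
    Function.Injective (fun d => (splitRel (duadTab d) : Fin 6 → Fin 6 → Bool)) := by decide +kernel

theorem duad_stab : famStab (relHom (MonoidHom.id (Perm (Fin 6)))) _ duad_inj = ⊤ :=
  split_stab duadTab duad_inj (by decide +kernel)

noncomputable def onDuads : Perm (Fin 6) →* Perm (Fin 15) := famHom _ duad_inj duad_stab

/-- Membership of a point in a duad. -/
def inDuad (d : Fin 15) (x : Fin 6) : Bool := (duadTab d).contains x.val

theorem mem_separates : ∀ i k : Fin 6, i ≠ k → ¬∀ d, inDuad d i = inDuad d k := by decide +kernel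

theorem duad_sizes : ∀ d, (Finset.univ.filter fun x => inDuad d x = true).card ≠
    (Finset.univ.filter fun x => inDuad d x = false).card := by decide +kernel

theorem part_fixed (d : Fin 15) (g : Perm (Fin 6))
    (h : ∀ x y, splitRel (duadTab d) (g x) (g y) = (splitRel (duadTab d) x y : Bool)) (x : Fin 6) :
    inDuad d (g x) = inDuad d x := by
  by_contra hne
  have h' : ∀ y, inDuad d (g y) = !inDuad d y := by
    intro y
    have hxy : (inDuad d (g x) == inDuad d (g y)) = (inDuad d x == inDuad d y) := h x y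
    revert hxy hne
    cases inDuad d (g x) <;> cases inDuad d (g y) <;> cases inDuad d x <;> cases inDuad d y <;> simp
  refine duad_sizes d (Finset.card_equiv g fun y => ?_).symm
  rw [Finset.mem_filter, Finset.mem_filter, h' y]
  simp

theorem onDuads_injective : Function.Injective onDuads := by
  rw [← MonoidHom.ker_eq_bot_iff, Subgroup.eq_bot_iff_forall]
  intro g hg
  rw [MonoidHom.mem_ker] at hg
  refine Equiv.ext fun i => ?_
  by_contra hne
  refine mem_separates _ _ hne fun d => ?_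
  have h := enc_famHom _ duad_inj duad_stab g d
  rw [show famHom _ duad_inj duad_stab g d = d by
    rw [show famHom _ duad_inj duad_stab g = 1 from hg]; rfl] at h
  refine part_fixed d g (fun x y => ?_) i
  have := congrFun (congrFun h (g x)) (g y)
  simpa [relHom] using this

theorem matS_mem : matS ∈ Matrix.symplecticGroup (Fin 2) (ZMod 2) :=
  SymplecticGroup.mem_iff.mpr (by decide +kernel)

theorem matC_mem : matC ∈ Matrix.symplecticGroup (Fin 2) (ZMod 2) :=
  SymplecticGroup.mem_iff.mpr (by decide +kernel)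

theorem vec_spec : (∀ i, matS *ᵥ vecTab i = vecTab (sigS i)) ∧
    (∀ i, matC *ᵥ vecTab i = vecTab (sigC i)) := by decide +kernel

theorem duad_spec :
    (∀ d a b, splitRel (duadTab (sigS d)) (Equiv.swap (0 : Fin 6) (finRotate 6 0) a)
        (Equiv.swap (0 : Fin 6) (finRotate 6 0) b) = (splitRel (duadTab d) a b : Bool)) ∧
    (∀ d a b, splitRel (duadTab (sigC d)) (finRotate 6 a) (finRotate 6 b) =
      (splitRel (duadTab d) a b : Bool)) := by decide +kernel

theorem gens_mem (g : Perm (Fin 6))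
    (hg : g ∈ ({finRotate 6, Equiv.swap 0 (finRotate 6 0)} : Set (Perm (Fin 6)))) :
    onDuads g ∈ onVectors.range := by
  rcases hg with rfl | rfl
  · refine ⟨⟨matC, matC_mem⟩, DFunLike.coe_injective ?_⟩
    rw [onVectors, famHom_eq _ vecTab_injective vec_stab _ sigC vec_spec.2, onDuads,
      famHom_eq _ duad_inj duad_stab (finRotate 6) sigC fun d => relHom_eq_of_forall (duad_spec.2 d)]
  · refine ⟨⟨matS, matS_mem⟩, DFunLike.coe_injective ?_⟩
    rw [onVectors, famHom_eq _ vecTab_injective vec_stab _ sigS vec_spec.1, onDuads,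
      famHom_eq _ duad_inj duad_stab (Equiv.swap (0 : Fin 6) (finRotate 6 0)) sigS fun d => relHom_eq_of_forall (duad_spec.1 d)]

theorem card_eq : Nat.card (Perm (Fin 6)) = Nat.card G := by
  rw [Nat.card_perm, Nat.card_fin, Cfsg.Agent.Symplectic.card_Sp (q := 2) (ZMod.card 2) 2]
  decide

theorem equiv : Nonempty (G ≃* Perm (Fin 6)) :=
  (nonempty_mulEquiv_of_closure onDuads onVectors onDuads_injective onVectors_injective
    _ (closure_swap_rotate 4) gens_mem card_eq).map MulEquiv.symm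

end Cfsg.Agent.LinearGroup.Sp42
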