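import Cfsg.Agent.Lib.LinearGroup.PSLTools

/-!
`PSL₂(7) ≅ PSL₃(2)`: both are transitive groups of degree 7; the seven objects on the `PSL₂(7)`
side are seven perfect matchings of the projective line (helper9).
-/

set_option autoImplicit false
set_option maxRecDepth 100000

namespace Cfsg.Agent.LinearGroup.PSL27

open Matrix Equiv Cfsg.Agent.LinearGroup

local instance : Fact (Nat.Prime 7) := ⟨by decide⟩
local instance : Fact (Nat.Prime 2) := ⟨by decide⟩

def mateTab : Fin 7 → Fin 8 → Fin 8 :=
  ![![4, 6, 3, 2, 0, 7, 1, 5],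
    ![2, 5, 0, 4, 3, 1, 7, 6],
    ![3, 7, 4, 0, 2, 6, 5, 1],
    ![6, 4, 7, 5, 1, 3, 0, 2],
    ![1, 0, 5, 7, 6, 2, 4, 3],
    ![7, 3, 6, 1, 5, 4, 2, 0],
    ![5, 2, 1, 6, 7, 0, 3, 4]]

def pointTab : Fin 7 → (Fin 3 → ZMod 2) :=
  ![![0, 0, 1], ![0, 1, 0], ![0, 1, 1], ![1, 0, 0], ![1, 0, 1], ![1, 1, 0], ![1, 1, 1]]

def imgU : Fin 7 → Fin 7 :=
  ![6, 2, 3, 5, 0, 4, 1]

def matU : Matrix.SpecialLinearGroup (Fin 3) (ZMod 2) :=
  ⟨!![1, 0, 1; 1, 1, 1; 0, 1, 1], by decide⟩

def imgL : Fin 7 → Fin 7 :=
  ![1, 5, 3, 4, 6, 2, 0]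

def matL : Matrix.SpecialLinearGroup (Fin 3) (ZMod 2) :=
  ⟨!![1, 1, 0; 0, 1, 1; 1, 0, 0], by decide⟩

/-- Index of the line through a nonzero pair. -/
def lineIdx (v : ZMod 7 × ZMod 7) : Option (Fin 8) :=
  if v.1 = 0 then (if v.2 = 0 then none else some 7)
  else some (Fin.ofNat 8 (v.2 * v.1 ^ 5).val)

/-- The seven matchings as relations on pairs. -/
def enc (k : Fin 7) (v w : ZMod 7 × ZMod 7) : Bool :=
  match lineIdx v, lineIdx w with
  | some a, some b => decide (mateTab k a = b)
  | _, _ => false

theorem enc_injective : Function.Injective enc := by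
  have h : ∀ i j : Fin 7, (∀ b : ZMod 7, enc i (1, 0) (1, b) = enc j (1, 0) (1, b)) →
      enc i (1, 0) (0, 1) = enc j (1, 0) (0, 1) → i = j := by decide +kernel
  intro i j hij
  exact h i j (fun b => by rw [hij]) (by rw [hij])

theorem checkU : ∀ k : Fin 7, ∀ v w : ZMod 7 × ZMod 7,
    enc (imgU k) (v.1 + 1 * v.2, v.2) (w.1 + 1 * w.2, w.2) = enc k v w := by decide +kernel

theorem checkL : ∀ k : Fin 7, ∀ v w : ZMod 7 × ZMod 7,
    enc (imgL k) (v.1, 1 * v.1 + v.2) (w.1, 1 * w.1 + w.2) = enc k v w := by decide +kernel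

theorem checkC : ∀ r : ZMod 7, r * r = 1 → ∀ k : Fin 7, ∀ v w : ZMod 7 × ZMod 7,
    enc k (r * v.1, r * v.2) (r * w.1, r * w.2) = enc k v w := by decide +kernel

abbrev G1 : Type := Matrix.SpecialLinearGroup (Fin 2) (ZMod 7)
abbrev G2 : Type := Matrix.SpecialLinearGroup (Fin 3) (ZMod 2)

def upper : G1 := Matrix.SpecialLinearGroup.transvection (zero_ne_one (α := Fin 2)) 1
def lower : G1 := Matrix.SpecialLinearGroup.transvection (one_ne_zero (α := Fin 2)) 1

theorem closure_gens : Subgroup.closure ({upper, lower} : Set G1) = ⊤ := by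
  refine eq_top_of_transvection_mem_of_addClosure {1} (zmod_addClosure_one 7) ?_
  intro i j hij c hc
  cases Set.mem_singleton_iff.mp hc
  fin_cases i <;> fin_cases j <;> first
    | exact absurd rfl hij
    | exact Subgroup.subset_closure (Set.mem_insert _ _)
    | exact Subgroup.subset_closure (Set.mem_insert_of_mem _ rfl)

theorem relU (k : Fin 7) : relHom pairHom upper (enc k) = enc (imgU k) :=
  relHom_eq_of_forall fun v w => by simp only [upper, pairHom_upper]; exact checkU k v w

theorem relL (k : Fin 7) : relHom pairHom lower (enc k) = enc (imgL k) :=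
  relHom_eq_of_forall fun v w => by simp only [lower, pairHom_lower]; exact checkL k v w

theorem stab_eq_top : famStab (relHom (pairHom (K := ZMod 7))) enc enc_injective = ⊤ :=
  famStab_eq_top_of_closure _ enc_injective closure_gens (by
    rintro g (rfl | rfl) k
    · exact ⟨_, relU k⟩
    · exact ⟨_, relL k⟩)

/-- `SL₂(7)` on the seven matchings. -/
noncomputable def onMatchings : G1 →* Perm (Fin 7) :=
  famHom _ enc_injective stab_eq_top

theorem center_le : Subgroup.center G1 ≤ onMatchings.ker := by
  intro g hg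
  obtain ⟨r, hr, hv⟩ := pairHom_center hg
  rw [MonoidHom.mem_ker]
  ext k
  refine congrArg Fin.val (enc_injective ?_)
  refine (enc_famHom _ enc_injective stab_eq_top g k).trans ?_
  exact relHom_eq_of_forall fun v w => by rw [hv, hv]; exact checkC r hr k v w

noncomputable def onMatchingsP : Matrix.ProjectiveSpecialLinearGroup (Fin 2) (ZMod 7) →* Perm (Fin 7) :=
  QuotientGroup.lift _ onMatchings center_le

theorem onMatchingsP_injective : Function.Injective onMatchingsP := by
  have : IsSimpleGroup (Matrix.ProjectiveSpecialLinearGroup (Fin 2) (ZMod 7)) :=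
    Matrix.ProjectiveSpecialLinearGroup.rank_two_simple (by simp)
  refine injective_of_simple onMatchingsP (QuotientGroup.mk upper) fun h => ?_
  have h0 : onMatchings upper 0 = 0 := by
    have := congrArg (fun p : Perm (Fin 7) => p 0) h
    simpa [onMatchingsP] using this
  rw [onMatchings, famHom_eq _ enc_injective stab_eq_top upper imgU relU] at h0
  exact absurd h0 (by decide)

theorem pointTab_injective : Function.Injective pointTab := by decide +kernel

theorem pointTab_surj : ∀ v : Fin 3 → ZMod 2, v ≠ 0 → ∃ i, pointTab i = v := by decide +kernel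

theorem pointTab_ne : ∀ i, pointTab i ≠ 0 := by decide +kernel

theorem point_stab :
    famStab (MulAction.toPermHom G2 (Fin 3 → ZMod 2)) pointTab pointTab_injective = ⊤ := by
  rw [Subgroup.eq_top_iff']
  intro g i
  obtain ⟨j, hj⟩ := pointTab_surj (g • pointTab i) ((smul_ne_zero_iff_ne g).mpr (pointTab_ne i))
  exact ⟨j, hj.symm⟩

/-- `SL₃(2)` on the points of the plane. -/
noncomputable def onPoints : G2 →* Perm (Fin 7) :=
  famHom _ pointTab_injective point_stab

theorem onPoints_injective : Function.Injective onPoints := by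
  rw [← MonoidHom.ker_eq_bot_iff, Subgroup.eq_bot_iff_forall]
  intro g hg
  rw [MonoidHom.mem_ker] at hg
  apply Subtype.ext
  refine Matrix.toLin'.injective (LinearMap.ext fun v => ?_)
  rcases eq_or_ne v 0 with rfl | hv
  · simp
  obtain ⟨i, rfl⟩ := pointTab_surj v hv
  have h := enc_famHom _ pointTab_injective point_stab g i
  rw [show famHom _ pointTab_injective point_stab g = 1 from hg] at h
  simpa [Matrix.toLin'_apply, Matrix.SpecialLinearGroup.smul_def] using h.symm

theorem matU_spec : ∀ i, pointTab (imgU i) = matU.1 *ᵥ pointTab i := by decide +kernel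
theorem matL_spec : ∀ i, pointTab (imgL i) = matL.1 *ᵥ pointTab i := by decide +kernel

theorem equiv : Nonempty (Matrix.ProjectiveSpecialLinearGroup (Fin 2) (ZMod 7) ≃* G2) := by
  have hS : Subgroup.closure ((QuotientGroup.mk' (Subgroup.center G1)) '' {upper, lower}) = ⊤ := by
    rw [← MonoidHom.map_closure, closure_gens,
      Subgroup.map_top_of_surjective _ (QuotientGroup.mk'_surjective _)]
  refine nonempty_mulEquiv_of_closure onMatchingsP onPoints onMatchingsP_injective onPoints_injective
    _ hS ?_ ?_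
  · rintro _ ⟨g, hg, rfl⟩
    show onMatchings g ∈ onPoints.range
    rcases hg with rfl | rfl
    · refine ⟨matU, DFunLike.coe_injective ?_⟩
      rw [onPoints, famHom_eq _ pointTab_injective point_stab matU imgU
        (fun i => (matU_spec i).symm), onMatchings, famHom_eq _ enc_injective stab_eq_top upper imgU relU]
    · refine ⟨matL, DFunLike.coe_injective ?_⟩
      rw [onPoints, famHom_eq _ pointTab_injective point_stab matL imgL
        (fun i => (matL_spec i).symm), onMatchings, famHom_eq _ enc_injective stab_eq_top lower imgL relL]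
  · have h1 := gcd_mul_card_PSL_two (F := ZMod 7)
    have h2 := card_SL_eq_pow_mul_prod (F := ZMod 2) 2
    simp only [Nat.card_zmod, Fin.sum_univ_succ, Fin.sum_univ_zero, Finset.prod_range_succ,
      Finset.prod_range_zero] at h1 h2
    norm_num [Nat.card_eq_fintype_card] at h1 h2 ⊢
    show _ = Fintype.card (Matrix.SpecialLinearGroup (Fin (2 + 1)) (ZMod 2))
    omega

end Cfsg.Agent.LinearGroup.PSL27
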