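import Cfsg.Agent.Lib.LinearGroup.PSLTools
import Cfsg.Agent.Lib.LinearGroup.AltRep

/-!
`PSL₄(2) ≅ A₈`: the 35 lines of `PG(3,2)` are labelled by the 35 bisections of eight points
(helper9).
-/

set_option autoImplicit false
set_option maxRecDepth 100000

namespace Cfsg.Agent.LinearGroup.PSL42

open Matrix Equiv Cfsg.Agent.LinearGroup

local instance fact_two : Fact (Nat.Prime 2) := ⟨by decide⟩

/-- Lines of `PG(3,2)` as lists of vector codes. -/

def lineTab : Fin 35 → List ℕ :=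
  ![[1,2,3],
    [1,4,5],
    [1,6,7],
    [1,8,9],
    [1,10,11],
    [1,12,13],
    [1,14,15],
    [2,4,6],
    [2,5,7],
    [2,8,10],
    [2,9,11],
    [2,12,14],
    [2,13,15],
    [3,4,7],
    [3,5,6],
    [3,8,11],
    [3,9,10],
    [3,12,15],
    [3,13,14],
    [4,8,12],
    [4,9,13],
    [4,10,14],
    [4,11,15],
    [5,8,13],
    [5,9,12],
    [5,10,15],
    [5,11,14],
    [6,8,14],
    [6,9,15],
    [6,10,12],
    [6,11,13],
    [7,8,15],
    [7,9,14],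
    [7,10,13],
    [7,11,12]]

/-- Bisections of eight points, by the part containing `0`. -/

def bisTab : Fin 35 → List ℕ :=
  ![[0,1,2,3],
    [0,1,4,5],
    [0,1,6,7],
    [0,2,4,6],
    [0,2,5,7],
    [0,3,4,7],
    [0,3,5,6],
    [0,2,4,7],
    [0,2,5,6],
    [0,3,4,5],
    [0,3,6,7],
    [0,1,4,6],
    [0,1,5,7],
    [0,3,4,6],
    [0,3,5,7],
    [0,1,4,7],
    [0,1,5,6],
    [0,2,4,5],
    [0,2,6,7],
    [0,5,6,7],
    [0,2,3,5],
    [0,1,3,7],
    [0,1,2,6],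
    [0,1,3,6],
    [0,1,2,7],
    [0,4,6,7],
    [0,2,3,4],
    [0,1,2,5],
    [0,1,3,4],
    [0,2,3,6],
    [0,4,5,6],
    [0,2,3,7],
    [0,4,5,7],
    [0,1,2,4],
    [0,1,3,5]]

def sig01 : Fin 35 → Fin 35 :=
  ![0, 5, 6, 3, 4, 1, 2, 11, 12, 9, 10, 7, 8, 17, 18, 15, 16, 13, 14, 19, 24, 29, 34, 23, 20, 33, 30, 27, 32, 21, 26, 31, 28, 25, 22]

def per01 : Equiv.Perm (Fin 8) :=
  ⟨![4, 7, 6, 5, 0, 3, 2, 1], ![4, 7, 6, 5, 0, 3, 2, 1], by decide, by decide⟩

def sig02 : Fin 35 → Fin 35 :=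
  ![4, 1, 6, 3, 0, 5, 2, 21, 25, 9, 16, 29, 33, 22, 26, 15, 10, 34, 30, 19, 20, 7, 13, 23, 24, 8, 14, 27, 32, 11, 18, 31, 28, 12, 17]

def per02 : Equiv.Perm (Fin 8) :=
  ⟨![6, 3, 4, 1, 2, 7, 0, 5], ![6, 3, 4, 1, 2, 7, 0, 5], by decide, by decide⟩

def sig03 : Fin 35 → Fin 35 :=
  ![10, 20, 28, 3, 16, 24, 32, 7, 12, 9, 0, 11, 8, 22, 30, 15, 4, 34, 26, 19, 1, 21, 13, 23, 5, 33, 18, 27, 2, 29, 14, 31, 6, 25, 17]

def per03 : Equiv.Perm (Fin 8) :=
  ⟨![5, 2, 1, 4, 3, 0, 7, 6], ![5, 2, 1, 4, 3, 0, 7, 6], by decide, by decide⟩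

def sig10 : Fin 35 → Fin 35 :=
  ![0, 1, 2, 5, 6, 3, 4, 7, 8, 11, 12, 9, 10, 13, 14, 17, 18, 15, 16, 19, 20, 21, 22, 24, 23, 26, 25, 29, 30, 27, 28, 34, 33, 32, 31]

def per10 : Equiv.Perm (Fin 8) :=
  ⟨![4, 5, 7, 6, 0, 1, 3, 2], ![4, 5, 7, 6, 0, 1, 3, 2], by decide, by decide⟩

def sig12 : Fin 35 → Fin 35 :=
  ![2, 1, 0, 3, 6, 5, 4, 7, 14, 27, 28, 29, 30, 13, 8, 31, 32, 34, 33, 19, 20, 21, 22, 23, 24, 26, 25, 9, 10, 11, 12, 15, 16, 18, 17]

def per12 : Equiv.Perm (Fin 8) :=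
  ⟨![5, 4, 3, 2, 1, 0, 7, 6], ![5, 4, 3, 2, 1, 0, 7, 6], by decide, by decide⟩

def sig13 : Fin 35 → Fin 35 :=
  ![8, 1, 14, 23, 25, 24, 26, 7, 0, 9, 12, 11, 10, 13, 2, 31, 33, 34, 32, 19, 20, 21, 22, 3, 5, 4, 6, 27, 30, 29, 28, 15, 18, 16, 17]

def per13 : Equiv.Perm (Fin 8) :=
  ⟨![7, 3, 4, 1, 2, 6, 5, 0], ![7, 3, 4, 1, 2, 6, 5, 0], by decide, by decide⟩

def sig20 : Fin 35 → Fin 35 :=
  ![0, 1, 2, 4, 3, 6, 5, 7, 8, 9, 10, 11, 12, 13, 14, 16, 15, 18, 17, 21, 22, 19, 20, 25, 26, 23, 24, 29, 30, 27, 28, 33, 34, 31, 32]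

def per20 : Equiv.Perm (Fin 8) :=
  ⟨![2, 3, 0, 1, 7, 6, 5, 4], ![2, 3, 0, 1, 7, 6, 5, 4], by decide, by decide⟩

def sig21 : Fin 35 → Fin 35 :=
  ![0, 2, 1, 3, 4, 6, 5, 7, 8, 9, 10, 11, 12, 14, 13, 15, 16, 18, 17, 27, 28, 29, 30, 31, 32, 33, 34, 19, 20, 21, 22, 23, 24, 25, 26]

def per21 : Equiv.Perm (Fin 8) :=
  ⟨![3, 2, 1, 0, 5, 4, 7, 6], ![3, 2, 1, 0, 5, 4, 7, 6], by decide, by decide⟩

def sig23 : Fin 35 → Fin 35 :=
  ![0, 13, 14, 15, 16, 17, 18, 7, 8, 9, 10, 11, 12, 1, 2, 3, 4, 5, 6, 19, 22, 21, 20, 31, 34, 33, 32, 27, 30, 29, 28, 23, 26, 25, 24]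

def per23 : Equiv.Perm (Fin 8) :=
  ⟨![4, 6, 7, 5, 0, 3, 1, 2], ![4, 6, 7, 5, 0, 3, 1, 2], by decide, by decide⟩

def sig30 : Fin 35 → Fin 35 :=
  ![0, 1, 2, 3, 4, 5, 6, 7, 8, 10, 9, 12, 11, 13, 14, 16, 15, 18, 17, 20, 19, 22, 21, 24, 23, 26, 25, 28, 27, 30, 29, 32, 31, 34, 33]

def per30 : Equiv.Perm (Fin 8) :=
  ⟨![1, 0, 3, 2, 5, 4, 7, 6], ![1, 0, 3, 2, 5, 4, 7, 6], by decide, by decide⟩

def sig31 : Fin 35 → Fin 35 :=
  ![0, 1, 2, 3, 4, 5, 6, 8, 7, 9, 10, 12, 11, 14, 13, 15, 16, 18, 17, 23, 24, 25, 26, 19, 20, 21, 22, 31, 32, 33, 34, 27, 28, 29, 30]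

def per31 : Equiv.Perm (Fin 8) :=
  ⟨![2, 3, 0, 1, 6, 7, 4, 5], ![2, 3, 0, 1, 6, 7, 4, 5], by decide, by decide⟩

def sig32 : Fin 35 → Fin 35 :=
  ![0, 1, 2, 3, 4, 5, 6, 13, 14, 15, 16, 17, 18, 7, 8, 9, 10, 11, 12, 19, 20, 22, 21, 23, 24, 26, 25, 31, 32, 34, 33, 27, 28, 30, 29]

def per32 : Equiv.Perm (Fin 8) :=
  ⟨![4, 5, 6, 7, 0, 1, 2, 3], ![4, 5, 6, 7, 0, 1, 2, 3], by decide, by decide⟩

abbrev G : Type := Matrix.SpecialLinearGroup (Fin 4) (ZMod 2)

def code (v : Fin 4 → ZMod 2) : ℕ := (v 0).val * 8 + (v 1).val * 4 + (v 2).val * 2 + (v 3).val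

def enc (l : Fin 35) (v : Fin 4 → ZMod 2) : Bool := (lineTab l).contains (code v)

def vecAct : G →* Perm (Fin 4 → ZMod 2) := MulAction.toPermHom G (Fin 4 → ZMod 2)

theorem vecAct_apply (g : G) (v : Fin 4 → ZMod 2) : vecAct g v = g.1 *ᵥ v := rfl

theorem enc_injective : Function.Injective enc := by decide +kernel

theorem transvection_mulVec (i j : Fin 4) (hij : i ≠ j) (v : Fin 4 → ZMod 2) :
    (Matrix.SpecialLinearGroup.transvection hij (1 : ZMod 2)).1 *ᵥ v = Function.update v i (v i + v j) := by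
  ext k
  rcases eq_or_ne k i with rfl | hk
  · simp [Matrix.SpecialLinearGroup.transvection_coe, Matrix.add_mulVec, Matrix.single_mulVec_eq,
      Function.update]
  · simp [Matrix.SpecialLinearGroup.transvection_coe, Matrix.add_mulVec, Matrix.single_mulVec_eq, hk]

/-- Line permutation of each transvection. -/
def sig : Fin 4 → Fin 4 → (Fin 35 → Fin 35)
  | 0, 1 => sig01
  | 0, 2 => sig02
  | 0, 3 => sig03
  | 1, 0 => sig10
  | 1, 2 => sig12
  | 1, 3 => sig13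
  | 2, 0 => sig20
  | 2, 1 => sig21
  | 2, 3 => sig23
  | 3, 0 => sig30
  | 3, 1 => sig31
  | 3, 2 => sig32
  | _, _ => id

/-- Preimage of each transvection in `S₈`. -/
def per : Fin 4 → Fin 4 → Perm (Fin 8)
  | 0, 1 => per01
  | 0, 2 => per02
  | 0, 3 => per03
  | 1, 0 => per10
  | 1, 2 => per12
  | 1, 3 => per13
  | 2, 0 => per20
  | 2, 1 => per21
  | 2, 3 => per23
  | 3, 0 => per30
  | 3, 1 => per31
  | 3, 2 => per32
  | _, _ => 1

theorem check_lines : ∀ i j : Fin 4, i ≠ j → ∀ l, ∀ v : Fin 4 → ZMod 2,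
    enc (sig i j l) (Function.update v i (v i + v j)) = enc l v := by decide +kernel

theorem check_bis : ∀ i j : Fin 4, i ≠ j → ∀ l, ∀ a b : Fin 8,
    splitRel (bisTab (sig i j l)) (per i j a) (per i j b) = (splitRel (bisTab l) a b : Bool) := by
  decide +kernel

theorem per_mem (i j : Fin 4) : per i j ∈ alternatingGroup (Fin 8) := by
  rw [Equiv.Perm.mem_alternatingGroup]
  revert i j
  decide +kernel

theorem rel_line (i j : Fin 4) (hij : i ≠ j) (l : Fin 35) :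
    setHom vecAct (Matrix.SpecialLinearGroup.transvection hij 1) (enc l) = enc (sig i j l) :=
  setHom_eq_of_forall fun v => by rw [vecAct_apply, transvection_mulVec]; exact check_lines i j hij l v

def gens : Set G :=
  {A | ∃ (i j : Fin 4) (hij : i ≠ j), A = Matrix.SpecialLinearGroup.transvection hij 1}

theorem closure_gens : Subgroup.closure gens = ⊤ := by
  refine eq_top_of_transvection_mem_of_addClosure {1} (zmod_addClosure_one 2) ?_
  intro i j hij c hc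
  cases Set.mem_singleton_iff.mp hc
  exact Subgroup.subset_closure ⟨i, j, hij, rfl⟩

theorem stab : famStab (setHom vecAct) enc enc_injective = ⊤ :=
  famStab_eq_top_of_closure _ enc_injective closure_gens (by
    rintro g ⟨i, j, hij, rfl⟩ l
    exact ⟨_, rel_line i j hij l⟩)

noncomputable def onLines : G →* Perm (Fin 35) := famHom _ enc_injective stab

theorem card_two : Nat.card (ZMod 2) = 2 := Nat.card_zmod 2

theorem isSimpleGroup_G : IsSimpleGroup G :=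
  have e : G ≃* Matrix.ProjectiveSpecialLinearGroup (Fin 4) (ZMod 2) :=
    slEquivPSL (by rw [card_two]; rfl)
  have := isSimpleGroup_PSL_of_three_le (ι := Fin 4) (F := ZMod 2) (by simp)
  e.isSimpleGroup

theorem onLines_injective : Function.Injective onLines := by
  have := isSimpleGroup_G
  refine injective_of_simple onLines
    (Matrix.SpecialLinearGroup.transvection (show (0 : Fin 4) ≠ 1 by decide) 1) fun h => ?_
  have hall : ∀ l, onLines (Matrix.SpecialLinearGroup.transvection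
      (show (0 : Fin 4) ≠ 1 by decide) 1) l = l := fun l => congrArg (fun q : Perm (Fin 35) => q l) h
  rw [onLines, famHom_eq _ enc_injective stab _ (sig 0 1) (rel_line 0 1 _)] at hall
  revert hall
  decide +kernel

theorem bis_inj :
    Function.Injective (fun l => (splitRel (bisTab l) : Fin 8 → Fin 8 → Bool)) := by decide +kernel

theorem bis_stab : famStab (relHom (MonoidHom.id (Perm (Fin 8)))) _ bis_inj = ⊤ :=
  split_stab bisTab bis_inj (by decide +kernel)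

noncomputable def onBisections : alternatingGroup (Fin 8) →* Perm (Fin 35) :=
  altSplitHom bisTab bis_inj bis_stab

theorem onBisections_per (i j : Fin 4) (hij : i ≠ j) :
    ⇑(onBisections ⟨per i j, per_mem i j⟩) = sig i j :=
  altSplitHom_eq bisTab bis_inj bis_stab _ _ (check_bis i j hij)

theorem onBisections_injective : Function.Injective onBisections := by
  have : IsSimpleGroup (alternatingGroup (Fin 8)) := alternatingGroup.isSimpleGroup (by simp)
  refine injective_of_simple onBisections ⟨per 0 1, per_mem 0 1⟩ fun h => ?_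
  have hall : ∀ l, onBisections ⟨per 0 1, per_mem 0 1⟩ l = l :=
    fun l => congrArg (fun q : Perm (Fin 35) => q l) h
  rw [onBisections_per 0 1 (by decide)] at hall
  revert hall
  decide +kernel

theorem equiv : Nonempty (G ≃* alternatingGroup (Fin 8)) := by
  refine nonempty_mulEquiv_of_closure onLines onBisections onLines_injective onBisections_injective
    gens closure_gens ?_ ?_
  · rintro _ ⟨i, j, hij, rfl⟩
    refine ⟨⟨per i j, per_mem i j⟩, DFunLike.coe_injective ?_⟩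
    rw [onBisections_per i j hij, onLines, famHom_eq _ enc_injective stab _ (sig i j) (rel_line i j hij)]
  · have h := card_SL_eq_pow_mul_prod (F := ZMod 2) 3
    simp only [card_two, Fin.sum_univ_succ, Fin.sum_univ_zero, Finset.prod_range_succ,
      Finset.prod_range_zero] at h
    norm_num at h
    rw [nat_card_alternatingGroup, Nat.card_fin]
    norm_num [Nat.factorial, Nat.card_eq_fintype_card]
    exact h

end Cfsg.Agent.LinearGroup.PSL42
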