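import Cfsg.Agent.Lib.LinearGroup.SLThreeBase
import Mathlib.Algebra.QuadraticAlgebra.Basic
import Mathlib.Data.ZMod.Basic
import Mathlib.Algebra.CharP.CharAndCard
import Mathlib.Algebra.Algebra.ZMod

/-!
`SL 3` over the fields with two, three and four elements (helper9).
-/

set_option autoImplicit false

namespace Cfsg.Agent.LinearGroup

open Matrix Matrix.SpecialLinearGroup

universe v

section

variable {R : Type} [CommRing R] {F : Type v} [Field F] (φ : R →+* F)

/-- A certified word gives a root element. -/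
theorem rootCoeff_of_word (C V : Matrix.SpecialLinearGroup (Fin 3) R)
    {H : Subgroup (Matrix.SpecialLinearGroup (Fin 3) F)}
    (hC : Matrix.SpecialLinearGroup.map φ C ∈ H) (hV : Matrix.SpecialLinearGroup.map φ V ∈ H)
    (w : List Bool) (c : R)
    (hw : (w.map fun b => if b then (C : Matrix (Fin 3) (Fin 3) R) else V).prod =
      !![1, 0, 0; c, 1, 0; 0, 0, 1]) :
    φ c ∈ rootCoeff H (1 : Fin 3) 0 := by
  intro h
  set W := (w.map fun b => if b then C else V).prod with hW
  have hWm : (W : Matrix (Fin 3) (Fin 3) R) = !![1, 0, 0; c, 1, 0; 0, 0, 1] := by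
    rw [← hw, hW]
    clear hw hW W
    induction w with
    | nil => rfl
    | cons b l ih =>
      simp only [List.map_cons, List.prod_cons, coe_mul, ih]
      cases b <;> rfl
  have e : Matrix.SpecialLinearGroup.map φ W = Matrix.SpecialLinearGroup.transvection h (φ c) := by
    apply Subtype.ext
    rw [transvection_coe]
    ext i j
    rw [Matrix.SpecialLinearGroup.map_apply_coe, RingHom.mapMatrix_apply, Matrix.map_apply, hWm]
    fin_cases i <;> fin_cases j <;> simp
  rw [← e, hW, map_list_prod]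
  refine list_prod_mem fun y hy => ?_
  simp only [List.map_map, List.mem_map, Function.comp_apply] at hy
  obtain ⟨b, _, rfl⟩ := hy
  cases b
  · exact hV
  · exact hC

/-- The conjugate element computed downstairs. -/
theorem map_conj_eq (C V G : Matrix.SpecialLinearGroup (Fin 3) R)
    (e : (V : Matrix (Fin 3) (Fin 3) R) * G = (G : Matrix (Fin 3) (Fin 3) R) * C)
    (hC : (C : Matrix (Fin 3) (Fin 3) R) = !![0, 0, 1; 1, 0, -3; 0, 1, 3]) :
    Matrix.SpecialLinearGroup.map φ C = compSL F 2 ∧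
      Matrix.SpecialLinearGroup.map φ V =
        Matrix.SpecialLinearGroup.map φ G * compSL F 2 * (Matrix.SpecialLinearGroup.map φ G)⁻¹ := by
  have h1 : Matrix.SpecialLinearGroup.map φ C = compSL F 2 := by
    apply Subtype.ext
    rw [compSL_two_coe]
    ext i j
    rw [Matrix.SpecialLinearGroup.map_apply_coe, RingHom.mapMatrix_apply, Matrix.map_apply, hC]
    fin_cases i <;> fin_cases j <;> simp [map_ofNat]
  refine ⟨h1, ?_⟩
  rw [← h1, eq_mul_inv_iff_mul_eq, ← map_mul, ← map_mul]
  exact congrArg _ (Subtype.ext e)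

end

local instance : Fact (Nat.Prime 2) := ⟨Nat.prime_two⟩
local instance : Fact (Nat.Prime 3) := ⟨Nat.prime_three⟩

theorem exists_regular_pair_three_two (F : Type v) [Field F] [Fintype F] (hq : Fintype.card F = 2) :
    ∃ g : Matrix.SpecialLinearGroup (Fin 3) F,
      Subgroup.closure ({compSL F 2, g * compSL F 2 * g⁻¹} :
        Set (Matrix.SpecialLinearGroup (Fin 3) F)) = ⊤ := by
  haveI : CharP F 2 := charP_of_card_eq_prime hq
  let φ : ZMod 2 →+* F := ZMod.castHom (dvd_refl 2) F
  have hsurj : Function.Surjective φ :=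
    (RingHom.injective φ).bijective_of_nat_card_le (by simp [Nat.card_eq_fintype_card, hq]) |>.2
  let C : Matrix.SpecialLinearGroup (Fin 3) (ZMod 2) :=
    ⟨!![0, 0, 1; 1, 0, 1; 0, 1, 1], by decide⟩
  let V : Matrix.SpecialLinearGroup (Fin 3) (ZMod 2) :=
    ⟨!![0, 0, 1; 1, 0, 0; 1, 1, 1], by decide⟩
  let G : Matrix.SpecialLinearGroup (Fin 3) (ZMod 2) :=
    ⟨!![1, 0, 0; 1, 1, 0; 0, 0, 1], by decide⟩
  obtain ⟨hC, hV⟩ := map_conj_eq φ C V G (by decide) (by decide)
  refine ⟨Matrix.SpecialLinearGroup.map φ G, eq_top_of_compSL_two (Subgroup.subset_closure (by simp)) ?_⟩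
  set H := Subgroup.closure ({compSL F 2, Matrix.SpecialLinearGroup.map φ G * compSL F 2 *
      (Matrix.SpecialLinearGroup.map φ G)⁻¹} : Set (Matrix.SpecialLinearGroup (Fin 3) F))
  have h1 := rootCoeff_of_word φ C V (H := H) (hC ▸ Subgroup.subset_closure (by simp))
    (hV ▸ Subgroup.subset_closure (by simp))
    [true, true, false, false, true, true] 1 (by decide)
  intro s
  obtain ⟨r, rfl⟩ := hsurj s
  rw [← ZMod.natCast_zmod_val r, map_natCast, ← nsmul_one, ← map_one φ]
  exact nsmul_mem h1 _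

theorem exists_regular_pair_three_three (F : Type v) [Field F] [Fintype F]
    (hq : Fintype.card F = 3) :
    ∃ g : Matrix.SpecialLinearGroup (Fin 3) F,
      Subgroup.closure ({compSL F 2, g * compSL F 2 * g⁻¹} :
        Set (Matrix.SpecialLinearGroup (Fin 3) F)) = ⊤ := by
  haveI : CharP F 3 := charP_of_card_eq_prime hq
  let φ : ZMod 3 →+* F := ZMod.castHom (dvd_refl 3) F
  have hsurj : Function.Surjective φ :=
    (RingHom.injective φ).bijective_of_nat_card_le (by simp [Nat.card_eq_fintype_card, hq]) |>.2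
  let C : Matrix.SpecialLinearGroup (Fin 3) (ZMod 3) :=
    ⟨!![0, 0, 1; 1, 0, 0; 0, 1, 0], by decide⟩
  let V : Matrix.SpecialLinearGroup (Fin 3) (ZMod 3) :=
    ⟨!![1, 0, 1; 0, 2, 2; 0, 1, 0], by decide⟩
  let G : Matrix.SpecialLinearGroup (Fin 3) (ZMod 3) :=
    ⟨!![1, 0, 0; 0, 1, 2; 2, 0, 1], by decide⟩
  obtain ⟨hC, hV⟩ := map_conj_eq φ C V G (by decide) (by decide)
  refine ⟨Matrix.SpecialLinearGroup.map φ G, eq_top_of_compSL_two (Subgroup.subset_closure (by simp)) ?_⟩
  set H := Subgroup.closure ({compSL F 2, Matrix.SpecialLinearGroup.map φ G * compSL F 2 *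
      (Matrix.SpecialLinearGroup.map φ G)⁻¹} : Set (Matrix.SpecialLinearGroup (Fin 3) F))
  have h1 := rootCoeff_of_word φ C V (H := H) (hC ▸ Subgroup.subset_closure (by simp))
    (hV ▸ Subgroup.subset_closure (by simp))
    [true, false, true, true, false, true, false, false, true, false] 1 (by decide)
  intro s
  obtain ⟨r, rfl⟩ := hsurj s
  rw [← ZMod.natCast_zmod_val r, map_natCast, ← nsmul_one, ← map_one φ]
  exact nsmul_mem h1 _

theorem exists_regular_pair_three_four (F : Type v) [Field F] [Fintype F]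
    (hq : Fintype.card F = 4) :
    ∃ g : Matrix.SpecialLinearGroup (Fin 3) F,
      Subgroup.closure ({compSL F 2, g * compSL F 2 * g⁻¹} :
        Set (Matrix.SpecialLinearGroup (Fin 3) F)) = ⊤ := by
  haveI : CharP F 2 := by
    obtain ⟨p, hp⟩ := CharP.exists F
    obtain ⟨k, hpp, hk⟩ := FiniteField.card F p
    have h4 : p ^ (k : ℕ) = 4 := hk.symm.trans hq
    have h2 : 2 ∣ p ^ (k : ℕ) := by rw [h4]; norm_num
    rwa [← (Nat.prime_dvd_prime_iff_eq Nat.prime_two hpp).mp (Nat.prime_two.dvd_of_dvd_pow h2)] at hp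
  letI : Algebra (ZMod 2) F := ZMod.algebra F 2
  obtain ⟨ν, hν⟩ := IsCyclic.exists_generator (α := Fˣ)
  have hord : orderOf ν = 3 := by
    rw [orderOf_eq_card_of_forall_mem_zpowers hν, Nat.card_units, Nat.card_eq_fintype_card, hq]
  set w : F := (ν : F)
  have hw3 : w ^ 3 = 1 := by
    have := congrArg Units.val (hord ▸ pow_orderOf_eq_one ν : ν ^ 3 = 1)
    simpa using this
  have hw1 : w ≠ 1 := by
    intro e
    have : ν = 1 := Units.ext e
    rw [this, orderOf_one] at hord
    omega
  have hw2 : w * w + w + 1 = 0 := by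
    have : (w - 1) * (w * w + w + 1) = 0 := by linear_combination hw3
    exact (mul_eq_zero.mp this).resolve_left (sub_ne_zero.mpr hw1)
  have hu : w * w = (1 : ZMod 2) • (1 : F) + (1 : ZMod 2) • w := by
    rw [one_smul, one_smul]
    have h2 : (2 : F) = 0 := CharTwo.two_eq_zero
    linear_combination hw2 - (w + 1) * h2
  let φ : QuadraticAlgebra (ZMod 2) 1 1 →+* F := (QuadraticAlgebra.lift ⟨w, hu⟩).toRingHom
  let om : QuadraticAlgebra (ZMod 2) 1 1 := ⟨0, 1⟩
  let om' : QuadraticAlgebra (ZMod 2) 1 1 := ⟨1, 1⟩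
  have hom : φ om = w := by simp [φ, om, QuadraticAlgebra.lift]
  let C : Matrix.SpecialLinearGroup (Fin 3) (QuadraticAlgebra (ZMod 2) 1 1) :=
    ⟨!![0, 0, 1; 1, 0, 1; 0, 1, 1], by decide⟩
  let V : Matrix.SpecialLinearGroup (Fin 3) (QuadraticAlgebra (ZMod 2) 1 1) :=
    ⟨!![1, 1, om; 1, om', om; 0, 1, om'], by decide⟩
  let G : Matrix.SpecialLinearGroup (Fin 3) (QuadraticAlgebra (ZMod 2) 1 1) :=
    ⟨!![1, 1, 0; 0, 1, om; 0, 0, 1], by decide⟩
  obtain ⟨hC, hV⟩ := map_conj_eq φ C V G (by decide) (by decide)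
  refine ⟨Matrix.SpecialLinearGroup.map φ G, eq_top_of_compSL_two (Subgroup.subset_closure (by simp)) ?_⟩
  set H := Subgroup.closure ({compSL F 2, Matrix.SpecialLinearGroup.map φ G * compSL F 2 *
      (Matrix.SpecialLinearGroup.map φ G)⁻¹} : Set (Matrix.SpecialLinearGroup (Fin 3) F))
  have hCH : Matrix.SpecialLinearGroup.map φ C ∈ H := hC ▸ Subgroup.subset_closure (by simp)
  have hVH : Matrix.SpecialLinearGroup.map φ V ∈ H := hV ▸ Subgroup.subset_closure (by simp)
  have h1 := rootCoeff_of_word φ C V hCH hVH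
    [true, true, true, false, true, false, false, true, true, true, false, false, false, true] 1
    (by decide)
  have h2 := rootCoeff_of_word φ C V hCH hVH
    [true, true, false, false, false, true, true, false, true, true] om (by decide)
  rw [map_one] at h1
  rw [hom] at h2
  intro s
  rcases eq_or_ne s 0 with rfl | hs
  · exact zero_mem _
  obtain ⟨i, hi⟩ := mem_powers_iff_mem_zpowers.mpr (hν (Units.mk0 s hs))
  have hsi : w ^ i = s := by simpa using congrArg Units.val hi
  rw [← hsi, ← Nat.mod_add_div i 3, pow_add, pow_mul, hw3, one_pow, mul_one]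
  rcases (show i % 3 = 0 ∨ i % 3 = 1 ∨ i % 3 = 2 by omega) with h | h | h <;> rw [h]
  · rwa [pow_zero]
  · rwa [pow_one]
  · rw [show w ^ 2 = -(w + 1) by linear_combination hw2]
    exact neg_mem (add_mem h2 h1)

end Cfsg.Agent.LinearGroup
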