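import Cfsg.Agent.Lib.LinearGroup.SLThreeBase
import Mathlib.Algebra.CharP.Reduced

/-!
`SL 3` in characteristic three: two regular unipotents with monomial quotient (helper9).
-/

set_option autoImplicit false

namespace Cfsg.Agent.LinearGroup

open Matrix Matrix.SpecialLinearGroup

universe v

variable {F : Type v} [Field F]

/-- The upper unitriangular element with entries `a`, `b`, `c`. -/
def upperU (a b c : F) : Matrix.SpecialLinearGroup (Fin 3) F :=
  ⟨!![1, a, c; 0, 1, b; 0, 0, 1], by simp [Matrix.det_fin_three]⟩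

theorem upperU_coe (a b c : F) :
    (upperU a b c : Matrix (Fin 3) (Fin 3) F) = !![1, a, c; 0, 1, b; 0, 0, 1] := rfl

theorem upperU_mul (a b c a' b' c' : F) :
    upperU a b c * upperU a' b' c' = upperU (a + a') (b + b') (c + c' + a * b') := by
  apply Subtype.ext
  simp only [coe_mul, upperU_coe]
  ext i j
  fin_cases i <;> fin_cases j <;> simp [Matrix.mul_apply, Fin.sum_univ_three] <;> ring

theorem upperU_zero : upperU (0 : F) 0 0 = 1 := by
  apply Subtype.ext
  rw [upperU_coe, coe_one]
  exact (Matrix.one_fin_three).symm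

theorem upperU_inv (a b c : F) : (upperU a b c)⁻¹ = upperU (-a) (-b) (a * b - c) := by
  rw [inv_eq_iff_mul_eq_one, upperU_mul, ← upperU_zero]
  congr 1 <;> ring

/-- The pairs of superdiagonal entries of the upper unitriangular elements of `H`. -/
def superPairs (H : Subgroup (Matrix.SpecialLinearGroup (Fin 3) F)) : AddSubgroup (F × F) where
  carrier := {v | ∃ c, upperU v.1 v.2 c ∈ H}
  zero_mem' := ⟨0, by simp [upperU_zero]⟩
  add_mem' := by
    rintro v w ⟨c, hc⟩ ⟨d, hd⟩
    refine ⟨c + d + v.1 * w.2, ?_⟩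
    have := mul_mem hc hd
    rwa [upperU_mul] at this
  neg_mem' := by
    rintro v ⟨c, hc⟩
    refine ⟨v.1 * v.2 - c, ?_⟩
    have := inv_mem hc
    rwa [upperU_inv] at this

/-- A nonzero pair subgroup stable under `(a, b) ↦ (t a, t⁻¹ b)` is everything, for a generator `t`. -/
theorem superPairs_top [Fintype F] (P : AddSubgroup (F × F)) (t : F) (ht : t ≠ 0)
    (hgen : ∀ s : F, s ≠ 0 → ∃ i : ℕ, t ^ i = s) (hq : 5 ≤ Fintype.card F) {B : F} (hB : B ≠ 0)
    (h1 : (1, B) ∈ P) (hst : ∀ v ∈ P, (t * v.1, t⁻¹ * v.2) ∈ P) : ∀ v, v ∈ P := by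
  classical
  have horb : ∀ s : F, s ≠ 0 → (s, s⁻¹ * B) ∈ P := by
    intro s hs
    obtain ⟨i, rfl⟩ := hgen s hs
    clear hs
    induction i with
    | zero => simpa using h1
    | succ i ih =>
      have := hst _ ih
      simpa [pow_succ', _root_.mul_inv_rev, mul_assoc, mul_comm, mul_left_comm] using this
  obtain ⟨x, hx0, hx1, hx2⟩ : ∃ x : F, x ≠ 0 ∧ 1 + x ≠ 0 ∧ x ^ 2 + x + 1 ≠ 0 := by
    by_contra hcon
    push Not at hcon
    let p : Polynomial F := Polynomial.X ^ 2 + Polynomial.X + 1
    have hp : p.natDegree = 2 := by simp only [p]; compute_degree!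
    have hp0 : p ≠ 0 := by
      intro e; rw [e, Polynomial.natDegree_zero] at hp; omega
    have hsub : (Finset.univ : Finset F) ⊆ insert 0 (insert (-1) p.roots.toFinset) := by
      intro x _
      rcases eq_or_ne x 0 with rfl | h0
      · simp
      rcases eq_or_ne (1 + x) 0 with h | h
      · have : x = -1 := by linear_combination h
        simp [this]
      · have := hcon x h0 h
        simp only [Finset.mem_insert, Multiset.mem_toFinset, Polynomial.mem_roots hp0]
        exact Or.inr (Or.inr (by simpa [p] using this))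
    have h4 := Finset.card_le_card hsub
    rw [Finset.card_univ] at h4
    have h5 := Finset.card_insert_le (0 : F) (insert (-1) p.roots.toFinset)
    have h6 := Finset.card_insert_le (-1 : F) p.roots.toFinset
    have h7 : p.roots.toFinset.card ≤ 2 :=
      le_trans (Multiset.toFinset_card_le _) (hp ▸ Polynomial.card_roots' p)
    omega
  -- a nonzero element of the second axis
  set δ : F := ((1 + x)⁻¹ - x⁻¹ - 1) * B
  have hδ : δ ≠ 0 := by
    refine mul_ne_zero ?_ hB
    have : (1 + x)⁻¹ - x⁻¹ - 1 = -(x ^ 2 + x + 1) / ((1 + x) * x) := by field_simp; ring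
    rw [this]
    exact div_ne_zero (neg_ne_zero.mpr hx2) (mul_ne_zero hx1 hx0)
  have hδP : ((0 : F), δ) ∈ P := by
    have h := sub_mem (sub_mem (horb (1 + x) hx1) (horb x hx0)) (horb 1 one_ne_zero)
    convert h using 1
    ext <;> simp [δ] <;> ring
  have hsec : ∀ s : F, ((0 : F), s) ∈ P := by
    intro s
    rcases eq_or_ne s 0 with rfl | hs
    · exact zero_mem P
    obtain ⟨i, hi⟩ := hgen (δ / s) (div_ne_zero hδ hs)
    have : ∀ j : ℕ, ((0 : F), (t ^ j)⁻¹ * δ) ∈ P := by
      intro j
      induction j with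
      | zero => simpa using hδP
      | succ j ih =>
        have := hst _ ih
        simpa [pow_succ', _root_.mul_inv_rev, mul_assoc, mul_comm, mul_left_comm] using this
    convert this i using 2
    rw [hi]; field_simp
  intro v
  obtain ⟨a, b⟩ := v
  rcases eq_or_ne a 0 with rfl | ha
  · exact hsec b
  · convert add_mem (horb a ha) (hsec (b - a⁻¹ * B)) using 1
    ext <;> simp

/-- A regular unipotent pair in characteristic three. -/
theorem exists_regular_pair_three_eq (F : Type v) [Field F] [Fintype F] (h3 : (3 : F) = 0)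
    (hq : 5 ≤ Fintype.card F) :
    ∃ u g : Matrix.SpecialLinearGroup (Fin 3) F,
      (IsNilpotent ((u : Matrix (Fin 3) (Fin 3) F) - 1) ∧
        ((u : Matrix (Fin 3) (Fin 3) F) - 1) ^ (3 - 1) ≠ 0) ∧
      Subgroup.closure ({u, g * u * g⁻¹} : Set (Matrix.SpecialLinearGroup (Fin 3) F)) = ⊤ := by
  obtain ⟨g0, hg0⟩ := IsCyclic.exists_generator (α := Fˣ)
  set t : F := (g0 : F) with htdef
  have ht0 : t ≠ 0 := g0.ne_zero
  have hgen : ∀ s : F, s ≠ 0 → ∃ i : ℕ, t ^ i = s := by
    intro s hs
    obtain ⟨i, hi⟩ := mem_powers_iff_mem_zpowers.mpr (hg0 (Units.mk0 s hs))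
    exact ⟨i, by simpa using congrArg Units.val hi⟩
  -- a cube root of `-t⁻¹`
  haveI : CharP F 3 := by
    obtain ⟨p, hp⟩ := CharP.exists F
    have hd : p ∣ 3 := (CharP.cast_eq_zero_iff F p 3).mp (by exact_mod_cast h3)
    have hpp := CharP.char_is_prime F p
    rwa [(Nat.prime_dvd_prime_iff_eq hpp Nat.prime_three).mp hd] at hp
  haveI : Fact (Nat.Prime 3) := ⟨Nat.prime_three⟩
  obtain ⟨β, hβ⟩ := Finite.surjective_of_injective (iterateFrobenius_inj F 3 1) (-t⁻¹)
  rw [iterateFrobenius_def, pow_one] at hβ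
  have hβ0 : β ≠ 0 := by
    rintro rfl
    rw [zero_pow (by norm_num)] at hβ
    exact ht0 (inv_eq_zero.mp (neg_eq_zero.mp hβ.symm))
  have hβ1 : β ≠ 1 := by
    rintro rfl
    have ht : t = -1 := by
      rw [one_pow] at hβ
      have := congrArg (fun s => -s) hβ
      simp only [neg_neg] at this
      rw [← inv_inv t, ← this, inv_neg, inv_one]
    have hsq : g0 ^ 2 = 1 := Units.ext (by
      rw [Units.val_pow_eq_pow_val, Units.val_one, ← htdef, ht]; ring)
    have hle := Nat.le_of_dvd (by norm_num) (orderOf_dvd_of_pow_eq_one hsq)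
    rw [orderOf_eq_card_of_forall_mem_zpowers hg0, Nat.card_units, Nat.card_eq_fintype_card] at hle
    omega
  set k : F := (1 - β) / β with hk
  set B : F := -(β - 1) ^ 3 / β ^ 2 with hBdef
  set cC : F := 3 - β with hcC
  set γ : F := -1 / β with hγ
  have hb1 : β - 1 ≠ 0 := sub_ne_zero.mpr hβ1
  have hb1' : 1 - β ≠ 0 := sub_ne_zero.mpr (Ne.symm hβ1)
  have hB : B ≠ 0 := div_ne_zero (neg_ne_zero.mpr (pow_ne_zero _ hb1)) (pow_ne_zero _ hβ0)
  have hk0 : k ≠ 0 := div_ne_zero hb1' hβ0
  let u := upperU (1 : F) B cC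
  obtain ⟨mm, hmm⟩ : ∃ X : Matrix.SpecialLinearGroup (Fin 3) F,
      (X : Matrix (Fin 3) (Fin 3) F) = !![0, 0, γ; 0, β, 0; 1, 0, 0] :=
    ⟨⟨_, by simp [Matrix.det_fin_three, hγ]; field_simp⟩, rfl⟩
  obtain ⟨S, hS⟩ : ∃ X : Matrix.SpecialLinearGroup (Fin 3) F,
      (X : Matrix (Fin 3) (Fin 3) F) =
        !![k / B * (1 - β), (k * (2 - β) - cC * (k / B * (1 - β))) / B, k;
           k, (k * B - cC * k) / B, 0;
           k / B * (1 - β), (k - cC * (k / B * (1 - β))) / B, 0] :=
    ⟨⟨_, by
      simp [Matrix.det_fin_three]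
      field_simp
      rw [hk, hBdef]
      field_simp
      ring⟩, rfl⟩
  refine ⟨u, S, ⟨⟨3, ?_⟩, ?_⟩, ?_⟩
  · simp only [u, upperU_coe, pow_succ, pow_zero, Matrix.one_mul]
    ext i j
    fin_cases i <;> fin_cases j <;> simp [Matrix.mul_apply, Fin.sum_univ_three]
  · intro e
    have := congrFun (congrFun e 0) 2
    simp [u, upperU_coe, pow_succ, Matrix.mul_apply, Fin.sum_univ_three] at this
    exact hB this
  have hconj : S * u * S⁻¹ = u * mm := by
    rw [mul_inv_eq_iff_eq_mul]
    apply Subtype.ext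
    simp only [coe_mul, u, upperU_coe, hS, hmm]
    ext i j
    fin_cases i <;> fin_cases j <;> simp [Matrix.mul_apply, Fin.sum_univ_three] <;>
      simp only [hcC, hγ, hk, hBdef] <;> field_simp <;> ring
  rw [hconj]
  set H := Subgroup.closure ({u, u * mm} : Set (Matrix.SpecialLinearGroup (Fin 3) F))
  have hu : u ∈ H := Subgroup.subset_closure (by simp)
  have hm : mm ∈ H := by
    have := mul_mem (inv_mem hu) (Subgroup.subset_closure (by simp) : u * mm ∈ H)
    rwa [inv_mul_cancel_left] at this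
  have htβ : t * β ^ 3 = -1 := by rw [hβ, mul_neg, mul_inv_cancel₀ ht0]
  have htorus : ∀ v ∈ superPairs H, (t * v.1, t⁻¹ * v.2) ∈ superPairs H := by
    rintro ⟨a, b⟩ ⟨c, hc⟩
    refine ⟨c, ?_⟩
    have e : mm * mm * upperU a b c = upperU (t * a) (t⁻¹ * b) c * (mm * mm) := by
      apply Subtype.ext
      simp only [coe_mul, upperU_coe, hmm]
      have ht' : t = -1 / β ^ 3 := by field_simp; linear_combination htβ
      ext i j
      fin_cases i <;> fin_cases j <;> simp [Matrix.mul_apply, Fin.sum_univ_three, hγ, ht'] <;>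
        field_simp
    have := mul_mem (mul_mem (mul_mem hm hm) hc) (inv_mem (mul_mem hm hm))
    rwa [e, mul_inv_cancel_right] at this
  have hP := superPairs_top (superPairs H) t ht0 hgen hq hB ⟨cC, hu⟩ htorus
  have n01 : (0 : Fin 3) ≠ 1 := by decide
  have n02 : (0 : Fin 3) ≠ 2 := by decide
  have n12 : (1 : Fin 3) ≠ 2 := by decide
  have h02 : ∀ s, s ∈ rootCoeff H (0 : Fin 3) 2 := by
    intro s h
    obtain ⟨c, hc⟩ := hP (s, 0)
    obtain ⟨d, hd⟩ := hP (0, 1)
    have e : upperU s 0 c * upperU 0 1 d =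
        Matrix.SpecialLinearGroup.transvection h s * (upperU 0 1 d * upperU s 0 c) := by
      apply Subtype.ext
      simp only [coe_mul, upperU_coe, transvection_coe]
      ext i j
      fin_cases i <;> fin_cases j <;> simp [Matrix.mul_apply, Fin.sum_univ_three] <;> ring
    have := mul_mem (mul_mem hc hd) (inv_mem (mul_mem hd hc))
    rwa [e, mul_inv_cancel_right] at this
  have h01 : ∀ s, s ∈ rootCoeff H (0 : Fin 3) 1 := by
    intro s h
    obtain ⟨c, hc⟩ := hP (s, 0)
    have e : upperU s 0 c = Matrix.SpecialLinearGroup.transvection h s *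
        Matrix.SpecialLinearGroup.transvection n02 c := by
      apply Subtype.ext
      simp only [coe_mul, upperU_coe, transvection_coe]
      ext i j
      fin_cases i <;> fin_cases j <;> simp [Matrix.mul_apply, Fin.sum_univ_three]
    rw [e] at hc
    exact (mul_mem_cancel_right (h02 c n02)).mp hc
  have h12 : ∀ s, s ∈ rootCoeff H (1 : Fin 3) 2 := by
    intro s h
    obtain ⟨c, hc⟩ := hP (0, s)
    have e : upperU 0 s c = Matrix.SpecialLinearGroup.transvection h s *
        Matrix.SpecialLinearGroup.transvection n02 c := by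
      apply Subtype.ext
      simp only [coe_mul, upperU_coe, transvection_coe]
      ext i j
      fin_cases i <;> fin_cases j <;> simp [Matrix.mul_apply, Fin.sum_univ_three]
    rw [e] at hc
    exact (mul_mem_cancel_right (h02 c n02)).mp hc
  have h21 : ∀ s, s ∈ rootCoeff H (2 : Fin 3) 1 := by
    intro s
    refine rootCoeff_conj hm n01 ?_ (h01 (s * β))
    rw [hmm]
    ext i j
    fin_cases i <;> fin_cases j <;> simp [Matrix.mul_apply, Fin.sum_univ_three]
  have h10 : ∀ s, s ∈ rootCoeff H (1 : Fin 3) 0 := by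
    intro s
    refine rootCoeff_conj hm n12 ?_ (h12 (s * γ / β))
    rw [hmm]
    ext i j
    fin_cases i <;> fin_cases j <;> simp [Matrix.mul_apply, Fin.sum_univ_three] <;> field_simp
  have h20 : ∀ s, s ∈ rootCoeff H (2 : Fin 3) 0 := fun s => by
    have := rootCoeff_mul n12.symm n01.symm n02.symm (h21 s) (h10 1)
    rwa [mul_one] at this
  refine eq_top_of_rootCoeff fun i j hij => ?_
  rw [AddSubgroup.eq_top_iff']
  intro s
  fin_cases i <;> fin_cases j
  all_goals first | exact absurd rfl hij | exact h01 s | exact h02 s | exact h10 s | exact h12 s | exact h20 s | exact h21 s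

end Cfsg.Agent.LinearGroup
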