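import Cfsg.Agent.Lib.LinearGroup.SLThreeCompanion
import Cfsg.Agent.Lib.LinearGroup.SLThreeTorus
import Cfsg.Agent.Lib.LinearGroup.SLThreeSmall

/-!
`SL 3` of a finite field is generated by two conjugate regular unipotents (helper9).
-/

set_option autoImplicit false

namespace Cfsg.Agent.LinearGroup

open Matrix

universe v

theorem exists_conj_regular_unipotent_gen_three (F : Type v) [Field F] [Fintype F] :
    ∃ u g : Matrix.SpecialLinearGroup (Fin 3) F,
      (IsNilpotent ((u : Matrix (Fin 3) (Fin 3) F) - 1) ∧
        ((u : Matrix (Fin 3) (Fin 3) F) - 1) ^ (3 - 1) ≠ 0) ∧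
      Subgroup.closure ({u, g * u * g⁻¹} : Set (Matrix.SpecialLinearGroup (Fin 3) F)) = ⊤ := by
  have h1 : 1 < Fintype.card F := Fintype.one_lt_card
  rcases Nat.lt_or_ge (Fintype.card F) 5 with hq | hq
  · obtain ⟨g, hg⟩ : ∃ g : Matrix.SpecialLinearGroup (Fin 3) F,
        Subgroup.closure ({compSL F 2, g * compSL F 2 * g⁻¹} :
          Set (Matrix.SpecialLinearGroup (Fin 3) F)) = ⊤ := by
      rcases (show Fintype.card F = 2 ∨ Fintype.card F = 3 ∨ Fintype.card F = 4 by omega)
        with h | h | h
      · exact exists_regular_pair_three_two F h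
      · exact exists_regular_pair_three_three F h
      · exact exists_regular_pair_three_four F h
    exact ⟨compSL F 2, g, compSL_two_regular, hg⟩
  · by_cases h3 : (3 : F) = 0
    · exact exists_regular_pair_three_eq F h3 hq
    · obtain ⟨g, hg⟩ := exists_regular_pair_three_ne F h3 hq
      exact ⟨compSL F 2, g, compSL_two_regular, hg⟩

end Cfsg.Agent.LinearGroup
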