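import Cfsg.Agent.Lib.LinearGroup.RegularUnipotentGen

/-!
The generating pair of conjugate regular unipotents for `SL n F`, `4 ≤ n` (helper9).
-/

set_option autoImplicit false

namespace Cfsg.Agent.LinearGroup

open Matrix Matrix.SpecialLinearGroup

universe u v

variable {ι : Type u} [DecidableEq ι] [Fintype ι] {F : Type v} [Field F]

theorem coe_conj_sub_one_pow (u g : Matrix.SpecialLinearGroup ι F) (k : ℕ) :
    (((g * u * g⁻¹ : Matrix.SpecialLinearGroup ι F) : Matrix ι ι F) - 1) ^ k =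
      (g : Matrix ι ι F) * ((u : Matrix ι ι F) - 1) ^ k *
        ((g⁻¹ : Matrix.SpecialLinearGroup ι F) : Matrix ι ι F) := by
  set G : Matrix ι ι F := (g : Matrix ι ι F)
  set G' : Matrix ι ι F := ((g⁻¹ : Matrix.SpecialLinearGroup ι F) : Matrix ι ι F)
  have h1 : G * G' = 1 := by
    rw [← Matrix.SpecialLinearGroup.coe_mul, mul_inv_cancel, Matrix.SpecialLinearGroup.coe_one]
  have h2 : G' * G = 1 := by
    rw [← Matrix.SpecialLinearGroup.coe_mul, inv_mul_cancel, Matrix.SpecialLinearGroup.coe_one]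
  induction k with
  | zero => rw [pow_zero, pow_zero, Matrix.mul_one, h1]
  | succ k ih =>
    have h3 : ((g * u * g⁻¹ : Matrix.SpecialLinearGroup ι F) : Matrix ι ι F) - 1 =
        G * ((u : Matrix ι ι F) - 1) * G' := by
      rw [Matrix.SpecialLinearGroup.coe_mul, Matrix.SpecialLinearGroup.coe_mul, Matrix.mul_sub,
        Matrix.sub_mul, Matrix.mul_one, h1]
    rw [pow_succ, ih, h3, pow_succ]
    simp only [Matrix.mul_assoc]
    congr 2
    rw [← Matrix.mul_assoc, h2, Matrix.one_mul]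

theorem regular_unipotent_conj (u g : Matrix.SpecialLinearGroup ι F) (k : ℕ)
    (hu : IsNilpotent ((u : Matrix ι ι F) - 1) ∧ ((u : Matrix ι ι F) - 1) ^ k ≠ 0) :
    IsNilpotent (((g * u * g⁻¹ : Matrix.SpecialLinearGroup ι F) : Matrix ι ι F) - 1) ∧
      (((g * u * g⁻¹ : Matrix.SpecialLinearGroup ι F) : Matrix ι ι F) - 1) ^ k ≠ 0 := by
  obtain ⟨⟨N, hN⟩, hk⟩ := hu
  refine ⟨⟨N, by rw [coe_conj_sub_one_pow, hN, Matrix.mul_zero, Matrix.zero_mul]⟩, fun h => hk ?_⟩
  have h2 := congrArg (fun M => ((g⁻¹ : Matrix.SpecialLinearGroup ι F) : Matrix ι ι F) * M *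
    (g : Matrix ι ι F)) (((coe_conj_sub_one_pow u g k).symm).trans h)
  have h3 : ((g⁻¹ : Matrix.SpecialLinearGroup ι F) : Matrix ι ι F) * (g : Matrix ι ι F) = 1 := by
    rw [← Matrix.SpecialLinearGroup.coe_mul, inv_mul_cancel, Matrix.SpecialLinearGroup.coe_one]
  simp only [Matrix.mul_zero, Matrix.zero_mul, ← Matrix.mul_assoc] at h2
  rwa [h3, Matrix.one_mul, Matrix.mul_assoc, h3, Matrix.mul_one] at h2

/-- Two conjugate regular unipotents generate `SL n F` for a finite field `F` and `4 ≤ n`. -/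
theorem exists_conj_regular_unipotent_gen [Finite F] (n : ℕ) (hn : 4 ≤ n) :
    ∃ u g : Matrix.SpecialLinearGroup (Fin n) F,
      (IsNilpotent ((u : Matrix (Fin n) (Fin n) F) - 1) ∧
        ((u : Matrix (Fin n) (Fin n) F) - 1) ^ (n - 1) ≠ 0) ∧
      Subgroup.closure ({u, g * u * g⁻¹} : Set (Matrix.SpecialLinearGroup (Fin n) F)) = ⊤ := by
  obtain ⟨m, rfl⟩ : ∃ m, n = m + 1 := ⟨n - 1, by omega⟩
  obtain ⟨g0, hg0⟩ := IsCyclic.exists_generator (α := Fˣ)
  have hgen : ∀ t : F, t ≠ 0 → ∃ i : ℕ, (g0 : F) ^ i = t := by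
    intro t ht
    obtain ⟨i, hi⟩ := mem_powers_iff_mem_zpowers.mpr (hg0 (Units.mk0 t ht))
    exact ⟨i, by simpa using congrArg Units.val hi⟩
  have h0m : cIdx m 0 ≠ cIdx m m := cIdx_ne m (Nat.zero_le _) le_rfl (by omega)
  have h10 : cIdx m 1 ≠ cIdx m 0 := cIdx_ne m (by omega) (Nat.zero_le _) (by omega)
  refine ⟨compSL F m, transvection h0m (g0 : F),
    ⟨⟨m + 1, compMat_sub_pow_eq_zero m⟩, by simpa [compSL_coe] using compMat_sub_pow_ne_zero m⟩, ?_⟩
  set H := Subgroup.closure ({compSL F m,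
    transvection h0m (g0 : F) * compSL F m * (transvection h0m (g0 : F))⁻¹} :
      Set (Matrix.SpecialLinearGroup (Fin (m + 1)) F))
  have hC : compSL F m ∈ H := Subgroup.subset_closure (by simp)
  have hgC : transvection h0m (g0 : F) * compSL F m * (transvection h0m (g0 : F))⁻¹ ∈ H :=
    Subgroup.subset_closure (by simp)
  refine eq_top_of_compSL (by omega) (g0 : F) g0.ne_zero hgen hC h0m h10 ?_
  have he : compSL F m * (transvection h0m (g0 : F))⁻¹ * (compSL F m)⁻¹ =
      transvection h10 (-(compCoef F m 0 * g0)) := by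
    rw [transvection_inv]
    refine conj_transvection_eq h0m h10 ?_
    rw [compSL_coe, compMat_mul_single m (show 0 < m by omega), single_mul_compMat_zero, neg_mul,
      mul_right_comm, compCoef_zero_sq, one_mul]
  have := mul_mem hgC (inv_mem hC)
  rwa [mul_assoc, mul_assoc, ← mul_assoc (compSL F m), he] at this

end Cfsg.Agent.LinearGroup
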