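import Cfsg.Agent.Lib.LinearGroup.UnitaryThreeCert

/-!
Certified words for `SU 3 (5)` and `SU 3 (8)` (helper9, found by search).
-/

set_option autoImplicit false

namespace Cfsg.Agent.LinearGroup.SUThree

open Matrix

/-- `F_25`. -/
abbrev R5 := QuadraticAlgebra (ZMod 5) 2 0

/-- `F_64`. -/
abbrev R8 := QuadraticAlgebra GF8 1 1

instance instFintypeR5 : Fintype R5 := Fintype.ofEquiv _ (QuadraticAlgebra.equivProd 2 0).symm
instance instFintypeR8 : Fintype R8 := Fintype.ofEquiv _ (QuadraticAlgebra.equivProd 1 1).symm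

/-- coordinates -/
def e5 (a b : ℕ) : R5 := ⟨a, b⟩

/-- coordinates -/
def e8 (a b : ℕ) : R8 := ⟨⟨⟨a % 8, Nat.mod_lt _ (by norm_num)⟩⟩, ⟨⟨b % 8, Nat.mod_lt _ (by norm_num)⟩⟩⟩

/-- Certificate data for `q = 5`. -/
def certU5 : Matrix (Fin 3) (Fin 3) R5 := !![e5 1 0, e5 1 0, e5 2 4; e5 0 0, e5 1 0, e5 4 0; e5 0 0, e5 0 0, e5 1 0]

/-- Certificate data for `q = 5`. -/
def certG5 : Matrix (Fin 3) (Fin 3) R5 := !![e5 3 4, e5 2 4, e5 4 1; e5 4 2, e5 4 0, e5 3 3; e5 3 1, e5 1 4, e5 4 2]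

/-- Certificate data for `q = 5`. -/
def certV5 : Matrix (Fin 3) (Fin 3) R5 := !![e5 3 4, e5 2 3, e5 4 0; e5 3 1, e5 2 3, e5 2 3; e5 4 1, e5 4 3, e5 3 3]

/-- Certificate data for `q = 5`. -/
def certW5 : List ((List Bool × List Bool) × R5 × R5) :=
  [(([false,true,false,true,true], [true,false,true,true]), e5 0 4, e5 1 3)]

theorem cert5_ok :
    certU5 = upMat 5 1 (certU5 0 2) ∧ IsJ 5 certU5 ∧ IsJ 5 certG5 ∧ IsJ 5 certV5 ∧
      certV5 * certG5 = certG5 * certU5 ∧ certV5 2 0 ≠ 0 ∧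
      (certU5 - 1) ^ 3 = 0 ∧ ((certU5 - 1) ^ 2 : Matrix (Fin 3) (Fin 3) R5) 0 2 ≠ 0 ∧
      (∀ d ∈ certW5, (d.1.1.map fun b => if b then certV5 else certU5).prod =
        (d.1.2.map fun b => if b then certV5 else certU5).prod * upMat 5 d.2.1 d.2.2) ∧
      (∀ x : R5, x ∈ spanList (1 :: certW5.map fun d => d.2.1) 5) ∧
      (∀ x : R5, x = 0 ∨ ∃ y : R5, x * y = 1) ∧ Fintype.card R5 = 25 := by
  unfold IsJ
  decide +kernel

/-- Certificate data for `q = 8`. -/
def certU8 : Matrix (Fin 3) (Fin 3) R8 := !![e8 1 0, e8 1 0, e8 3 1; e8 0 0, e8 1 0, e8 1 0; e8 0 0, e8 0 0, e8 1 0]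

/-- Certificate data for `q = 8`. -/
def certG8 : Matrix (Fin 3) (Fin 3) R8 := !![e8 0 3, e8 4 4, e8 2 0; e8 5 4, e8 2 4, e8 2 6; e8 1 6, e8 0 0, e8 4 5]

/-- Certificate data for `q = 8`. -/
def certV8 : Matrix (Fin 3) (Fin 3) R8 := !![e8 5 6, e8 3 6, e8 3 5; e8 2 5, e8 5 3, e8 6 2; e8 4 5, e8 3 2, e8 1 5]

/-- Certificate data for `q = 8`. -/
def certW8 : List ((List Bool × List Bool) × R8 × R8) :=
  [(([true,false,true,true,false,true,false,true], [false,false,true,false,false,true]), e8 4 1, e8 6 3),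
    (([false,false,true,false,true,true,true,false,true], [true,true,true,false,true,true,false,true]), e8 2 7, e8 2 2),
    (([false,false,true,false,false,true,true,false,false,true], [true,true,true,false,false,false,true,true,true]), e8 1 7, e8 2 5),
    (([true,false,false,true,false,true,false,false,true,true], [false,true,false,true,true,false,false,true]), e8 7 5, e8 1 2),
    (([true,false,true,true,false,true,false,false,true,true], [false,true,true,true,false,true,true,false,false,true]), e8 4 7, e8 3 4)]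

theorem cert8_ok :
    certU8 = upMat 8 1 (certU8 0 2) ∧ IsJ 8 certU8 ∧ IsJ 8 certG8 ∧ IsJ 8 certV8 ∧
      certV8 * certG8 = certG8 * certU8 ∧ certV8 2 0 ≠ 0 ∧
      (certU8 - 1) ^ 3 = 0 ∧ ((certU8 - 1) ^ 2 : Matrix (Fin 3) (Fin 3) R8) 0 2 ≠ 0 ∧
      (∀ d ∈ certW8, (d.1.1.map fun b => if b then certV8 else certU8).prod =
        (d.1.2.map fun b => if b then certV8 else certU8).prod * upMat 8 d.2.1 d.2.2) ∧
      (∀ x : R8, x ∈ spanList (1 :: certW8.map fun d => d.2.1) 2) ∧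
      (∀ x : R8, x = 0 ∨ ∃ y : R8, x * y = 1) ∧ Fintype.card R8 = 64 := by
  unfold IsJ
  decide +kernel

end Cfsg.Agent.LinearGroup.SUThree
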