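import Cfsg.Agent.Lib.LinearGroup.UnitaryThreeTorus
import Cfsg.Agent.Lib.Unitary.Transvection
import Cfsg.Agent.Lib.LinearGroup.UnitaryThreeCertData

/-!
`SU 3 (q)`, `q ≥ 3`, is generated by two conjugate regular unipotents (helper9).
-/

set_option autoImplicit false

namespace Cfsg.Agent.LinearGroup.SUThree

open Matrix
open Cfsg.Agent.Unitary (conjHom conjHom_apply herm)

universe u

variable {F : Type u} [Field F] [Fintype F] {q : ℕ}

theorem exists_hom_R5 (hF : Fintype.card F = 5 ^ 2) :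
    ∃ φ : R5 →+* F, Function.Injective φ ∧ Nat.card R5 = Nat.card F := by
  haveI : Fact (Nat.Prime 5) := ⟨Nat.prime_five⟩
  haveI : CharP F 5 := charP_of_card_eq_prime_pow hF
  letI : Algebra (ZMod 5) F := ZMod.algebra F 5
  obtain ⟨ν, hν⟩ := IsCyclic.exists_generator (α := Fˣ)
  have hord : orderOf ν = 24 := by
    rw [orderOf_eq_card_of_forall_mem_zpowers hν, Nat.card_units, Nat.card_eq_fintype_card, hF] <;>
      norm_num
  set x : F := ((ν ^ 3 : Fˣ) : F)
  have hx0 : x ≠ 0 := Units.ne_zero _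
  have hx8 : x ^ 8 = 1 := by
    have : (ν ^ 3) ^ 8 = 1 := by
        rw [← pow_mul, show 3 * 8 = orderOf ν by rw [hord], pow_orderOf_eq_one]
    simpa [x] using congrArg Units.val this
  have hx4 : x ^ 4 ≠ 1 := by
    intro e
    have h : (ν ^ 3) ^ 4 = 1 := Units.ext (by simpa [x] using e)
    rw [← pow_mul] at h
    have := Nat.le_of_dvd (by norm_num) (orderOf_dvd_of_pow_eq_one h)
    omega
  have hx : x ^ 4 = -1 := by
    have h : (x ^ 4 - 1) * (x ^ 4 + 1) = 0 := by linear_combination hx8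
    exact eq_neg_of_add_eq_zero_left ((mul_eq_zero.mp h).resolve_left (sub_ne_zero.mpr hx4))
  have hw : (x + x⁻¹) * (x + x⁻¹) = (2 : ZMod 5) • (1 : F) + (0 : ZMod 5) • (x + x⁻¹) := by
    rw [zero_smul, add_zero, Algebra.smul_def, mul_one, map_ofNat]
    field_simp
    linear_combination hx
  refine ⟨(QuadraticAlgebra.lift ⟨x + x⁻¹, hw⟩).toRingHom, ?_, ?_⟩
  · rw [injective_iff_map_eq_zero]
    intro y hy
    rcases cert5_ok.2.2.2.2.2.2.2.2.2.2.1 y with rfl | ⟨z, hz⟩
    · rfl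
    · have h := congrArg (QuadraticAlgebra.lift ⟨x + x⁻¹, hw⟩).toRingHom hz
      rw [map_mul, hy, zero_mul, map_one] at h
      exact absurd h zero_ne_one
  · rw [Nat.card_eq_fintype_card, Nat.card_eq_fintype_card, cert5_ok.2.2.2.2.2.2.2.2.2.2.2, hF] <;> norm_num

theorem exists_hom_R8 (hF : Fintype.card F = 8 ^ 2) :
    ∃ φ : R8 →+* F, Function.Injective φ ∧ Nat.card R8 = Nat.card F := by
  have hF' : Fintype.card F = 2 ^ 6 := by rw [hF]; norm_num
  haveI : Fact (Nat.Prime 2) := ⟨Nat.prime_two⟩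
  haveI : CharP F 2 := charP_of_card_eq_prime_pow hF'
  have h2 : (2 : F) = 0 := CharTwo.two_eq_zero
  obtain ⟨ν, hν⟩ := IsCyclic.exists_generator (α := Fˣ)
  have hord : orderOf ν = 63 := by
    rw [orderOf_eq_card_of_forall_mem_zpowers hν, Nat.card_units, Nat.card_eq_fintype_card, hF] <;>
      norm_num
  -- a root of `X³ + X + 1`
  obtain ⟨ζ, hζ⟩ : ∃ ζ : F, ζ ^ 3 + ζ + 1 = 0 := by
    set z : F := ((ν ^ 9 : Fˣ) : F)
    have hz0 : z ≠ 0 := Units.ne_zero _
    have hz7 : z ^ 7 = 1 := by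
      have : (ν ^ 9) ^ 7 = 1 := by
        rw [← pow_mul, show 9 * 7 = orderOf ν by rw [hord], pow_orderOf_eq_one]
      simpa [z] using congrArg Units.val this
    have hz1 : z ≠ 1 := by
      intro e
      have h : ν ^ 9 = 1 := Units.ext e
      have := Nat.le_of_dvd (by norm_num) (orderOf_dvd_of_pow_eq_one h)
      omega
    have h : (z - 1) * ((z ^ 3 + z + 1) * (z ^ 3 + z ^ 2 + 1)) = 0 := by
      linear_combination hz7 + (z ^ 4 - z ^ 3) * h2
    rcases mul_eq_zero.mp ((mul_eq_zero.mp h).resolve_left (sub_ne_zero.mpr hz1)) with h | h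
    · exact ⟨z, h⟩
    · refine ⟨z⁻¹, ?_⟩
      field_simp
      linear_combination h
  let e : Bool → F := fun b => if b then 1 else 0
  have exor : ∀ a b : Bool, e (a ^^ b) = e a + e b := by
    intro a b; cases a <;> cases b <;> simp [e]
    linear_combination (-1 : F) * h2
  have eand : ∀ a b : Bool, e (a && b) = e a * e b := by
    intro a b; cases a <;> cases b <;> simp [e]
  let bit : GF8 → ℕ → Bool := fun a k => a.code.val.testBit k
  let f : GF8 → F := fun a => e (bit a 0) + e (bit a 1) * ζ + e (bit a 2) * ζ ^ 2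
  have badd : ∀ a b : GF8, (a + b).code.val.testBit 0 = (a.code.val.testBit 0 ^^ b.code.val.testBit 0) ∧
      (a + b).code.val.testBit 1 = (a.code.val.testBit 1 ^^ b.code.val.testBit 1) ∧
      (a + b).code.val.testBit 2 = (a.code.val.testBit 2 ^^ b.code.val.testBit 2) := by decide +kernel
  have bmul : ∀ a b : GF8,
      (a * b).code.val.testBit 0 = ((a.code.val.testBit 0 && b.code.val.testBit 0) ^^
        ((a.code.val.testBit 1 && b.code.val.testBit 2) ^^ (a.code.val.testBit 2 && b.code.val.testBit 1))) ∧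
      (a * b).code.val.testBit 1 = ((a.code.val.testBit 0 && b.code.val.testBit 1) ^^
        ((a.code.val.testBit 1 && b.code.val.testBit 0) ^^ ((a.code.val.testBit 1 && b.code.val.testBit 2) ^^
        ((a.code.val.testBit 2 && b.code.val.testBit 1) ^^ (a.code.val.testBit 2 && b.code.val.testBit 2))))) ∧
      (a * b).code.val.testBit 2 = ((a.code.val.testBit 0 && b.code.val.testBit 2) ^^
        ((a.code.val.testBit 1 && b.code.val.testBit 1) ^^ ((a.code.val.testBit 2 && b.code.val.testBit 0) ^^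
        (a.code.val.testBit 2 && b.code.val.testBit 2)))) := by decide +kernel
  have hadd : ∀ a b : GF8, f (a + b) = f a + f b := by
    intro a b
    simp only [f, bit, (badd a b).1, (badd a b).2.1, (badd a b).2.2, exor]
    ring
  have hmul : ∀ a b : GF8, f (a * b) = f a * f b := by
    intro a b
    have hζ3 : ζ ^ 3 = ζ + 1 := by linear_combination hζ - (ζ + 1) * h2
    have hζ4 : ζ ^ 4 = ζ ^ 2 + ζ := by linear_combination ζ * hζ3
    simp only [f, bit, (bmul a b).1, (bmul a b).2.1, (bmul a b).2.2, exor, eand]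
    linear_combination (-(e (a.code.val.testBit 1) * e (b.code.val.testBit 2)) -
      e (a.code.val.testBit 2) * e (b.code.val.testBit 1)) * hζ3 -
      e (a.code.val.testBit 2) * e (b.code.val.testBit 2) * hζ4
  let ψ : GF8 →+* F :=
    { toFun := f
      map_one' := by
        show f (1 : GF8) = 1
        rw [show f (1 : GF8) = e true + e false * ζ + e false * ζ ^ 2 from rfl]
        simp [e]
      map_mul' := hmul
      map_zero' := by
        show f (0 : GF8) = 0
        rw [show f (0 : GF8) = e false + e false * ζ + e false * ζ ^ 2 from rfl]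
        simp [e]
      map_add' := hadd }
  letI : Algebra GF8 F := ψ.toAlgebra
  set w : F := ((ν ^ 21 : Fˣ) : F)
  have hw3 : w ^ 3 = 1 := by
    have : (ν ^ 21) ^ 3 = 1 := by
        rw [← pow_mul, show 21 * 3 = orderOf ν by rw [hord], pow_orderOf_eq_one]
    simpa [w] using congrArg Units.val this
  have hw1 : w ≠ 1 := by
    intro e
    have h : ν ^ 21 = 1 := Units.ext e
    have := Nat.le_of_dvd (by norm_num) (orderOf_dvd_of_pow_eq_one h)
    omega
  have hw2 : w * w + w + 1 = 0 := by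
    have : (w - 1) * (w * w + w + 1) = 0 := by linear_combination hw3
    exact (mul_eq_zero.mp this).resolve_left (sub_ne_zero.mpr hw1)
  have hw : w * w = (1 : GF8) • (1 : F) + (1 : GF8) • w := by
    rw [one_smul, one_smul]
    linear_combination hw2 - (w + 1) * h2
  refine ⟨(QuadraticAlgebra.lift ⟨w, hw⟩).toRingHom, ?_, ?_⟩
  · rw [injective_iff_map_eq_zero]
    intro y hy
    rcases cert8_ok.2.2.2.2.2.2.2.2.2.2.1 y with rfl | ⟨z, hz⟩
    · rfl
    · have h := congrArg (QuadraticAlgebra.lift ⟨w, hw⟩).toRingHom hz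
      rw [map_mul, hy, zero_mul, map_one] at h
      exact absurd h zero_ne_one
  · rw [Nat.card_eq_fintype_card, Nat.card_eq_fintype_card, cert8_ok.2.2.2.2.2.2.2.2.2.2.2, hF] <;> norm_num

/-- The pair in the hyperbolic model. -/
theorem exists_pair (hF : Fintype.card F = q ^ 2) (hq : 3 ≤ q) :
    ∃ u g : jGroup hF,
      IsNilpotent (((u : Matrix.SpecialLinearGroup (Fin 3) F) : Matrix (Fin 3) (Fin 3) F) - 1) ∧
      (((u : Matrix.SpecialLinearGroup (Fin 3) F) : Matrix (Fin 3) (Fin 3) F) - 1) ^ 2 ≠ 0 ∧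
      (∀ a, a ∈ aCoeff hF (Subgroup.closure {u, g * u * g⁻¹})) ∧
      ∃ w ∈ Subgroup.closure ({u, g * u * g⁻¹} : Set (jGroup hF)),
        ((w : Matrix.SpecialLinearGroup (Fin 3) F) : Matrix (Fin 3) (Fin 3) F) 2 0 ≠ 0 := by
  by_cases h5 : q = 5
  · subst h5
    obtain ⟨φ, hi, hc⟩ := exists_hom_R5 hF
    obtain ⟨c1, c2, c3, c4, c5, c6, c7, c8, c9, c10, -⟩ := cert5_ok
    exact exists_pair_cert hF φ hi hc certU5 certG5 certV5 _ c1 c2 c3 c4 c5 c6 ⟨c7, c8⟩ certW5 c9 5 c10
  by_cases h8 : q = 8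
  · subst h8
    obtain ⟨φ, hi, hc⟩ := exists_hom_R8 hF
    obtain ⟨c1, c2, c3, c4, c5, c6, c7, c8, c9, c10, -⟩ := cert8_ok
    exact exists_pair_cert hF φ hi hc certU8 certG8 certV8 _ c1 c2 c3 c4 c5 c6 ⟨c7, c8⟩ certW8 c9 2 c10
  exact exists_pair_torus hF hq h5 h8

omit [Fintype F] in
theorem herm_eq_dot (q : ℕ) (x y : Fin 3 → F) : herm q x y = x ⬝ᵥ (fun i => y i ^ q) := rfl

/-- `SU 3 (q)` is generated by two conjugate regular unipotents. -/
theorem exists_conj_regular_unipotent_gen_SU (hF : Fintype.card F = q ^ 2) (hq : 3 ≤ q) :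
    ∃ u g : ↥(Cfsg.SU 3 F q),
      (IsNilpotent (((u : Matrix.SpecialLinearGroup (Fin 3) F) : Matrix (Fin 3) (Fin 3) F) - 1) ∧
        (((u : Matrix.SpecialLinearGroup (Fin 3) F) : Matrix (Fin 3) (Fin 3) F) - 1) ^ (3 - 1) ≠ 0) ∧
      Subgroup.closure ({u, g * u * g⁻¹} : Set ↥(Cfsg.SU 3 F q)) = ⊤ := by
  have hσσ := Unitary.pow_q_pow_q hF
  -- a hyperbolic basis of the standard form
  obtain ⟨x, hx⟩ := Unitary.exists_norm_eq hF (t := (-1 : F))
    (by rw [Unitary.neg_pow_q hF, one_pow])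
  have hx0 : x ≠ 0 := by
    rintro rfl
    rw [zero_pow (by omega)] at hx
    exact neg_ne_zero.mpr one_ne_zero hx.symm
  obtain ⟨ζ, hζ, hζ1⟩ : ∃ ζ : F, ζ ^ (q + 1) = 1 ∧ ζ ≠ 1 := by
    by_contra h
    push Not at h
    have hsub : Subsingleton {y : F // y ^ (q + 1) = 1} :=
      ⟨fun a b => Subtype.ext ((h a a.2).trans (h b b.2).symm)⟩
    have := Finite.card_le_one_iff_subsingleton.mpr hsub
    rw [Unitary.card_norm_eq_one hF] at this
    omega
  set y : F := x * ζ with hy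
  have hy' : y ^ (q + 1) = -1 := by rw [hy, mul_pow, hx, hζ, mul_one]
  rw [pow_succ] at hx hy'
  have hd : 1 + y * x ^ q ≠ 0 := by
    intro e
    have h : y * x ^ q = x * x ^ q := by linear_combination e - hx
    have := mul_right_cancel₀ (pow_ne_zero _ hx0) h
    rw [hy] at this
    exact hζ1 (mul_left_cancel₀ hx0 (this.trans (mul_one x).symm))
  set s : F := (1 + y * x ^ q)⁻¹ with hs
  set P : Matrix (Fin 3) (Fin 3) F := !![1, 0, s; x, 0, s * y; 0, 1, 0] with hP
  have hs1 : s * (1 + y * x ^ q) = 1 := inv_mul_cancel₀ hd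
  have hs2 : s ^ q * (1 + y ^ q * x) = 1 := by
    have h := congrArg (conjHom hF) hs1
    simpa [conjHom_apply hF, mul_pow, Unitary.add_pow_q hF, hσσ] using h
  have hPJ : Pᵀ * P.map (conjHom hF) = antiJ := by
    ext i j
    fin_cases i <;> fin_cases j <;>
      simp [hP, antiJ, Matrix.mul_apply, Fin.sum_univ_three, conjHom_apply hF, mul_pow,
        Unitary.zero_pow_q hF]
    · linear_combination hx
    · linear_combination hs2
    · linear_combination hs1
    · linear_combination (s * s ^ q) * hy'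
  have hPdet : IsUnit P.det := by
    rw [isUnit_iff_ne_zero]
    intro e
    have := congrArg Matrix.det hPJ
    rw [Matrix.det_mul, Matrix.det_transpose, e, zero_mul] at this
    simp [antiJ, Matrix.det_fin_three] at this
  -- the isomorphism onto `SU`
  have hherm : ∀ a b : Fin 3 → F, herm q (P *ᵥ a) (P *ᵥ b) = a ⬝ᵥ (antiJ *ᵥ fun i => b i ^ q) := by
    intro a b
    rw [herm_eq_dot, ← hPJ, ← Matrix.mulVec_mulVec, Matrix.dotProduct_mulVec, Matrix.vecMul_transpose]
    congr 1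
    funext i
    rw [← conjHom_apply hF]
    exact RingHom.map_mulVec (conjHom hF) P b i
  have hmem : ∀ X : jGroup hF, ∃ Y : ↥(Cfsg.SU 3 F q),
      ((Y : Matrix.SpecialLinearGroup (Fin 3) F) : Matrix (Fin 3) (Fin 3) F) =
        P * ((X : Matrix.SpecialLinearGroup (Fin 3) F) : Matrix (Fin 3) (Fin 3) F) * P⁻¹ := by
    intro X
    set M : Matrix (Fin 3) (Fin 3) F := ((X : Matrix.SpecialLinearGroup (Fin 3) F) : Matrix (Fin 3) (Fin 3) F)
    refine ⟨⟨⟨P * M * P⁻¹, ?_⟩, ?_⟩, rfl⟩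
    · rw [Matrix.det_conj ((Matrix.isUnit_iff_isUnit_det P).mpr hPdet)]
      exact (X : Matrix.SpecialLinearGroup (Fin 3) F).2
    · intro a b
      show herm q ((P * M * P⁻¹) *ᵥ a) ((P * M * P⁻¹) *ᵥ b) = herm q a b
      simp only [← Matrix.mulVec_mulVec]
      conv_rhs => rw [← Matrix.one_mulVec a, ← Matrix.one_mulVec b, ← Matrix.mul_nonsing_inv P hPdet,
        ← Matrix.mulVec_mulVec, ← Matrix.mulVec_mulVec]
      rw [hherm, hherm]
      generalize P⁻¹ *ᵥ a = a'
      generalize P⁻¹ *ᵥ b = b'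
      have e : (fun i => (M *ᵥ b') i ^ q) = M.map (conjHom hF) *ᵥ fun i => b' i ^ q := by
        funext i
        rw [← conjHom_apply hF]
        exact RingHom.map_mulVec (conjHom hF) M b' i
      rw [e, Matrix.mulVec_mulVec, Matrix.dotProduct_mulVec, ← Matrix.vecMul_transpose,
        Matrix.vecMul_vecMul, ← Matrix.mul_assoc, (mem_jGroup hF).mp X.2, ← Matrix.dotProduct_mulVec]
  choose Φ hΦ using hmem
  have hΦmul : ∀ X Y, Φ (X * Y) = Φ X * Φ Y := fun X Y => by
    apply Subtype.ext; apply Subtype.ext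
    simp only [Subgroup.coe_mul, Matrix.SpecialLinearGroup.coe_mul, hΦ]
    rw [show P * ((X : Matrix.SpecialLinearGroup (Fin 3) F) : Matrix (Fin 3) (Fin 3) F) * P⁻¹ *
      (P * ((Y : Matrix.SpecialLinearGroup (Fin 3) F) : Matrix (Fin 3) (Fin 3) F) * P⁻¹) =
      P * ((X : Matrix.SpecialLinearGroup (Fin 3) F) : Matrix (Fin 3) (Fin 3) F) * (P⁻¹ * P) *
      ((Y : Matrix.SpecialLinearGroup (Fin 3) F) : Matrix (Fin 3) (Fin 3) F) * P⁻¹ by
        simp only [Matrix.mul_assoc]]
    rw [Matrix.nonsing_inv_mul _ hPdet, Matrix.mul_one]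
    simp only [Matrix.mul_assoc]
  let Ψ : jGroup hF →* ↥(Cfsg.SU 3 F q) := MonoidHom.mk' Φ hΦmul
  obtain ⟨u, g, hnil, hreg, hA, w, hw, hw20⟩ := exists_pair hF hq
  have hpow : ∀ k : ℕ, (((Ψ u : ↥(Cfsg.SU 3 F q)) : Matrix.SpecialLinearGroup (Fin 3) F) :
      Matrix (Fin 3) (Fin 3) F) - 1 = P * (((u : Matrix.SpecialLinearGroup (Fin 3) F) :
        Matrix (Fin 3) (Fin 3) F) - 1) * P⁻¹ ∧
      (P * (((u : Matrix.SpecialLinearGroup (Fin 3) F) : Matrix (Fin 3) (Fin 3) F) - 1) * P⁻¹) ^ k =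
      P * (((u : Matrix.SpecialLinearGroup (Fin 3) F) : Matrix (Fin 3) (Fin 3) F) - 1) ^ k * P⁻¹ := by
    intro k
    refine ⟨?_, ?_⟩
    · show ((Φ u : Matrix.SpecialLinearGroup (Fin 3) F) : Matrix (Fin 3) (Fin 3) F) - 1 = _
      rw [hΦ, Matrix.mul_sub, Matrix.sub_mul, Matrix.mul_one, Matrix.mul_nonsing_inv _ hPdet]
    · induction k with
      | zero => rw [pow_zero, pow_zero, Matrix.mul_one, Matrix.mul_nonsing_inv _ hPdet]
      | succ k ih =>
        rw [pow_succ, ih, pow_succ]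
        simp only [Matrix.mul_assoc]
        rw [← Matrix.mul_assoc P⁻¹ P, Matrix.nonsing_inv_mul _ hPdet, Matrix.one_mul]
  refine ⟨Ψ u, Ψ g, ⟨?_, ?_⟩, ?_⟩
  · obtain ⟨k, hk⟩ := hnil
    refine ⟨k, ?_⟩
    rw [(hpow k).1, (hpow k).2, hk, Matrix.mul_zero, Matrix.zero_mul]
  · rw [(hpow 2).1, (hpow 2).2]
    intro e
    apply hreg
    have := congrArg (fun M => P⁻¹ * M * P) e
    simp only [Matrix.mul_zero, Matrix.zero_mul, ← Matrix.mul_assoc, Matrix.nonsing_inv_mul _ hPdet,
      Matrix.one_mul] at this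
    rwa [Matrix.mul_assoc, Matrix.nonsing_inv_mul _ hPdet, Matrix.mul_one] at this
  rw [← map_inv, ← map_mul, ← map_mul, ← Set.image_pair, ← MonoidHom.map_closure]
  rw [eq_top_iff, ← Unitary.closure_transvections hF (n := 3) (by omega), Subgroup.closure_le]
  rintro Y ⟨v, c, hv, hY⟩
  rcases eq_or_ne v 0 with rfl | hv0
  · have : Y = 1 := by
      apply Subtype.ext; apply Subtype.ext
      rw [hY]
      ext i j
      simp [unitaryTransvection, Matrix.vecMulVec, Unitary.zero_pow_q hF]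
    rw [this]
    exact one_mem _
  have hc : c + c ^ q = 0 := by
    refine Unitary.trace_zero_of_preserves hF hv0 hv ?_
    intro a b
    rw [← hY]
    exact Y.2 a b
  set z := P⁻¹ *ᵥ v
  have hvz : v = P *ᵥ z := by
    rw [Matrix.mulVec_mulVec, Matrix.mul_nonsing_inv _ hPdet, Matrix.one_mulVec]
  have hz : Iso q z := by
    rw [hvz, hherm] at hv
    unfold Iso
    simpa [antiJ, dotProduct, Matrix.mulVec, Fin.sum_univ_three] using hv
  obtain ⟨X, hX, eX⟩ := xMat_mem hF hA hw hw20 hz hc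
  refine ⟨X, hX, ?_⟩
  apply Subtype.ext; apply Subtype.ext
  show ((Φ X : Matrix.SpecialLinearGroup (Fin 3) F) : Matrix (Fin 3) (Fin 3) F) = _
  rw [hΦ, eX, hY, hvz]
  have hdual : (antiJ *ᵥ fun i => z i ^ q) ᵥ* P⁻¹ = fun i => (P *ᵥ z) i ^ q := by
    have e : (fun i => (P *ᵥ z) i ^ q) = P.map (conjHom hF) *ᵥ fun i => z i ^ q := by
      funext i
      rw [← conjHom_apply hF]
      exact RingHom.map_mulVec (conjHom hF) P z i
    rw [e, ← Matrix.mulVec_transpose, Matrix.mulVec_mulVec, ← hPJ, ← Matrix.mul_assoc,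
      ← Matrix.transpose_mul, Matrix.mul_nonsing_inv _ hPdet, Matrix.transpose_one, Matrix.one_mul]
  simp only [xMat, unitaryTransvection, Matrix.mul_add, Matrix.add_mul, Matrix.mul_one,
    Matrix.mul_nonsing_inv _ hPdet, Matrix.mul_smul, Matrix.smul_mul, Matrix.mul_vecMulVec,
    Matrix.vecMulVec_mul, hdual]

end Cfsg.Agent.LinearGroup.SUThree
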