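import Cfsg.Agent.Lib.LinearGroup.CompanionUnipotent
import Mathlib.FieldTheory.Finite.Basic
import Mathlib.Tactic.FinCases

/-!
Tools for generating `SL 3` by two regular unipotents (helper9).
-/

set_option autoImplicit false

namespace Cfsg.Agent.LinearGroup

open Matrix Matrix.SpecialLinearGroup

universe v

variable {F : Type v} [Field F]

theorem compSL_two_coe : (compSL F 2 : Matrix (Fin 3) (Fin 3) F) = !![0, 0, 1; 1, 0, -3; 0, 1, 3] := by
  ext i j
  fin_cases i <;> fin_cases j <;>
    simp [compSL_coe, compMat, compCoef, show Nat.choose 3 2 = 3 from rfl, pow_succ]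

theorem compSL_two_regular :
    IsNilpotent ((compSL F 2 : Matrix (Fin 3) (Fin 3) F) - 1) ∧
      ((compSL F 2 : Matrix (Fin 3) (Fin 3) F) - 1) ^ (3 - 1) ≠ 0 :=
  ⟨⟨3, compMat_sub_pow_eq_zero 2⟩, compMat_sub_pow_ne_zero 2⟩

/-- The companion matrix and one full root group generate `SL 3`. -/
theorem eq_top_of_compSL_two {H : Subgroup (Matrix.SpecialLinearGroup (Fin 3) F)}
    (hC : compSL F 2 ∈ H) (h10 : ∀ s, s ∈ rootCoeff H (1 : Fin 3) 0) : H = ⊤ := by
  have n10 : (1 : Fin 3) ≠ 0 := by decide
  have n02 : (0 : Fin 3) ≠ 2 := by decide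
  have n12 : (1 : Fin 3) ≠ 2 := by decide
  have n21 : (2 : Fin 3) ≠ 1 := by decide
  have n20 : (2 : Fin 3) ≠ 0 := by decide
  have conjC : ∀ {X}, X ∈ H → compSL F 2 * X * (compSL F 2)⁻¹ ∈ H := fun hX =>
    mul_mem (mul_mem hC hX) (inv_mem hC)
  have h02 : ∀ s, s ∈ rootCoeff H (0 : Fin 3) 2 := by
    intro s h
    have e : compSL F 2 * transvection h s * (compSL F 2)⁻¹ = transvection n10 s := by
      refine conj_transvection_eq h n10 ?_
      rw [compSL_two_coe]
      ext i j
      fin_cases i <;> fin_cases j <;> simp [Matrix.mul_apply, Fin.sum_univ_three]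
    have h1 := h10 s n10
    rw [← e] at h1
    have := mul_mem (mul_mem (inv_mem hC) h1) hC
    simpa [mul_assoc] using this
  have h12 : ∀ s, s ∈ rootCoeff H (1 : Fin 3) 2 := fun s => by
    have := rootCoeff_mul n10 n02 n12 (h10 s) (h02 1)
    rwa [mul_one] at this
  have hX : ∀ s : F, Matrix.SpecialLinearGroup.transvection n21 s *
      Matrix.SpecialLinearGroup.transvection n20 (3 * s) ∈ H := by
    intro s
    have e : compSL F 2 * transvection n10 s * (compSL F 2)⁻¹ =
        transvection n21 s * transvection n20 (3 * s) := by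
      rw [mul_inv_eq_iff_eq_mul]
      apply Subtype.ext
      simp only [coe_mul, transvection_coe, compSL_two_coe]
      ext i j
      fin_cases i <;> fin_cases j <;> simp [Matrix.mul_apply, Fin.sum_univ_three] <;> ring
    rw [← e]
    exact conjC (h10 s n10)
  have h20 : ∀ s, s ∈ rootCoeff H (2 : Fin 3) 0 := by
    intro s h
    have e : (transvection n21 s * transvection n20 (3 * s)) * transvection n10 1 =
        transvection h s * (transvection n10 1 * (transvection n21 s * transvection n20 (3 * s))) := by
      apply Subtype.ext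
      simp only [coe_mul, transvection_coe]
      ext i j
      fin_cases i <;> fin_cases j <;> simp [Matrix.mul_apply, Fin.sum_univ_three] <;> ring
    have := mul_mem (mul_mem (hX s) (h10 1 n10)) (inv_mem (mul_mem (h10 1 n10) (hX s)))
    rwa [e, mul_inv_cancel_right] at this
  have h21 : ∀ s, s ∈ rootCoeff H (2 : Fin 3) 1 := fun s h =>
    (mul_mem_cancel_right (h20 (3 * s) n20)).mp (hX s)
  have h01 : ∀ s, s ∈ rootCoeff H (0 : Fin 3) 1 := fun s => by
    have := rootCoeff_mul n02 n21 (by decide) (h02 s) (h21 1)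
    rwa [mul_one] at this
  refine eq_top_of_rootCoeff fun i j hij => ?_
  rw [AddSubgroup.eq_top_iff']
  intro s
  fin_cases i <;> fin_cases j
  all_goals first | exact absurd rfl hij | exact h01 s | exact h02 s | exact h10 s | exact h12 s | exact h20 s | exact h21 s

/-- An additive subgroup which is stable under multiplication by an element of large order is
everything as soon as it is nonzero. -/
theorem addSubgroup_eq_top_of_mul_stable [Finite F] (R : AddSubgroup F) (x : F)
    (hbig : ∀ S : AddSubgroup F, (1 : F) ∈ S → (∀ s ∈ S, x * s ∈ S) → S = ⊤)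
    {z : F} (hz : z ≠ 0) (hzR : z ∈ R) (hst : ∀ s ∈ R, x * s ∈ R) : ∀ s, s ∈ R := by
  intro s
  have h := hbig (R.comap (AddMonoidHom.mulLeft z)) (by simpa using hzR)
    (fun t ht => by
      rw [AddSubgroup.mem_comap, AddMonoidHom.coe_mulLeft] at ht ⊢
      rw [mul_left_comm]; exact hst _ ht)
  have : z⁻¹ * s ∈ R.comap (AddMonoidHom.mulLeft z) := by rw [h]; trivial
  simpa [mul_inv_cancel_left₀ hz] using this

/-- If `x` is the cube of a generator, `q ≥ 5`, then `1` and multiplication by `x` generate `F`. -/
theorem addSubgroup_eq_top_of_cube [Fintype F] (g : Fˣ) (hg : ∀ u, u ∈ Subgroup.zpowers g)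
    (hq : 5 ≤ Fintype.card F) (S : AddSubgroup F) (h1 : (1 : F) ∈ S)
    (hst : ∀ s ∈ S, (g : F) ^ 3 * s ∈ S) : S = ⊤ := by
  classical
  -- the smallest such subgroup is closed under multiplication
  let T : AddSubgroup F := AddSubgroup.closure (Set.range fun i : ℕ => ((g : F) ^ 3) ^ i)
  have hTS : T ≤ S := by
    rw [AddSubgroup.closure_le]
    rintro _ ⟨i, rfl⟩
    induction i with
    | zero => simpa using h1
    | succ i ih =>
      show ((g : F) ^ 3) ^ (i + 1) ∈ S
      rw [pow_succ']
      exact hst _ ih
  have hpow : ∀ i : ℕ, ((g : F) ^ 3) ^ i ∈ T := fun i => AddSubgroup.subset_closure ⟨i, rfl⟩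
  have hmul : ∀ a ∈ T, ∀ b ∈ T, a * b ∈ T := by
    intro a ha b hb
    induction ha using AddSubgroup.closure_induction with
    | mem a ha' =>
      induction hb using AddSubgroup.closure_induction with
      | mem b hb' =>
        obtain ⟨i, rfl⟩ := ha'
        obtain ⟨j, rfl⟩ := hb'
        simp only [← pow_add]
        exact hpow _
      | zero => rw [mul_zero]; exact zero_mem _
      | add x y _ _ hx hy => rw [mul_add]; exact add_mem hx hy
      | neg x _ hx => rw [mul_neg]; exact neg_mem hx
    | zero => rw [zero_mul]; exact zero_mem _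
    | add x y _ _ hx hy => rw [add_mul]; exact add_mem hx hy
    | neg x _ hx => rw [neg_mul]; exact neg_mem hx
  have hone : (1 : F) ∈ T := by simpa using hpow 0
  have hinv : ∀ a ∈ T, a⁻¹ ∈ T := by
    intro a ha
    rcases eq_or_ne a 0 with rfl | h0
    · rwa [_root_.inv_zero]
    have h2 := FiniteField.pow_card_sub_one_eq_one a h0
    rw [show Fintype.card F - 1 = (Fintype.card F - 2) + 1 by omega, pow_succ] at h2
    rw [← eq_inv_of_mul_eq_one_left h2]
    generalize Fintype.card F - 2 = k
    induction k with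
    | zero => simpa using hone
    | succ k ih => rw [pow_succ]; exact hmul _ ih _ ha
  rw [eq_top_iff]
  refine le_trans ?_ hTS
  by_contra hne
  obtain ⟨x, hx⟩ : ∃ x, x ∉ T := by
    by_contra hall
    push Not at hall
    exact hne fun x _ => hall x
  -- two copies of `T` embed into `F`
  have hsq : Nat.card T * Nat.card T ≤ Fintype.card F := by
    rw [← Nat.card_prod, ← Nat.card_eq_fintype_card]
    refine Nat.card_le_card_of_injective (fun p : T × T => (p.1 : F) + (p.2 : F) * x) ?_
    rintro ⟨a, b⟩ ⟨a', b'⟩ h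
    simp only at h
    by_cases hb : (b : F) = b'
    · rw [hb, add_left_inj] at h
      exact Prod.ext (Subtype.ext h) (Subtype.ext hb)
    · exfalso
      apply hx
      have e : x = ((b : F) - b')⁻¹ * ((a' : F) - a) := by
        rw [eq_inv_mul_iff_mul_eq₀ (sub_ne_zero.mpr hb)]
        linear_combination h
      rw [e]
      exact hmul _ (hinv _ (sub_mem b.2 b'.2)) _ (sub_mem a'.2 a.2)
  -- but `T` has at least a third of the units
  have hord : orderOf g = Fintype.card F - 1 := by
    rw [orderOf_eq_card_of_forall_mem_zpowers hg, Nat.card_units, Nat.card_eq_fintype_card]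
  set d := orderOf (g ^ 3) with hd
  have hd3 : orderOf g ≤ 3 * d := by
    rw [hd, orderOf_pow]
    have hdv := Nat.gcd_dvd_left (orderOf g) 3
    have hle : Nat.gcd (orderOf g) 3 ≤ 3 := Nat.le_of_dvd (by norm_num) (Nat.gcd_dvd_right _ _)
    calc orderOf g = Nat.gcd (orderOf g) 3 * (orderOf g / Nat.gcd (orderOf g) 3) :=
          (Nat.mul_div_cancel' hdv).symm
      _ ≤ _ := Nat.mul_le_mul_right _ hle
  have hcard : d + 1 ≤ Nat.card T := by
    have h := Nat.card_le_card_of_injective
      (fun o : Option (Fin d) => Option.elim o (0 : T) (fun i => ⟨((g : F) ^ 3) ^ i.val, hpow i⟩)) ?_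
    · rwa [Nat.card_eq_fintype_card, Fintype.card_option, Fintype.card_fin] at h
    rintro (_ | i) (_ | j) h <;> simp only [Option.elim] at h
    · rfl
    · exact absurd (congrArg Subtype.val h).symm (by simp)
    · exact absurd (congrArg Subtype.val h) (by simp)
    · have h' : (g ^ 3) ^ i.val = (g ^ 3) ^ j.val :=
        Units.ext (by simpa using congrArg Subtype.val h)
      exact congrArg some (Fin.ext (pow_injOn_Iio_orderOf i.isLt j.isLt h'))
  have h3 : Fintype.card F + 2 ≤ 3 * Nat.card T := by omega
  have : Nat.card T ≤ 2 := by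
    by_contra hbig
    push Not at hbig
    nlinarith [hsq, h3]
  omega

end Cfsg.Agent.LinearGroup
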