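import Cfsg.Agent.Lib.Unitary.Generation
import Cfsg.Agent.Lib.LinearGroup.SLThreeBase

/-!
`SU 3` in a hyperbolic basis, and a criterion for generation (helper9).
-/

set_option autoImplicit false

namespace Cfsg.Agent.LinearGroup.SUThree

open Matrix
open Cfsg.Agent.Unitary (conjHom conjHom_apply herm)

universe u

variable {F : Type u} [Field F] [Fintype F] {q : ℕ}

/-- The antidiagonal Gram matrix. -/
def antiJ : Matrix (Fin 3) (Fin 3) F := !![0, 0, 1; 0, 1, 0; 1, 0, 0]

omit [Fintype F] in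
theorem antiJ_transpose : (antiJ : Matrix (Fin 3) (Fin 3) F)ᵀ = antiJ := by
  ext i j; fin_cases i <;> fin_cases j <;> simp [antiJ]

omit [Fintype F] in
theorem antiJ_sq : (antiJ : Matrix (Fin 3) (Fin 3) F) * antiJ = 1 := by
  ext i j
  fin_cases i <;> fin_cases j <;> simp [antiJ, Matrix.mul_apply, Fin.sum_univ_three]

variable (hF : Fintype.card F = q ^ 2)

/-- The unitary group of the antidiagonal form inside `SL 3`. -/
def jGroup : Subgroup (Matrix.SpecialLinearGroup (Fin 3) F) where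
  carrier := {X | (X : Matrix (Fin 3) (Fin 3) F)ᵀ * antiJ *
    (X : Matrix (Fin 3) (Fin 3) F).map (conjHom hF) = antiJ}
  one_mem' := by simp
  mul_mem' := by
    intro X Y hX hY
    simp only [Set.mem_setOf_eq, Matrix.SpecialLinearGroup.coe_mul, Matrix.transpose_mul,
      Matrix.map_mul] at hX hY ⊢
    calc _ = (Y : Matrix (Fin 3) (Fin 3) F)ᵀ * ((X : Matrix (Fin 3) (Fin 3) F)ᵀ * antiJ *
          (X : Matrix (Fin 3) (Fin 3) F).map (conjHom hF)) *
          (Y : Matrix (Fin 3) (Fin 3) F).map (conjHom hF) := by simp only [Matrix.mul_assoc]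
      _ = _ := by rw [hX, hY]
  inv_mem' := by
    intro X hX
    simp only [Set.mem_setOf_eq] at hX ⊢
    set A : Matrix (Fin 3) (Fin 3) F := (X : Matrix (Fin 3) (Fin 3) F)
    set B : Matrix (Fin 3) (Fin 3) F := ((X⁻¹ : Matrix.SpecialLinearGroup (Fin 3) F) :
      Matrix (Fin 3) (Fin 3) F)
    have hAB : A * B = 1 := by
      rw [← Matrix.SpecialLinearGroup.coe_mul, mul_inv_cancel, Matrix.SpecialLinearGroup.coe_one]
    calc Bᵀ * antiJ * B.map (conjHom hF)
        = Bᵀ * (Aᵀ * antiJ * A.map (conjHom hF)) * B.map (conjHom hF) := by rw [hX]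
      _ = (A * B)ᵀ * antiJ * (A * B).map (conjHom hF) := by
          simp only [Matrix.transpose_mul, Matrix.map_mul, Matrix.mul_assoc]
      _ = antiJ := by rw [hAB]; simp

theorem mem_jGroup {X : Matrix.SpecialLinearGroup (Fin 3) F} :
    X ∈ jGroup hF ↔ (X : Matrix (Fin 3) (Fin 3) F)ᵀ * antiJ *
      (X : Matrix (Fin 3) (Fin 3) F).map (conjHom hF) = antiJ := Iff.rfl

/-- The condition on a central coordinate. -/
def Cond (q : ℕ) (a b : F) : Prop := b + b ^ q + a * a ^ q = 0

/-- The upper unitriangular matrices. -/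
def jMat (q : ℕ) (a b : F) : Matrix.SpecialLinearGroup (Fin 3) F :=
  ⟨!![1, a, b; 0, 1, -a ^ q; 0, 0, 1], by simp [Matrix.det_fin_three]⟩

omit [Fintype F] in
theorem jMat_coe (a b : F) :
    (jMat q a b : Matrix (Fin 3) (Fin 3) F) = !![1, a, b; 0, 1, -a ^ q; 0, 0, 1] := rfl

theorem jMat_mem {a b : F} (h : Cond q a b) : jMat q a b ∈ jGroup hF := by
  rw [mem_jGroup, jMat_coe]
  have h2 := Unitary.pow_q_pow_q hF a
  simp only [← conjHom_apply hF, Cond] at h h2 ⊢
  ext i j
  fin_cases i <;> fin_cases j <;>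
    simp [antiJ, Matrix.mul_apply, Fin.sum_univ_three, h2] <;> linear_combination h

/-- The upper unitriangular elements of the unitary group. -/
def jU {a b : F} (h : Cond q a b) : jGroup hF := ⟨jMat q a b, jMat_mem hF h⟩

include hF in
theorem cond_add {a b a' b' : F} (h : Cond q a b) (h' : Cond q a' b') :
    Cond q (a + a') (b + b' - a * a' ^ q) := by
  unfold Cond at *
  simp only [← conjHom_apply hF, map_add, map_sub, map_mul] at *
  have h2 := Unitary.pow_q_pow_q hF a'
  simp only [← conjHom_apply hF] at h2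
  rw [h2]
  linear_combination h + h'

include hF in
theorem cond_neg {a b : F} (h : Cond q a b) : Cond q (-a) (b ^ q) := by
  unfold Cond at *
  rw [Unitary.pow_q_pow_q hF, Unitary.neg_pow_q hF]
  linear_combination h

theorem jU_mul {a b a' b' : F} (h : Cond q a b) (h' : Cond q a' b') :
    jU hF h * jU hF h' = jU hF (cond_add hF h h') := by
  apply Subtype.ext
  apply Subtype.ext
  simp only [jU, MulMemClass.mk_mul_mk, Matrix.SpecialLinearGroup.coe_mul, jMat_coe]
  ext i j
  fin_cases i <;> fin_cases j <;>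
    simp [Matrix.mul_apply, Fin.sum_univ_three, Unitary.add_pow_q hF] <;> ring

theorem jU_inv {a b : F} (h : Cond q a b) : (jU hF h)⁻¹ = jU hF (cond_neg hF h) := by
  rw [inv_eq_iff_mul_eq_one, jU_mul]
  apply Subtype.ext
  apply Subtype.ext
  have h' : b + b ^ q + a * a ^ q = 0 := h
  simp only [jU, jMat_coe]
  ext i j
  fin_cases i <;> fin_cases j <;> simp [Unitary.neg_pow_q hF, Unitary.zero_pow_q hF]
  linear_combination h'

theorem jU_congr {a b a' b' : F} (h : Cond q a b) (h' : Cond q a' b') (ha : a = a') (hb : b = b') :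
    jU hF h = jU hF h' := by subst ha; subst hb; rfl

/-- The `a`-coordinates of the upper unitriangular elements of a subgroup. -/
def aCoeff (H : Subgroup (jGroup hF)) : AddSubgroup F where
  carrier := {a | ∃ (b : F) (h : Cond q a b), jU hF h ∈ H}
  zero_mem' := by
    have h0 : Cond q (0 : F) 0 := by simp [Cond, Unitary.zero_pow_q hF]
    refine ⟨0, h0, ?_⟩
    have : jU hF h0 = 1 := by
      apply Subtype.ext; apply Subtype.ext
      simp only [jU, jMat_coe, OneMemClass.coe_one, Matrix.SpecialLinearGroup.coe_one]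
      rw [Matrix.one_fin_three]
      simp [Unitary.zero_pow_q hF]
    rw [this]; exact one_mem H
  add_mem' := by
    rintro a a' ⟨b, h, hm⟩ ⟨b', h', hm'⟩
    exact ⟨_, cond_add hF h h', jU_mul hF h h' ▸ mul_mem hm hm'⟩
  neg_mem' := by
    rintro a ⟨b, h, hm⟩
    exact ⟨_, cond_neg hF h, jU_inv hF h ▸ inv_mem hm⟩

/-- If the `a`-coordinates fill `F`, the whole of `U` lies in `H`. -/
theorem jU_mem_of_aCoeff {H : Subgroup (jGroup hF)} (hA : ∀ a, a ∈ aCoeff hF H) {a b : F}
    (h : Cond q a b) : jU hF h ∈ H := by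
  have central : ∀ (c : F) (hc : Cond q 0 c), jU hF hc ∈ H := by
    intro c hc
    have hc' : c + c ^ q = 0 := by simpa [Cond, Unitary.zero_pow_q hF] using hc
    obtain ⟨δ, hδ⟩ := Unitary.exists_sub_pow_eq hF hc'
    obtain ⟨b1, h1, m1⟩ := hA (-δ)
    obtain ⟨b2, h2, m2⟩ := hA 1
    have m3 := mul_mem (mul_mem m1 m2) (inv_mem (mul_mem m2 m1))
    rw [jU_mul, jU_mul, jU_inv, jU_mul] at m3
    refine (jU_congr hF _ hc ?_ ?_) ▸ m3
    · ring
    · simp only [← conjHom_apply hF, map_add, map_sub, map_mul, map_neg, map_one] at *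
      have h2' := Unitary.pow_q_pow_q hF δ
      simp only [← conjHom_apply hF] at h2'
      unfold Cond at h1 h2
      simp only [← conjHom_apply hF, map_neg, map_one] at h1 h2
      rw [h2']
      linear_combination h1 + h2 + hδ
  obtain ⟨b', h', hm'⟩ := hA a
  have hz : Cond q (0 : F) (b - b') := by
    have q1 : b + b ^ q + a * a ^ q = 0 := h
    have q2 : b' + b' ^ q + a * a ^ q = 0 := h'
    show (b - b') + (b - b') ^ q + 0 * 0 ^ q = 0
    rw [Unitary.sub_pow_q hF, zero_mul]
    linear_combination q1 - q2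
  refine (jU_congr hF _ h ?_ ?_) ▸ (show jU hF (cond_add hF h' hz) ∈ H by
    rw [← jU_mul hF h' hz]; exact mul_mem hm' (central _ hz))
  · ring
  · simp [Unitary.zero_pow_q hF]

/-- The transvection matrix of the antidiagonal form. -/
def xMat (q : ℕ) (x : Fin 3 → F) (c : F) : Matrix (Fin 3) (Fin 3) F :=
  1 + c • Matrix.vecMulVec x (antiJ *ᵥ fun i => x i ^ q)

/-- Isotropy for the antidiagonal form. -/
def Iso (q : ℕ) (x : Fin 3 → F) : Prop := x 0 * x 2 ^ q + x 1 * x 1 ^ q + x 2 * x 0 ^ q = 0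

theorem xMat_conj {g : Matrix.SpecialLinearGroup (Fin 3) F} (hg : g ∈ jGroup hF) (x : Fin 3 → F)
    (c : F) : (g : Matrix (Fin 3) (Fin 3) F) * xMat q x c =
      xMat q ((g : Matrix (Fin 3) (Fin 3) F) *ᵥ x) c * (g : Matrix (Fin 3) (Fin 3) F) := by
  set G : Matrix (Fin 3) (Fin 3) F := (g : Matrix (Fin 3) (Fin 3) F)
  have hg' : (G.map (conjHom hF))ᵀ * antiJ * G = antiJ := by
    have := congrArg Matrix.transpose ((mem_jGroup hF).mp hg)
    rwa [Matrix.transpose_mul, Matrix.transpose_mul, Matrix.transpose_transpose, antiJ_transpose,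
      ← Matrix.mul_assoc] at this
  have key : (antiJ *ᵥ fun i => (G *ᵥ x) i ^ q) ᵥ* G = antiJ *ᵥ fun i => x i ^ q := by
    have e : (fun i => (G *ᵥ x) i ^ q) = G.map (conjHom hF) *ᵥ fun i => x i ^ q := by
      funext i
      rw [← conjHom_apply hF]
      exact RingHom.map_mulVec (conjHom hF) G x i
    rw [e, ← Matrix.mulVec_transpose, Matrix.mulVec_mulVec, Matrix.mulVec_mulVec]
    congr 1
  simp only [xMat, Matrix.mul_add, Matrix.add_mul, Matrix.mul_one, Matrix.one_mul,
    Matrix.mul_smul, Matrix.smul_mul, Matrix.mul_vecMulVec, Matrix.vecMulVec_mul, key]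

include hF in
theorem cond_of_iso {x : Fin 3 → F} (hx : Iso q x) (hx2 : x 2 = 1) :
    Cond q (-(x 1) ^ q) (x 0) := by
  unfold Iso at hx
  unfold Cond
  rw [Unitary.neg_pow_q hF, Unitary.pow_q_pow_q hF]
  rw [hx2, one_pow] at hx
  linear_combination hx

include hF in
theorem jU_mulVec {x : Fin 3 → F} (hx : Iso q x) (hx2 : x 2 = 1) :
    (jMat q (-(x 1) ^ q) (x 0) : Matrix (Fin 3) (Fin 3) F) *ᵥ Pi.single 2 1 = x := by
  rw [Matrix.mulVec_single_one]
  funext i
  fin_cases i
  · simp [jMat_coe]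
  · simp [jMat_coe, Unitary.neg_pow_q hF, Unitary.pow_q_pow_q hF]
  · simp [jMat_coe, hx2]

omit [Fintype F] in
theorem xMat_smul (q : ℕ) (x : Fin 3 → F) (l c : F) :
    xMat q (l • x) c = xMat q x (c * l * l ^ q) := by
  simp only [xMat]
  congr 1
  have : (fun i => (l • x) i ^ q) = l ^ q • fun i => x i ^ q := by
    funext i; simp [mul_pow]
  rw [this, Matrix.mulVec_smul, Matrix.vecMulVec_smul, Matrix.smul_vecMulVec, smul_smul, smul_smul]
  congr 1; ring

include hF in
/-- All isotropic transvections lie in a subgroup containing `U` and moving the point `e₀`. -/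
theorem xMat_mem {H : Subgroup (jGroup hF)} (hA : ∀ a, a ∈ aCoeff hF H) {g : jGroup hF}
    (hg : g ∈ H) (hg2 : ((g : Matrix.SpecialLinearGroup (Fin 3) F) : Matrix (Fin 3) (Fin 3) F) 2 0 ≠ 0)
    {x : Fin 3 → F} (hx : Iso q x) {c : F} (hc : c + c ^ q = 0) :
    ∃ X : jGroup hF, X ∈ H ∧
      ((X : Matrix.SpecialLinearGroup (Fin 3) F) : Matrix (Fin 3) (Fin 3) F) = xMat q x c := by
  -- transport
  have move : ∀ (h : jGroup hF) (y : Fin 3 → F) (d : F), h ∈ H →
      (∃ X : jGroup hF, X ∈ H ∧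
        ((X : Matrix.SpecialLinearGroup (Fin 3) F) : Matrix (Fin 3) (Fin 3) F) = xMat q y d) →
      ∃ X : jGroup hF, X ∈ H ∧ ((X : Matrix.SpecialLinearGroup (Fin 3) F) : Matrix (Fin 3) (Fin 3) F)
        = xMat q (((h : Matrix.SpecialLinearGroup (Fin 3) F) : Matrix (Fin 3) (Fin 3) F) *ᵥ y) d := by
    rintro h y d hh ⟨X, hX, eX⟩
    refine ⟨h * X * h⁻¹, mul_mem (mul_mem hh hX) (inv_mem hh), ?_⟩
    simp only [Subgroup.coe_mul, Subgroup.coe_inv, Matrix.SpecialLinearGroup.coe_mul]
    rw [eX, xMat_conj hF h.2, Matrix.mul_assoc, ← Matrix.SpecialLinearGroup.coe_mul, mul_inv_cancel,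
      Matrix.SpecialLinearGroup.coe_one, Matrix.mul_one]
  -- scaling
  have fixq : ∀ l : F, (l * l ^ q) ^ q = l * l ^ q := fun l => by
    rw [mul_pow, Unitary.pow_q_pow_q hF, mul_comm]
  have trsc : ∀ {l d : F}, d + d ^ q = 0 → d * l * l ^ q + (d * l * l ^ q) ^ q = 0 := by
    intro l d hd
    rw [mul_assoc, mul_pow, fixq, ← add_mul, hd, zero_mul]
  have e0 : ∀ d : F, d + d ^ q = 0 → ∃ X : jGroup hF, X ∈ H ∧
      ((X : Matrix.SpecialLinearGroup (Fin 3) F) : Matrix (Fin 3) (Fin 3) F) =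
        xMat q (Pi.single 0 1) d := by
    intro d hd
    have h0 : Cond q (0 : F) d := by simpa [Cond, Unitary.zero_pow_q hF] using hd
    refine ⟨jU hF h0, jU_mem_of_aCoeff hF hA h0, ?_⟩
    simp only [jU, jMat_coe, xMat, Unitary.zero_pow_q hF]
    ext i j
    fin_cases i <;> fin_cases j <;>
      simp [antiJ, Matrix.vecMulVec, Matrix.mulVec, dotProduct, Fin.sum_univ_three,
        Unitary.zero_pow_q hF, Matrix.one_apply]
  -- the opposite point
  have e2 : ∀ d : F, d + d ^ q = 0 → ∃ X : jGroup hF, X ∈ H ∧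
      ((X : Matrix.SpecialLinearGroup (Fin 3) F) : Matrix (Fin 3) (Fin 3) F) =
        xMat q (Pi.single 2 1) d := by
    intro d hd
    set G : Matrix (Fin 3) (Fin 3) F :=
      ((g : Matrix.SpecialLinearGroup (Fin 3) F) : Matrix (Fin 3) (Fin 3) F)
    set z : Fin 3 → F := (G 2 0)⁻¹ • (G *ᵥ Pi.single 0 1) with hz
    have hz2 : z 2 = 1 := by
      simp [hz, inv_mul_cancel₀ hg2]
    have hzI : Iso q z := by
      have h00 := congrFun (congrFun ((mem_jGroup hF).mp g.2) 0) 0
      simp [antiJ, Matrix.mul_apply, Fin.sum_univ_three] at h00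
      simp only [Iso, hz, Matrix.mulVec_single_one, Pi.smul_apply, Matrix.col_apply, smul_eq_mul,
        mul_pow]
      simp only [← conjHom_apply hF] at h00 ⊢
      linear_combination ((G 2 0)⁻¹ * conjHom hF (G 2 0)⁻¹) * h00
    have hgz : ∀ d, d + d ^ q = 0 → ∃ X : jGroup hF, X ∈ H ∧
        ((X : Matrix.SpecialLinearGroup (Fin 3) F) : Matrix (Fin 3) (Fin 3) F) = xMat q z d := by
      intro d hd
      rw [hz, xMat_smul]
      exact move g _ _ hg (e0 _ (trsc hd))
    have hU : jU hF (cond_of_iso hF hzI hz2) ∈ H := jU_mem_of_aCoeff hF hA _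
    have := move _ z d (inv_mem hU) (hgz d hd)
    have e : ((((jU hF (cond_of_iso hF hzI hz2))⁻¹ : jGroup hF) :
        Matrix.SpecialLinearGroup (Fin 3) F) : Matrix (Fin 3) (Fin 3) F) *ᵥ z = Pi.single 2 1 := by
      have key := congrArg ((((jU hF (cond_of_iso hF hzI hz2))⁻¹ : jGroup hF) :
        Matrix.SpecialLinearGroup (Fin 3) F) : Matrix (Fin 3) (Fin 3) F).mulVec
        (jU_mulVec hF hzI hz2)
      simp only [Subgroup.coe_inv, jU, Matrix.mulVec_mulVec, ← Matrix.SpecialLinearGroup.coe_mul,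
        inv_mul_cancel, Matrix.SpecialLinearGroup.coe_one, Matrix.one_mulVec] at key ⊢
      exact key.symm
    rwa [e] at this
  -- general point
  rcases eq_or_ne (x 2) 0 with hx2 | hx2
  · have hx1 : x 1 = 0 := by
      unfold Iso at hx
      rw [hx2, Unitary.zero_pow_q hF, zero_mul, mul_zero, zero_add, add_zero] at hx
      rcases mul_eq_zero.mp hx with h | h
      · exact h
      · exact (Unitary.pow_q_eq_zero_iff hF).mp h
    have e : x = x 0 • Pi.single 0 1 := by
      funext i; fin_cases i <;> simp [hx1, hx2]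
    rw [e, xMat_smul]
    exact e0 _ (trsc hc)
  · set z : Fin 3 → F := (x 2)⁻¹ • x with hz
    have hz2 : z 2 = 1 := by simp [hz, inv_mul_cancel₀ hx2]
    have hzI : Iso q z := by
      unfold Iso at hx ⊢
      simp only [hz, Pi.smul_apply, smul_eq_mul, mul_pow]
      linear_combination ((x 2)⁻¹ * (x 2)⁻¹ ^ q) * hx
    have e : x = x 2 • z := by
      rw [hz, smul_smul, mul_inv_cancel₀ hx2, one_smul]
    rw [e, xMat_smul]
    have := move _ (Pi.single 2 1) (c * x 2 * x 2 ^ q)
      (jU_mem_of_aCoeff hF hA (cond_of_iso hF hzI hz2)) (e2 _ (trsc hc))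
    simp only [jU] at this
    rwa [jU_mulVec hF hzI hz2] at this

end Cfsg.Agent.LinearGroup.SUThree
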