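import Cfsg.Agent.Lib.LinearGroup.RootSet
import Mathlib.LinearAlgebra.Matrix.Charpoly.Coeff
import Mathlib.Data.Nat.Choose.Sum

/-!
The companion matrix of `(X - 1) ^ (m + 1)`, a regular unipotent element (helper9).
-/

set_option autoImplicit false

namespace Cfsg.Agent.LinearGroup

open Matrix Matrix.SpecialLinearGroup

universe u v

/-- `1 + N` has determinant one for nilpotent `N` over a field. -/
theorem det_one_add_of_isNilpotent {ι : Type u} [DecidableEq ι] [Fintype ι] {F : Type v} [Field F]
    {N : Matrix ι ι F} (hN : IsNilpotent N) : (1 + N).det = 1 := by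
  have h := sub_eq_zero.mp (Matrix.isNilpotent_charpoly_sub_pow_of_isNilpotent hN).eq_zero
  have h2 := congrArg (Polynomial.eval (-1 : F)) h
  rw [Matrix.eval_charpoly, Polynomial.eval_pow, Polynomial.eval_X,
    show Matrix.scalar ι (-1 : F) - N = -(1 + N) by rw [map_neg, map_one]; abel, Matrix.det_neg] at h2
  exact mul_left_cancel₀ (pow_ne_zero _ (by norm_num)) (h2.trans (mul_one _).symm)

variable {F : Type v} [Field F] (m : ℕ)

/-- The index `k` (capped at `m`). -/
def cIdx (k : ℕ) : Fin (m + 1) := ⟨min k m, by omega⟩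

theorem cIdx_val {k : ℕ} (hk : k ≤ m) : (cIdx m k).val = k := by
  simp only [cIdx]; omega

theorem cIdx_ne {k l : ℕ} (hk : k ≤ m) (hl : l ≤ m) (h : k ≠ l) : cIdx m k ≠ cIdx m l := fun e =>
  h (by rw [← cIdx_val m hk, ← cIdx_val m hl, e])

theorem cIdx_self (i : Fin (m + 1)) : cIdx m i.val = i :=
  Fin.ext (cIdx_val m (Nat.le_of_lt_succ i.isLt))

variable (F) in
/-- The last column of the companion matrix. -/
def compCoef (i : ℕ) : F := -((-1) ^ (m + 1 - i) * ((m + 1).choose i : F))

variable (F) in
/-- The companion matrix of `(X - 1) ^ (m + 1)`. -/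
def compMat : Matrix (Fin (m + 1)) (Fin (m + 1)) F :=
  Matrix.of fun i j => if j.val < m then (if i.val = j.val + 1 then 1 else 0) else compCoef F m i.val

theorem compMat_col_lt {k : ℕ} (hk : k < m) (i : Fin (m + 1)) :
    compMat F m i (cIdx m k) = if i = cIdx m (k + 1) then 1 else 0 := by
  simp only [compMat, Matrix.of_apply, cIdx_val m hk.le, hk, if_true]
  congr 1
  simp [Fin.ext_iff, cIdx_val m (show k + 1 ≤ m by omega)]

theorem compMat_col_last (i : Fin (m + 1)) : compMat F m i (cIdx m m) = compCoef F m i.val := by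
  simp [compMat, cIdx_val m le_rfl]

theorem compCoef_zero : compCoef F m 0 = -(-1) ^ (m + 1) := by simp [compCoef]

theorem compCoef_zero_sq : compCoef F m 0 * compCoef F m 0 = 1 := by
  rw [compCoef_zero, neg_mul_neg, ← pow_add, Even.neg_one_pow ⟨_, rfl⟩]

theorem compMat_mulVec {k : ℕ} (hk : k < m) :
    compMat F m *ᵥ Pi.single (cIdx m k) 1 = Pi.single (cIdx m (k + 1)) 1 := by
  ext i
  simp [compMat_col_lt m hk, Pi.single_apply]

theorem compMat_pow_mulVec {k : ℕ} (hk : k ≤ m) :
    compMat F m ^ k *ᵥ Pi.single (cIdx m 0) 1 = Pi.single (cIdx m k) 1 := by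
  induction k with
  | zero => rw [pow_zero, Matrix.one_mulVec]
  | succ k ih => rw [pow_succ', ← Matrix.mulVec_mulVec, ih (by omega), compMat_mulVec m (by omega)]

theorem compMat_sub_pow_mulVec (e : ℕ) :
    (compMat F m - 1) ^ e *ᵥ Pi.single (cIdx m 0) 1 =
      ∑ k ∈ Finset.range (e + 1),
        ((-1 : F) ^ (e - k) * (e.choose k : F)) • (compMat F m ^ k *ᵥ Pi.single (cIdx m 0) 1) := by
  rw [sub_eq_add_neg, (Commute.neg_right (Commute.one_right _)).add_pow, Matrix.sum_mulVec]
  refine Finset.sum_congr rfl fun k _ => ?_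
  rw [← Matrix.smul_mulVec]
  congr 1
  rw [show (-1 : Matrix (Fin (m + 1)) (Fin (m + 1)) F) = (-1 : F) • 1 by rw [neg_one_smul],
    smul_pow, one_pow, mul_smul_comm, mul_one, smul_mul_assoc, ← Nat.cast_comm, ← nsmul_eq_mul,
    ← Nat.cast_smul_eq_nsmul F, smul_smul]

theorem compMat_sub_pow_ne_zero : (compMat F m - 1) ^ m ≠ 0 := by
  intro h
  have h1 := congrFun (compMat_sub_pow_mulVec (F := F) m m) (cIdx m m)
  rw [h, Matrix.zero_mulVec, Finset.sum_range_succ] at h1
  rw [Pi.add_apply, Finset.sum_apply, Finset.sum_eq_zero, compMat_pow_mulVec m le_rfl] at h1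
  · simp at h1
  · intro k hk
    rw [Finset.mem_range] at hk
    rw [compMat_pow_mulVec m hk.le]
    simp [cIdx_ne m le_rfl hk.le (by omega)]

theorem compMat_sub_pow_eq_zero : (compMat F m - 1) ^ (m + 1) = 0 := by
  have h0 : (compMat F m - 1) ^ (m + 1) *ᵥ Pi.single (cIdx m 0) 1 = 0 := by
    rw [compMat_sub_pow_mulVec, Finset.sum_range_succ, pow_succ' (compMat F m) m,
      ← Matrix.mulVec_mulVec, compMat_pow_mulVec m le_rfl]
    ext i
    have hi := Nat.le_of_lt_succ i.isLt
    rw [Pi.add_apply, Finset.sum_apply, Finset.sum_eq_single i.val]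
    · rw [compMat_pow_mulVec m hi]
      simp only [Pi.smul_apply, Matrix.mulVec_single_one, Matrix.col_apply, compMat_col_last,
        cIdx_self, Pi.single_eq_same, Pi.zero_apply, smul_eq_mul, compCoef]
      simp
    · intro k hk hki
      rw [Finset.mem_range] at hk
      rw [compMat_pow_mulVec m (by omega), Pi.smul_apply, Pi.single_eq_of_ne]
      · simp
      · intro e; apply hki; rw [e, cIdx_val m (by omega)]
    · intro h; exact absurd (Finset.mem_range.mpr i.isLt) h
  refine Matrix.ext_of_mulVec_single fun i => ?_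
  rw [Matrix.zero_mulVec]
  have hi := Nat.le_of_lt_succ i.isLt
  rw [← cIdx_self m i, ← compMat_pow_mulVec m hi, Matrix.mulVec_mulVec]
  rw [(((Commute.refl (compMat F m)).sub_left (Commute.one_left _)).pow_pow (m + 1) i.val).eq,
    ← Matrix.mulVec_mulVec, h0, Matrix.mulVec_zero]

theorem compMat_det : (compMat F m).det = 1 := by
  have := det_one_add_of_isNilpotent (ι := Fin (m + 1)) (N := compMat F m - 1) ⟨m + 1, compMat_sub_pow_eq_zero m⟩
  rwa [add_sub_cancel] at this

variable (F) in
/-- The companion matrix as an element of `SL`. -/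
def compSL : Matrix.SpecialLinearGroup (Fin (m + 1)) F := ⟨compMat F m, compMat_det m⟩

theorem compSL_coe : (compSL F m : Matrix (Fin (m + 1)) (Fin (m + 1)) F) = compMat F m := rfl

theorem compMat_mul_single {k : ℕ} (hk : k < m) (j : Fin (m + 1)) (s : F) :
    compMat F m * Matrix.single (cIdx m k) j s = Matrix.single (cIdx m (k + 1)) j s := by
  ext a b
  by_cases hb : j = b
  · subst hb
    rw [Matrix.mul_single_apply_same, compMat_col_lt m hk]
    by_cases ha : a = cIdx m (k + 1)
    · subst ha; simp
    · simp [ha, Ne.symm ha]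
  · rw [Matrix.mul_single_apply_of_ne _ _ _ _ _ (Ne.symm hb)]
    simp [hb]

theorem single_mul_compMat_zero (i : Fin (m + 1)) (t : F) :
    Matrix.single i (cIdx m 0) t * compMat F m =
      Matrix.single i (cIdx m m) (t * compCoef F m 0) := by
  ext a b
  by_cases ha : i = a
  · subst ha
    rw [Matrix.single_mul_apply_same]
    by_cases hb : b = cIdx m m
    · subst hb; simp [compMat_col_last, cIdx_val m (Nat.zero_le m)]
    · have : b.val < m := by
        have := b.isLt
        rcases Nat.lt_or_ge b.val m with h | h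
        · exact h
        · exact absurd (Fin.ext (by rw [cIdx_val m le_rfl]; omega)) hb
      simp [compMat, cIdx_val m (Nat.zero_le m), this, Ne.symm hb]
  · rw [Matrix.single_mul_apply_of_ne _ _ _ _ _ (Ne.symm ha)]
    simp [ha]

theorem single_mul_compMat_succ (i : Fin (m + 1)) {l : ℕ} (hl : l + 1 ≤ m) (t : F) :
    Matrix.single i (cIdx m (l + 1)) t * compMat F m =
      Matrix.single i (cIdx m l) t + Matrix.single i (cIdx m m) (t * compCoef F m (l + 1)) := by
  ext a b
  rw [Matrix.add_apply]
  by_cases ha : i = a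
  · subst ha
    rw [Matrix.single_mul_apply_same]
    by_cases hb : b = cIdx m m
    · subst hb
      simp [compMat_col_last, cIdx_val m hl, cIdx_ne m (by omega : l ≤ m) le_rfl (by omega)]
    · have : b.val < m := by
        have := b.isLt
        rcases Nat.lt_or_ge b.val m with h | h
        · exact h
        · exact absurd (Fin.ext (by rw [cIdx_val m le_rfl]; omega)) hb
      simp only [compMat, Matrix.of_apply, this, if_true, cIdx_val m hl, Nat.add_right_cancel_iff]
      by_cases hbl : b = cIdx m l
      · subst hbl; simp [cIdx_val m (by omega : l ≤ m), Ne.symm hb]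
      · have : ¬ l = b.val := fun e => hbl (by rw [e, cIdx_self])
        simp [this, Ne.symm hb, Ne.symm hbl]
  · rw [Matrix.single_mul_apply_of_ne _ _ _ _ _ (Ne.symm ha)]
    simp [ha]

end Cfsg.Agent.LinearGroup
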