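import Cfsg.Agent.Lib.LinearGroup.RootSet
import Mathlib.FieldTheory.Finite.Basic

/-!
Generation by a transvection group and a signed `n+1`-cycle (helper9).
-/

set_option autoImplicit false

namespace Cfsg.Agent.LinearGroup

open Matrix Matrix.SpecialLinearGroup
open scoped commutatorElement Fin.NatCast

universe v
variable {n : ℕ} {K : Type v} [Field K]

/-- The signed shift matrix. -/
theorem shift_matrix_eq (hn : 1 ≤ n) :
    (Matrix.of (fun i j : Fin (n + 1) =>
        if j.val = i.val + 1 then (1 : K) else if i.val = n ∧ j.val = 0 then (-1) ^ n else 0)) =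
      Matrix.of (fun i j : Fin (n + 1) =>
        if j = i + 1 then (if j = 0 then (-1 : K) ^ n else 1) else 0) := by
  ext i j
  simp only [Matrix.of_apply]
  have hi := i.isLt
  have hj := j.isLt
  have hval : (i + 1).val = if i.val = n then 0 else i.val + 1 := by
    rw [Fin.val_add_one]
    simp [Fin.ext_iff, Fin.val_last]
  by_cases h1 : j = i + 1
  · subst h1
    rw [if_pos rfl]
    by_cases h : i.val = n
    · rw [if_pos h] at hval
      have h0 : (i + 1 : Fin (n + 1)) = 0 := Fin.ext (by simpa using hval)
      rw [if_neg (by omega), if_pos ⟨h, hval⟩, if_pos h0]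
    · rw [if_neg h] at hval
      rw [if_pos hval, if_neg (fun h0 => by rw [h0] at hval; simp at hval)]
  · rw [if_neg h1]
    have h1' : j.val ≠ (i + 1).val := fun e => h1 (Fin.ext e)
    by_cases h : i.val = n
    · rw [if_pos h] at hval
      rw [if_neg (by omega), if_neg (by omega)]
    · rw [if_neg h] at hval
      rw [if_neg (by omega), if_neg (by omega)]

theorem shift_mul_single (ε : Fin (n + 1) → K) (i j : Fin (n + 1)) (s : K) :
    Matrix.of (fun a b : Fin (n + 1) => if b = a + 1 then ε b else 0) * Matrix.single i j s =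
      Matrix.single (i - 1) j (ε i * s) := by
  ext a b
  simp only [Matrix.mul_apply, Matrix.single_apply, Matrix.of_apply]
  by_cases hb : j = b
  · subst hb
    rw [Finset.sum_eq_single i]
    · by_cases ha : i - 1 = a
      · subst ha; simp
      · rw [if_neg (fun h => ha (by rw [h, add_sub_cancel_right]))]; simp [ha]
    · intro c _ hc; simp [Ne.symm hc]
    · simp
  · simp [hb]

theorem single_mul_shift (ε : Fin (n + 1) → K) (i j : Fin (n + 1)) (s : K) :
    Matrix.single i j s * Matrix.of (fun a b : Fin (n + 1) => if b = a + 1 then ε b else 0) =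
      Matrix.single i (j + 1) (s * ε (j + 1)) := by
  ext a b
  simp only [Matrix.mul_apply, Matrix.single_apply, Matrix.of_apply]
  by_cases ha : i = a
  · subst ha
    rw [Finset.sum_eq_single j]
    · by_cases hb : j + 1 = b
      · subst hb; simp
      · simp [hb, Ne.symm hb]
    · intro c _ hc; simp [Ne.symm hc]
    · simp
  · simp [ha]

theorem shift_mul_diagonal (ε f : Fin (n + 1) → K) :
    Matrix.of (fun a b : Fin (n + 1) => if b = a + 1 then ε b else 0) * Matrix.diagonal f =
      Matrix.diagonal (fun a => f (a + 1)) *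
        Matrix.of (fun a b : Fin (n + 1) => if b = a + 1 then ε b else 0) := by
  ext a b
  rw [Matrix.mul_diagonal, Matrix.diagonal_mul, Matrix.of_apply]
  split_ifs with h
  · subst h; ring
  · ring

/-- The full root group `R 0 1` and the signed shift generate `SL`. -/
theorem eq_top_of_shift (hn : 1 ≤ n) {H : Subgroup (Matrix.SpecialLinearGroup (Fin (n + 1)) K)}
    {w : Matrix.SpecialLinearGroup (Fin (n + 1)) K} (hwH : w ∈ H)
    (hw : (w : Matrix (Fin (n + 1)) (Fin (n + 1)) K) =
      Matrix.of (fun i j => if j.val = i.val + 1 then 1 else if i.val = n ∧ j.val = 0 then (-1) ^ n else 0))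
    (h01 : ∀ s, s ∈ rootCoeff H 0 1) : H = ⊤ := by
  rw [shift_matrix_eq hn] at hw
  have h1 : (1 : Fin (n + 1)) ≠ 0 := by
    intro h
    have := congrArg Fin.val h
    rw [Fin.val_one', Fin.val_zero, Nat.mod_eq_of_lt (by omega)] at this
    exact one_ne_zero this
  have hne : ∀ i : Fin (n + 1), i ≠ i + 1 := fun i e =>
    h1 (add_left_cancel (a := i) (by rw [add_zero]; exact e.symm))
  have key : ∀ d : ℕ, ∀ s, s ∈ rootCoeff H (-(d : Fin (n + 1))) (-(d : Fin (n + 1)) + 1) := by
    intro d
    induction d with
    | zero => simpa using h01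
    | succ d ih =>
      intro s
      set i : Fin (n + 1) := -(d : Fin (n + 1)) with hidef
      have e : -((d + 1 : ℕ) : Fin (n + 1)) = i - 1 := by
        rw [hidef]; push_cast; abel
      rw [e, sub_add_cancel]
      set εi : K := if i = 0 then (-1 : K) ^ n else 1 with hεi
      have hεi0 : εi ≠ 0 := by
        rw [hεi]; split_ifs <;> simp
      set εj : K := if i + 1 = 0 then (-1 : K) ^ n else 1 with hεj
      refine rootCoeff_conj (H := H) hwH (hne i) (s := εi⁻¹ * (s * εj)) ?_ (ih _)
      rw [hw, shift_mul_single (fun b => if b = 0 then (-1 : K) ^ n else 1),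
        single_mul_shift (fun b => if b = 0 then (-1 : K) ^ n else 1), ← hεi, ← hεj,
        mul_inv_cancel_left₀ hεi0]
  refine rootCoeff_top_of_cycle fun i s => ?_
  have := key (-i).val s
  rwa [Fin.cast_val_eq_self, neg_neg] at this

/-- A finite field is additively generated by its squares. -/
theorem closure_squares_eq_top [Fintype K] : AddSubgroup.closure {s : K | IsSquare s} = ⊤ := by
  rw [AddSubgroup.eq_top_iff']
  intro s
  by_cases h2 : (2 : K) = 0
  · have : ringChar K = 2 := by
      have hd : ringChar K ∣ 2 := by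
        rw [← ringChar.spec]; simpa using h2
      rcases (Nat.dvd_prime Nat.prime_two).mp hd with h | h
      · exact absurd h (CharP.ringChar_ne_one (R := K))
      · exact h
    exact AddSubgroup.subset_closure (FiniteField.isSquare_of_char_two this s)
  · have e : s = ((s + 1) / 2) * ((s + 1) / 2) - ((s - 1) / 2) * ((s - 1) / 2) := by
      field_simp; ring
    rw [e]
    exact sub_mem (AddSubgroup.subset_closure ⟨_, rfl⟩) (AddSubgroup.subset_closure ⟨_, rfl⟩)

end Cfsg.Agent.LinearGroup
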