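import Cfsg.Agent.Lib.LinearGroup.CompanionUnipotent
import Mathlib.FieldTheory.Finite.Basic
import Mathlib.Algebra.Polynomial.Expand
import Mathlib.Data.Nat.Factorization.Basic
import Mathlib.Algebra.CharP.Reduced
import Mathlib.RingTheory.IntegralDomain
import Mathlib.Tactic.Module

/-!
`SL (m + 1)` of a finite field, `3 ≤ m`, is generated by two conjugate regular unipotents (helper9).
-/

set_option autoImplicit false

namespace Cfsg.Agent.LinearGroup

open Matrix Matrix.SpecialLinearGroup
open scoped Fin.NatCast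

universe u v

section relations

variable {ι : Type u} [DecidableEq ι] [Fintype ι] {F : Type v} [Field F]
  {H : Subgroup (Matrix.SpecialLinearGroup ι F)}

theorem transvection_coe_smul {i j : ι} (h : i ≠ j) (c : F) :
    (transvection h c : Matrix ι ι F) = 1 + c • Matrix.single i j (1 : F) := by
  rw [transvection_coe, Matrix.smul_single, smul_eq_mul, mul_one]

theorem mem_of_mul_eq_mul_mul {G : Type u} [Group G] {H : Subgroup G} {x y z : G} (hx : x ∈ H)
    (hy : y ∈ H) (h : x * y = z * (y * x)) : z ∈ H := by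
  have : z = x * y * (y * x)⁻¹ := by rw [h, mul_inv_cancel_right]
  rw [this]
  exact mul_mem (mul_mem hx hy) (inv_mem (mul_mem hy hx))

/-- The first root element. -/
theorem regular_first_root {o a b z : ι} (hoz : o ≠ z) (hao : a ≠ o) (hba : b ≠ a) (hbo : b ≠ o)
    (haz : a ≠ z) (hbz : b ≠ z) {α β γ δ ρ : F}
    (hX : transvection hoz α * transvection hao β ∈ H)
    (hY : transvection hao γ * (transvection hba δ * transvection hbo ρ) ∈ H) :
    transvection hbz (-(δ * β * α)) ∈ H := by
  set K := transvection hbo (-(δ * β)) * (transvection haz (-(γ * α)) *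
    transvection hbz (-(ρ * α) + δ * β * α)) with hK
  have hKH : K ∈ H := by
    refine mem_of_mul_eq_mul_mul hX hY (Subtype.ext ?_)
    simp only [hK, coe_mul, transvection_coe_smul, mul_add, add_mul, smul_mul_assoc, mul_smul_comm,
      smul_smul, single_mul_single_same, single_mul_single_of_ne, ne_eq, not_false_eq_true, mul_one,
      one_mul, smul_zero, add_zero, zero_add, mul_zero, zero_mul, hoz, hoz.symm, hao, hao.symm, hba, hba.symm, hbo, hbo.symm,
      haz, haz.symm, hbz, hbz.symm]
    module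
  refine mem_of_mul_eq_mul_mul hKH hX (Subtype.ext ?_)
  simp only [hK, coe_mul, transvection_coe_smul, mul_add, add_mul, smul_mul_assoc, mul_smul_comm,
    smul_smul, single_mul_single_same, single_mul_single_of_ne, ne_eq, not_false_eq_true, mul_one,
      one_mul, smul_zero, add_zero, zero_add, mul_zero, zero_mul, hoz, hoz.symm, hao, hao.symm, hba, hba.symm, hbo, hbo.symm,
    haz, haz.symm, hbz, hbz.symm]
  module

theorem regular_root_step {o a z k : ι} (hoz : o ≠ z) (hao : a ≠ o) (hko : k ≠ o) (hkz : k ≠ z)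
    (haz : a ≠ z) {α β s : F} (hX : transvection hoz α * transvection hao β ∈ H)
    (hs : transvection hko s ∈ H) : transvection hkz (s * α) ∈ H := by
  refine mem_of_mul_eq_mul_mul hs hX (Subtype.ext ?_)
  simp only [coe_mul, transvection_coe_smul, mul_add, add_mul, smul_mul_assoc, mul_smul_comm,
    smul_smul, single_mul_single_same, single_mul_single_of_ne, ne_eq, not_false_eq_true, mul_one,
      one_mul, smul_zero, add_zero, zero_add, mul_zero, zero_mul, hoz, hoz.symm, hao, hao.symm, hko, hko.symm, hkz, hkz.symm,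
    haz, haz.symm]
  module

theorem regular_row_commutator {p r o z : ι} (hpr : p ≠ r) (hpo : p ≠ o) (hpz : p ≠ z)
    (hoz : o ≠ z) (hro : r ≠ o) {s u t : F}
    (hX : transvection hpr s * transvection hpo u ∈ H) (ht : transvection hoz t ∈ H) :
    transvection hpz (u * t) ∈ H := by
  refine mem_of_mul_eq_mul_mul hX ht (Subtype.ext ?_)
  simp only [coe_mul, transvection_coe_smul, mul_add, add_mul, smul_mul_assoc, mul_smul_comm,
    smul_smul, single_mul_single_same, single_mul_single_of_ne, ne_eq, not_false_eq_true, mul_one,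
      one_mul, smul_zero, add_zero, zero_add, mul_zero, zero_mul, hpr, hpr.symm, hpo, hpo.symm, hpz, hpz.symm, hoz, hoz.symm,
    hro, hro.symm]
  module

end relations

/-- Injections both ways between finite subgroups of `F` are surjective. -/
theorem exists_eq_mul_of_mul_mem {F : Type v} [Field F] [Finite F] {A B : AddSubgroup F} {x y : F}
    (hx : x ≠ 0) (hy : y ≠ 0) (hAB : ∀ a ∈ A, x * a ∈ B) (hBA : ∀ b ∈ B, y * b ∈ A) {s : F}
    (hs : s ∈ B) : ∃ r ∈ A, s = x * r := by
  let f : A → B := fun a => ⟨x * a, hAB a a.2⟩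
  let g : B → A := fun b => ⟨y * b, hBA b b.2⟩
  have hf : Function.Injective f := fun a b h =>
    Subtype.ext (mul_left_cancel₀ hx (congrArg Subtype.val h))
  have hg : Function.Injective g := fun a b h =>
    Subtype.ext (mul_left_cancel₀ hy (congrArg Subtype.val h))
  obtain ⟨r, hr⟩ := (hf.bijective_of_nat_card_le (Nat.card_le_card_of_injective g hg)).2 ⟨s, hs⟩
  exact ⟨r, r.2, (congrArg Subtype.val hr).symm⟩

/-- Binomial coefficients of `p ^ v * w` in characteristic `p`. -/
theorem choose_char_pow_mul {F : Type v} [Field F] (p v w : ℕ) [Fact p.Prime] [CharP F p] (j : ℕ) :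
    ((p ^ v * w).choose j : F) = if p ^ v ∣ j then (w.choose (j / p ^ v) : F) else 0 := by
  have hr : 0 < p ^ v := pow_pos (Fact.out : p.Prime).pos _
  rw [← Polynomial.coeff_X_add_one_pow, ← Polynomial.coeff_X_add_one_pow F w,
    ← Polynomial.coeff_expand hr]
  congr 1
  rw [map_pow, map_add, map_one, Polynomial.expand_X, pow_mul, add_pow_char_pow, one_pow]

variable {F : Type v} [Field F] [Finite F] {m : ℕ}
  {H : Subgroup (Matrix.SpecialLinearGroup (Fin (m + 1)) F)}

/-- A subgroup containing the companion element and `T_0m(λ) T_10(-a₀ λ)` is everything. -/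
theorem eq_top_of_compSL (hm : 3 ≤ m) (lam : F) (hlam : lam ≠ 0)
    (hgen : ∀ t : F, t ≠ 0 → ∃ i : ℕ, lam ^ i = t) (hC : compSL F m ∈ H)
    (h0m : cIdx m 0 ≠ cIdx m m) (h10 : cIdx m 1 ≠ cIdx m 0)
    (hD : transvection h0m lam * transvection h10 (-(compCoef F m 0 * lam)) ∈ H) : H = ⊤ := by
  set a0 : F := compCoef F m 0 with ha0
  have ha0sq : a0 * a0 = 1 := compCoef_zero_sq m
  have ha0ne : a0 ≠ 0 := left_ne_zero_of_mul_eq_one ha0sq
  let R : ℕ → ℕ → AddSubgroup F := fun k l => rootCoeff H (cIdx m k) (cIdx m l)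
  have conjC : ∀ {X}, X ∈ H → compSL F m * X * (compSL F m)⁻¹ ∈ H := fun hX =>
    mul_mem (mul_mem hC hX) (inv_mem hC)
  have conjC' : ∀ {X}, compSL F m * X * (compSL F m)⁻¹ ∈ H → X ∈ H := fun {X} hX => by
    have := mul_mem (mul_mem (inv_mem hC) hX) hC
    simpa [mul_assoc] using this
  -- conjugation into column `0`
  have conjLast : ∀ (i : ℕ) (hi : i < m) (h : cIdx m i ≠ cIdx m m) (h' : cIdx m (i + 1) ≠ cIdx m 0)
      (s : F), compSL F m * transvection h s * (compSL F m)⁻¹ = transvection h' (a0 * s) := by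
    intro i hi h h' s
    refine conj_transvection_eq h h' ?_
    rw [compSL_coe, compMat_mul_single m hi, single_mul_compMat_zero, ← ha0,
      mul_right_comm, ha0sq, one_mul]
  -- conjugation elsewhere
  have conjShift : ∀ (i j : ℕ) (hi : i < m) (hj : j < m) (h : cIdx m i ≠ cIdx m j)
      (h' : cIdx m (i + 1) ≠ cIdx m (j + 1)) (h'' : cIdx m (i + 1) ≠ cIdx m 0) (s : F),
      compSL F m * transvection h s * (compSL F m)⁻¹ =
        transvection h' s * transvection h'' (-(a0 * compCoef F m (j + 1) * s)) := by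
    intro i j hi hj h h' h'' s
    rw [mul_inv_eq_iff_eq_mul]
    apply Subtype.ext
    simp only [coe_mul, transvection_coe, compSL_coe, mul_add, add_mul, mul_one, one_mul,
      compMat_mul_single m hi, single_mul_single_of_ne _ _ _ _ h'.symm, single_mul_compMat_zero,
      single_mul_compMat_succ m _ (show j + 1 ≤ m by omega), add_zero, ← ha0, zero_mul]
    have : -(a0 * compCoef F m (j + 1) * s) * a0 = -(s * compCoef F m (j + 1)) := by
      calc _ = -(s * compCoef F m (j + 1) * (a0 * a0)) := by ring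
        _ = _ := by rw [ha0sq, mul_one]
    rw [this, ← Matrix.single_neg]
    abel
  have Rlast : ∀ (i : ℕ), i < m → ∀ s, s ∈ R i m ↔ s ∈ R (i + 1) 0 := by
    intro i hi s
    have h : cIdx m i ≠ cIdx m m := cIdx_ne m hi.le le_rfl hi.ne
    have h' : cIdx m (i + 1) ≠ cIdx m 0 := cIdx_ne m hi (Nat.zero_le _) (by omega)
    have hpm : ∀ x, x ∈ R (i + 1) 0 ↔ a0 * x ∈ R (i + 1) 0 := by
      intro x
      rw [ha0, compCoef_zero]
      rcases neg_one_pow_eq_or F (m + 1) with e | e <;> simp [e]
    rw [hpm]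
    constructor
    · intro hs _
      rw [← conjLast i hi h h' s]; exact conjC (hs h)
    · intro hs _
      exact conjC' (by rw [conjLast i hi h h' s]; exact hs h')
  have ne01 : cIdx m 1 ≠ cIdx m m := cIdx_ne m (by omega) le_rfl (by omega)
  have step : ∀ k, 1 ≤ k → k < m → ∀ s ∈ R k 0, lam * s ∈ R (k + 1) 0 := by
    intro k hk1 hkm s hs
    rw [← Rlast k hkm]
    intro h
    rw [mul_comm lam s]
    exact regular_root_step h0m h10 (cIdx_ne m hkm.le (Nat.zero_le _) (by omega)) h ne01 hD (hs _)
  have mulUp : ∀ k, 1 ≤ k → k < m → ∀ s ∈ R k 0, ∀ t ∈ R 1 0, s * t ∈ R (k + 1) 0 := by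
    intro k hk1 hkm s hs t ht
    rw [← Rlast k hkm]
    exact rootCoeff_mul (cIdx_ne m hkm.le (Nat.zero_le _) (by omega)) h0m
      (cIdx_ne m hkm.le le_rfl hkm.ne) hs ((Rlast 0 (by omega) t).mpr ht)
  have mulDown : ∀ k, 1 ≤ k → k < m → ∀ s ∈ R (k + 1) 0, ∀ t ∈ R m 0, s * t ∈ R k 0 := by
    intro k hk1 hkm s hs t ht
    exact rootCoeff_mul (cIdx_ne m hkm.le le_rfl hkm.ne) h0m.symm
      (cIdx_ne m hkm.le (Nat.zero_le _) (by omega)) ((Rlast k hkm s).mpr hs) ht
  -- a first nonzero element
  obtain ⟨x3, hx3, hx30⟩ : ∃ x ∈ R 3 0, x ≠ 0 := by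
    have h21 : cIdx m 2 ≠ cIdx m 1 := cIdx_ne m (by omega) (by omega) (by omega)
    have h20 : cIdx m 2 ≠ cIdx m 0 := cIdx_ne m (by omega) (by omega) (by omega)
    have h2m : cIdx m 2 ≠ cIdx m m := cIdx_ne m (by omega) le_rfl (by omega)
    have hY := conjC hD
    have hsplit : ∀ (c X Y : Matrix.SpecialLinearGroup (Fin (m + 1)) F),
        c * (X * Y) * c⁻¹ = (c * X * c⁻¹) * (c * Y * c⁻¹) := fun c X Y => by group
    rw [hsplit, conjLast 0 (by omega) h0m h10, conjShift 1 0 (by omega) (by omega) h10 h21 h20] at hY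
    have := regular_first_root h0m h10 h21 h20 ne01 h2m hD hY
    refine ⟨_, (Rlast 2 (by omega) _).mp ((mem_rootCoeff h2m).mpr this), ?_⟩
    simp [hlam, ha0ne]
  obtain ⟨xm, hxm, hxm0⟩ : ∃ x ∈ R m 0, x ≠ 0 := by
    have : ∀ k, 3 ≤ k → k ≤ m → ∃ x ∈ R k 0, x ≠ 0 := by
      intro k hk
      induction k, hk using Nat.le_induction with
      | base => exact fun _ => ⟨x3, hx3, hx30⟩
      | succ k hk ih =>
        intro hkm
        obtain ⟨x, hx, hx0⟩ := ih (by omega)
        exact ⟨lam * x, step k (by omega) (by omega) x hx, mul_ne_zero hlam hx0⟩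
    exact this m hm le_rfl
  obtain ⟨a, ha, ha'⟩ : ∃ a ∈ R 1 0, a ≠ 0 :=
    ⟨_, mulDown 1 le_rfl (by omega) _ (mulDown 2 (by omega) (by omega) _ hx3 _ hxm) _ hxm,
      mul_ne_zero (mul_ne_zero hx30 hxm0) hxm0⟩
  have stepInv : ∀ k, 1 ≤ k → k < m → ∀ s ∈ R (k + 1) 0, ∃ r ∈ R k 0, s = lam * r := by
    intro k hk1 hkm s hs
    exact exists_eq_mul_of_mul_mem hlam hxm0 (step k hk1 hkm)
      (fun b hb => by rw [mul_comm]; exact mulDown k hk1 hkm b hb xm hxm) hs
  have hl1 : lam ∈ R 1 0 := by
    obtain ⟨r, hr, e⟩ := exists_eq_mul_of_mul_mem (A := R 1 0) (B := R 2 0) ha' hxm0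
      (fun s hs => mulUp 1 le_rfl (by omega) a ha s hs)
      (fun b hb => by rw [mul_comm]; exact mulDown 1 le_rfl (by omega) b hb xm hxm)
      (step 1 le_rfl (by omega) a ha)
    have : r = lam := mul_left_cancel₀ ha' (e.symm.trans (mul_comm _ _))
    rwa [this] at hr
  -- the coefficient ring
  let G : AddSubgroup F := (R 1 0).comap (AddMonoidHom.mulLeft lam)
  have hG : ∀ s, s ∈ G ↔ lam * s ∈ R 1 0 := fun s => Iff.rfl
  have hG1 : (1 : F) ∈ G := by rw [hG, mul_one]; exact hl1
  have hGmul : ∀ s ∈ G, ∀ t ∈ G, s * t ∈ G := by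
    intro s hs t ht
    rw [hG] at hs ht ⊢
    obtain ⟨r, hr, e⟩ := stepInv 1 le_rfl (by omega) _ (mulUp 1 le_rfl (by omega) _ hs _ ht)
    have : r = lam * (s * t) := mul_left_cancel₀ hlam (e.symm.trans (by ring))
    rwa [this] at hr
  have hGpow : ∀ s ∈ G, ∀ i : ℕ, s ^ i ∈ G := by
    intro s hs i
    induction i with
    | zero => rwa [pow_zero]
    | succ i ih => rw [pow_succ]; exact hGmul _ ih _ hs
  have hGR : ∀ k, 1 ≤ k → k ≤ m → ∀ s, s ∈ G ↔ lam ^ k * s ∈ R k 0 := by
    intro k hk
    induction k, hk using Nat.le_induction with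
    | base => intro _ s; rw [pow_one]; exact hG s
    | succ k hk ih =>
      intro hkm s
      rw [ih (by omega) s, pow_succ', mul_assoc]
      refine ⟨step k hk (by omega) _, fun h => ?_⟩
      obtain ⟨r, hr, e⟩ := stepInv k hk (by omega) _ h
      rwa [mul_left_cancel₀ hlam e]
  have hGn : lam ^ (m + 1) ∈ G := by
    rw [hG]
    have h2 := (hGR 2 (by omega) (by omega) 1).mp hG1
    have hmm := (hGR m (by omega) le_rfl 1).mp hG1
    have := mulDown 1 le_rfl (by omega) _ h2 _ hmm
    rwa [mul_one, mul_one, ← pow_add, show 2 + m = (m + 1) + 1 by omega, pow_succ'] at this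
  -- the characteristic
  obtain ⟨p, hp⟩ := CharP.exists F
  haveI : Fact p.Prime := ⟨CharP.char_is_prime F p⟩
  have hpp : p.Prime := Fact.out
  obtain ⟨v, w, hw, hn⟩ := Nat.exists_eq_pow_mul_and_not_dvd (show m + 1 ≠ 0 by omega) p hpp.ne_one
  set r := p ^ v with hr
  have hr0 : 0 < r := pow_pos hpp.pos _
  obtain ⟨x, hxgen, hxr⟩ : ∃ x : F, (∀ t, t ≠ 0 → ∃ i : ℕ, x ^ i = t) ∧ x ^ r ∈ G := by
    rcases Nat.lt_or_ge w 2 with hw2 | hw2
    · refine ⟨lam, hgen, ?_⟩
      have : w = 1 := by
        rcases Nat.eq_zero_or_pos w with h | h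
        · exact absurd (h ▸ dvd_zero p) hw
        · omega
      rw [this, mul_one] at hn
      rwa [hn] at hGn
    · refine ⟨lam⁻¹, fun t ht => ?_, ?_⟩
      · obtain ⟨i, hi⟩ := hgen t⁻¹ (inv_ne_zero ht)
        exact ⟨i, by rw [inv_pow, hi, inv_inv]⟩
      have hrm : r + 1 < m := by
        have h1 : 2 * r ≤ r * w := by rw [mul_comm 2 r]; exact Nat.mul_le_mul_left _ hw2
        rcases Nat.lt_or_ge 2 r with h | h
        · omega
        rcases (show r = 1 ∨ r = 2 by omega) with h' | h'
        · omega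
        · by_contra hcon
          have hv : v ≠ 0 := fun e => by rw [hr, e, pow_zero] at h'; omega
          have hp2 : p ∣ 2 := h' ▸ dvd_pow_self p hv
          have : p = 2 := (Nat.prime_dvd_prime_iff_eq hpp Nat.prime_two).mp hp2
          apply hw
          rw [h'] at hn
          rw [this, show w = 2 by omega]
      have hz : ∀ j, 0 < j → j < r → compCoef F m j = 0 := by
        intro j hj0 hjr
        rw [compCoef, hn, choose_char_pow_mul p v w,
          if_neg (fun h => Nat.not_le.mpr hjr (Nat.le_of_dvd hj0 h))]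
        simp
      have hcr : compCoef F m r = -((-1) ^ (m + 1 - r) * (w : F)) := by
        rw [compCoef, hn, choose_char_pow_mul p v w, if_pos dvd_rfl, Nat.div_self hr0,
          Nat.choose_one_right]
      set c : F := -(a0 * compCoef F m r) with hc
      have hw0 : (w : F) ≠ 0 := fun e => hw ((CharP.cast_eq_zero_iff F p w).mp e)
      have hc0 : c ≠ 0 := by
        rw [hc, hcr]
        exact neg_ne_zero.mpr (mul_ne_zero ha0ne (neg_ne_zero.mpr (mul_ne_zero (by simp) hw0)))
      have hcG : c ∈ G := by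
        have hwG : (w : F) ∈ G := by
          rw [← nsmul_one]; exact nsmul_mem hG1 w
        have hu : (-1 : F) ∈ G := neg_mem hG1
        rw [hc, hcr, ha0, compCoef_zero]
        exact neg_mem (hGmul _ (neg_mem (hGpow _ hu _)) _ (neg_mem (hGmul _ (hGpow _ hu _) _ hwG)))
      have hciG : c⁻¹ ∈ G := by
        haveI := Fintype.ofFinite F
        have h1 := FiniteField.pow_card_sub_one_eq_one c hc0
        have hq : 1 < Fintype.card F := Fintype.one_lt_card
        rw [show Fintype.card F - 1 = (Fintype.card F - 2) + 1 by omega, pow_succ] at h1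
        rw [← eq_inv_of_mul_eq_one_left h1]
        exact hGpow _ hcG _
      -- shifting `T_10` up to row `r + 1`
      have hshift : ∀ j, j < r → ∀ h : cIdx m (j + 1) ≠ cIdx m j,
          transvection h lam ∈ H := by
        intro j
        induction j with
        | zero => exact fun _ h => hl1 h
        | succ j ih =>
          intro hj h
          have h' : cIdx m (j + 1) ≠ cIdx m j := cIdx_ne m (by omega) (by omega) (by omega)
          have h'' : cIdx m (j + 1 + 1) ≠ cIdx m 0 := cIdx_ne m (by omega) (by omega) (by omega)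
          have := conjC (ih (by omega) h')
          rw [conjShift (j + 1) j (by omega) (by omega) h' h h'', hz (j + 1) (by omega) hj, mul_zero,
            zero_mul, neg_zero, transvection_coeff_zero, mul_one] at this
          exact this
      have e : r - 1 + 1 = r := by omega
      have hne1 : cIdx m r ≠ cIdx m (r - 1) := cIdx_ne m (by omega) (by omega) (by omega)
      have hne2 : cIdx m (r + 1) ≠ cIdx m r := cIdx_ne m (by omega) (by omega) (by omega)
      have hne3 : cIdx m (r + 1) ≠ cIdx m 0 := cIdx_ne m (by omega) (by omega) (by omega)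
      have hne4 : cIdx m (r + 1) ≠ cIdx m m := cIdx_ne m (by omega) le_rfl (by omega)
      have hne1' : cIdx m (r - 1 + 1) ≠ cIdx m (r - 1) := by rwa [e]
      have hX := conjC (hshift (r - 1) (by omega) hne1')
      rw [conjShift (r - 1 + 1) (r - 1) (by omega) (by omega) hne1' (by rwa [e]) (by rwa [e])] at hX
      simp only [e] at hX
      have hT := regular_row_commutator hne2 hne3 hne4 h0m
        (cIdx_ne m (by omega) (Nat.zero_le _) (by omega)) hX ((Rlast 0 (by omega) lam).mpr hl1 h0m)
      have hA : -(a0 * compCoef F m r * lam) * lam ∈ R (r + 2) 0 :=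
        (Rlast (r + 1) (by omega) _).mp ((mem_rootCoeff hne4).mpr hT)
      have hcl : -(a0 * compCoef F m r * lam) * lam = lam ^ (r + 2) * (c * lam⁻¹ ^ r) := by
        rw [hc, inv_pow, pow_add]
        field_simp
      rw [hcl, ← hGR (r + 2) (by omega) (by omega)] at hA
      have := hGmul _ hciG _ hA
      rwa [inv_mul_cancel_left₀ hc0] at this
  have hGtop : ∀ s, s ∈ G := by
    intro s
    obtain ⟨t, ht⟩ := (Finite.surjective_of_injective (iterateFrobenius_inj F p v)) s
    rw [iterateFrobenius_def] at ht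
    rcases eq_or_ne t 0 with rfl | ht0
    · rw [zero_pow hr0.ne'] at ht; rw [← ht]; exact zero_mem _
    obtain ⟨i, hi⟩ := hxgen t ht0
    rw [← ht, ← hi, ← pow_mul, mul_comm, pow_mul]
    exact hGpow _ hxr i
  have hAll : ∀ k, 1 ≤ k → k ≤ m → ∀ s, s ∈ R k 0 := by
    intro k hk hkm s
    have := (hGR k hk hkm ((lam ^ k)⁻¹ * s)).mp (hGtop _)
    rwa [mul_inv_cancel_left₀ (pow_ne_zero _ hlam)] at this
  have hsub : ∀ j, j + 1 ≤ m → ∀ s, s ∈ R (j + 1) j := by
    intro j
    induction j with
    | zero => exact fun hj => hAll 1 le_rfl hj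
    | succ j ih =>
      intro hj s h
      have h' : cIdx m (j + 1) ≠ cIdx m j := cIdx_ne m (by omega) (by omega) (by omega)
      have h'' : cIdx m (j + 1 + 1) ≠ cIdx m 0 := cIdx_ne m (by omega) (by omega) (by omega)
      have h3 := conjC (ih (by omega) s h')
      rw [conjShift (j + 1) j (by omega) (by omega) h' h h''] at h3
      exact (mul_mem_cancel_right (hAll _ (by omega) (by omega) _ h'')).mp h3
  refine rootCoeff_top_of_cycle_desc fun i s => ?_
  rcases Nat.lt_or_ge i.val m with hi | hi
  · have e1 : cIdx m i.val = i := cIdx_self m i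
    have e2 : cIdx m (i.val + 1) = i + 1 := by
      apply Fin.ext
      rw [cIdx_val m (by omega), Fin.val_add_one]
      rw [if_neg]
      intro h
      rw [h, Fin.val_last] at hi
      omega
    rw [← e2]
    nth_rw 2 [← e1]
    exact hsub i.val (by omega) s
  · have e1 : i = cIdx m m := Fin.ext (by rw [cIdx_val m le_rfl]; omega)
    have e2 : i + 1 = cIdx m 0 := by
      apply Fin.ext
      rw [cIdx_val m (Nat.zero_le _), Fin.val_add_one, if_pos]
      exact Fin.ext (by rw [Fin.val_last]; omega)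
    rw [e2, e1]
    exact (Rlast 0 (by omega) s).mpr (hAll 1 le_rfl (by omega) s)

end Cfsg.Agent.LinearGroup
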