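import Cfsg.Agent.Lib.LinearGroup.Generation

/-!
Coefficient sets of root subgroups inside a subgroup of `SL ι F` (helper9).
-/

set_option autoImplicit false

namespace Cfsg.Agent.LinearGroup

open Matrix Matrix.SpecialLinearGroup
open scoped commutatorElement Fin.NatCast

universe u v
variable {ι : Type u} [DecidableEq ι] [Fintype ι] {F : Type v} [Field F]
  {H : Subgroup (Matrix.SpecialLinearGroup ι F)}

/-- The coefficients `s` with `1 + s E_ij` in `H` (everything when `i = j`). -/
def rootCoeff (H : Subgroup (Matrix.SpecialLinearGroup ι F)) (i j : ι) : AddSubgroup F where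
  carrier := {s | ∀ h : i ≠ j, transvection h s ∈ H}
  zero_mem' := fun h => by rw [transvection_coeff_zero]; exact one_mem H
  add_mem' := fun {a b} ha hb h => by rw [transvection_add]; exact mul_mem (ha h) (hb h)
  neg_mem' := fun {a} ha h => by rw [← transvection_inv]; exact inv_mem (ha h)

theorem mem_rootCoeff {i j : ι} (h : i ≠ j) {s : F} :
    s ∈ rootCoeff H i j ↔ transvection h s ∈ H := ⟨fun hs => hs h, fun hs _ => hs⟩

/-- Chevalley's commutator relation inside `H`. -/
theorem rootCoeff_mul {i j k : ι} (hik : i ≠ k) (hkj : k ≠ j) (hij : i ≠ j) {s r : F}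
    (hs : s ∈ rootCoeff H i k) (hr : r ∈ rootCoeff H k j) : s * r ∈ rootCoeff H i j := by
  rw [mem_rootCoeff hij, ← commutator_transvection hik hkj hij s r, commutatorElement_def]
  exact mul_mem (mul_mem (mul_mem (hs hik) (hr hkj)) (inv_mem (hs hik))) (inv_mem (hr hkj))

/-- Conjugation of a root element computed on matrices. -/
theorem conj_transvection_eq {h : Matrix.SpecialLinearGroup ι F} {i j k l : ι} (hij : i ≠ j)
    (hkl : k ≠ l) {s t : F}
    (e : (h : Matrix ι ι F) * Matrix.single i j s = Matrix.single k l t * (h : Matrix ι ι F)) :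
    h * transvection hij s * h⁻¹ = transvection hkl t := by
  rw [mul_inv_eq_iff_eq_mul]
  apply Subtype.ext
  rw [coe_mul, coe_mul, transvection_coe, transvection_coe, Matrix.mul_add, Matrix.add_mul,
    Matrix.mul_one, Matrix.one_mul, e]

theorem rootCoeff_conj {h : Matrix.SpecialLinearGroup ι F} (hh : h ∈ H) {i j k l : ι} (hij : i ≠ j)
    {s t : F}
    (e : (h : Matrix ι ι F) * Matrix.single i j s = Matrix.single k l t * (h : Matrix ι ι F))
    (hs : s ∈ rootCoeff H i j) : t ∈ rootCoeff H k l := fun hkl => by
  rw [← conj_transvection_eq hij hkl e]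
  exact mul_mem (mul_mem hh (hs hij)) (inv_mem hh)

theorem eq_top_of_rootCoeff (h : ∀ i j : ι, i ≠ j → rootCoeff H i j = ⊤) : H = ⊤ :=
  eq_top_of_transvection_mem fun i j hij c =>
    (mem_rootCoeff hij).mp (by rw [h i j hij]; exact AddSubgroup.mem_top c)

/-- Root groups between all pairs once a set of adjacent pairs forms a cycle through everything. -/
theorem rootCoeff_top_of_cycle {n : ℕ} {K : Type v} [Field K]
    {H : Subgroup (Matrix.SpecialLinearGroup (Fin (n + 1)) K)}
    (h : ∀ i : Fin (n + 1), ∀ s, s ∈ rootCoeff H i (i + 1)) : H = ⊤ := by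
  refine eq_top_of_rootCoeff fun i j hij => ?_
  rw [AddSubgroup.eq_top_iff']
  obtain ⟨d, hd, rfl⟩ : ∃ d : ℕ, d ≤ n ∧ j = i + (d : Fin (n + 1)) :=
    ⟨(j - i).val, Nat.le_of_lt_succ (j - i).isLt, by simp⟩
  have key : ∀ d : ℕ, 0 < d → d ≤ n → ∀ s, s ∈ rootCoeff H i (i + (d : Fin (n + 1))) := by
    intro d hd0 hdn
    induction d with
    | zero => omega
    | succ e ih =>
      rcases Nat.eq_zero_or_pos e with rfl | he
      · simpa using h i
      · intro s
        have hne : ∀ a : ℕ, 0 < a → a ≤ n → (a : Fin (n + 1)) ≠ 0 := by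
          intro a ha1 ha2 h0
          have := congrArg Fin.val h0
          rw [Fin.val_natCast, Nat.mod_eq_of_lt (by omega)] at this
          simp at this
          omega
        have e1 : i + ((e + 1 : ℕ) : Fin (n + 1)) = i + (e : Fin (n + 1)) + 1 := by
          push_cast; rw [add_assoc]
        rw [e1, ← one_mul s, ← mul_one (1 : K), mul_assoc, one_mul]
        refine rootCoeff_mul ?_ ?_ ?_ (ih he (by omega) 1) (h _ s)
        · intro hh
          exact hne e he (by omega) (add_left_cancel (a := i) (by rw [add_zero]; exact hh.symm))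
        · intro hh
          exact hne 1 one_pos (by omega)
            (add_left_cancel (a := i + (e : Fin (n + 1))) (by rw [add_zero, Nat.cast_one]; exact hh.symm))
        · intro hh
          exact hne (e + 1) (by omega) hdn
            (add_left_cancel (a := i) (by rw [add_zero, e1]; exact hh.symm))
  have hd0 : 0 < d := Nat.pos_of_ne_zero fun h0 => hij (by simp [h0])
  exact key d hd0 hd

/-- The same for a cycle of descending pairs. -/
theorem rootCoeff_top_of_cycle_desc {n : ℕ} {K : Type v} [Field K]
    {H : Subgroup (Matrix.SpecialLinearGroup (Fin (n + 1)) K)}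
    (h : ∀ i : Fin (n + 1), ∀ s, s ∈ rootCoeff H (i + 1) i) : H = ⊤ := by
  have hne : ∀ a : ℕ, 0 < a → a ≤ n → (a : Fin (n + 1)) ≠ 0 := by
    intro a ha1 ha2 h0
    have := congrArg Fin.val h0
    rw [Fin.val_natCast, Nat.mod_eq_of_lt (by omega)] at this
    simp at this
    omega
  have key : ∀ d : ℕ, 0 < d → d ≤ n → ∀ (i : Fin (n + 1)) (s : K),
      s ∈ rootCoeff H (i + (d : Fin (n + 1))) i := by
    intro d hd0 hdn
    induction d with
    | zero => omega
    | succ e ih =>
      intro i s
      rcases Nat.eq_zero_or_pos e with rfl | he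
      · simpa using h i s
      · have e1 : i + ((e + 1 : ℕ) : Fin (n + 1)) = i + (e : Fin (n + 1)) + 1 := by
          push_cast; rw [add_assoc]
        rw [e1, ← mul_one s]
        refine rootCoeff_mul ?_ ?_ ?_ (h _ s) (ih he (by omega) i 1)
        · intro hh
          exact hne 1 one_pos (by omega)
            (add_left_cancel (a := i + (e : Fin (n + 1))) (by rw [add_zero, Nat.cast_one]; exact hh))
        · intro hh
          exact hne e he (by omega) (add_left_cancel (a := i) (by rw [add_zero]; exact hh))
        · intro hh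
          exact hne (e + 1) (by omega) hdn (add_left_cancel (a := i) (by rw [add_zero, e1]; exact hh))
  refine eq_top_of_rootCoeff fun i j hij => ?_
  rw [AddSubgroup.eq_top_iff']
  obtain ⟨d, hd, rfl⟩ : ∃ d : ℕ, d ≤ n ∧ i = j + (d : Fin (n + 1)) :=
    ⟨(i - j).val, Nat.le_of_lt_succ (i - j).isLt, by simp⟩
  exact key d (Nat.pos_of_ne_zero fun h0 => hij (by simp [h0])) hd j

end Cfsg.Agent.LinearGroup
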