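import Cfsg.Agent.Lib.LinearGroup.SLThreeBase

/-!
`SL 3` in characteristic not three: the companion matrix and a diagonal conjugate (helper9).
-/

set_option autoImplicit false

namespace Cfsg.Agent.LinearGroup

open Matrix Matrix.SpecialLinearGroup

universe v

variable {F : Type v} [Field F]

/-- Two upper triangular elements produce a central root element. -/
theorem upperTriangular_central_root {H : Subgroup (Matrix.SpecialLinearGroup (Fin 3) F)}
    {D D1 : Matrix.SpecialLinearGroup (Fin 3) F} (hD : D ∈ H) (hD1 : D1 ∈ H) {μ p x y : F}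
    (hμ : μ ≠ 0)
    (eD : (D : Matrix (Fin 3) (Fin 3) F) = !![μ, p, 0; 0, μ⁻¹, 0; 0, 0, 1])
    (eD1 : (D1 : Matrix (Fin 3) (Fin 3) F) = !![1, 0, x; 0, μ, y; 0, 0, μ⁻¹])
    (h02 : (0 : Fin 3) ≠ 2) :
    Matrix.SpecialLinearGroup.transvection h02
      ((p * (μ - 1)) * (y * (1 - μ)) * (μ⁻¹ - μ ^ 2)) ∈ H := by
  let a := p * (μ - 1)
  let b := y * (1 - μ)
  let c := μ * (μ * x + p * y - x - a * y)
  obtain ⟨N, hNc⟩ : ∃ X : Matrix.SpecialLinearGroup (Fin 3) F,
      (X : Matrix (Fin 3) (Fin 3) F) = !![1, a, c; 0, 1, b; 0, 0, 1] :=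
    ⟨⟨_, by simp [Matrix.det_fin_three]⟩, rfl⟩
  obtain ⟨N', hNpc⟩ : ∃ X : Matrix.SpecialLinearGroup (Fin 3) F,
      (X : Matrix (Fin 3) (Fin 3) F) = !![1, μ ^ 2 * a, μ * c + p * b; 0, 1, μ⁻¹ * b; 0, 0, 1] :=
    ⟨⟨_, by simp [Matrix.det_fin_three]⟩, rfl⟩
  have e1 : D * D1 = N * (D1 * D) := by
    apply Subtype.ext
    simp only [coe_mul, eD, eD1, hNc]
    ext i j
    fin_cases i <;> fin_cases j <;> simp [Matrix.mul_apply, Fin.sum_univ_three, a, b, c] <;>
      field_simp <;> ring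
  have e2 : D * N = N' * D := by
    apply Subtype.ext
    simp only [coe_mul, eD, hNc, hNpc]
    ext i j
    fin_cases i <;> fin_cases j <;> simp [Matrix.mul_apply, Fin.sum_univ_three] <;>
      field_simp <;> ring
  have e3 : N * N' = Matrix.SpecialLinearGroup.transvection h02 (a * b * (μ⁻¹ - μ ^ 2)) * (N' * N) := by
    apply Subtype.ext
    simp only [coe_mul, transvection_coe, hNc, hNpc]
    ext i j
    fin_cases i <;> fin_cases j <;> simp [Matrix.mul_apply, Fin.sum_univ_three] <;> ring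
  have hN : N ∈ H := by
    have := mul_mem (mul_mem hD hD1) (inv_mem (mul_mem hD1 hD))
    rwa [e1, mul_inv_cancel_right] at this
  have hN' : N' ∈ H := by
    have := mul_mem (mul_mem hD hN) (inv_mem hD)
    rwa [e2, mul_inv_cancel_right] at this
  have := mul_mem (mul_mem hN hN') (inv_mem (mul_mem hN' hN))
  rwa [e3, mul_inv_cancel_right] at this

/-- Case of characteristic not three and at least five elements. -/
theorem exists_regular_pair_three_ne (F : Type v) [Field F] [Fintype F] (h3 : (3 : F) ≠ 0)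
    (hq : 5 ≤ Fintype.card F) :
    ∃ g : Matrix.SpecialLinearGroup (Fin 3) F,
      Subgroup.closure ({compSL F 2, g * compSL F 2 * g⁻¹} :
        Set (Matrix.SpecialLinearGroup (Fin 3) F)) = ⊤ := by
  obtain ⟨ν, hν⟩ := IsCyclic.exists_generator (α := Fˣ)
  set n : F := (ν : F)
  have hn0 : n ≠ 0 := ν.ne_zero
  have hord : orderOf ν = Fintype.card F - 1 := by
    rw [orderOf_eq_card_of_forall_mem_zpowers hν, Nat.card_units, Nat.card_eq_fintype_card]
  have hμ3 : (n ^ 3) ^ 3 ≠ 1 := by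
    intro e
    have hd : orderOf ν ∣ 9 := orderOf_dvd_of_pow_eq_one (Units.ext (by
      rw [Units.val_pow_eq_pow_val, Units.val_one, ← e, ← pow_mul]))
    have hle := Nat.le_of_dvd (by norm_num) hd
    have : orderOf ν = 4 ∨ orderOf ν = 5 ∨ orderOf ν = 6 ∨ orderOf ν = 7 ∨ orderOf ν = 8 ∨
        orderOf ν = 9 := by omega
    rcases this with h | h | h | h | h | h <;> rw [h] at hd <;> try norm_num at hd
    -- no field has ten elements
    obtain ⟨p, hp⟩ := CharP.exists F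
    obtain ⟨k, hpp, hk⟩ := FiniteField.card F p
    rw [h] at hord
    have h10 : p ^ (k : ℕ) = 10 := by omega
    have hd10 : p ∣ 10 := h10 ▸ dvd_pow_self p k.pos.ne'
    have h2 : 2 ∣ p ^ (k : ℕ) := by rw [h10]; norm_num
    have hp2 : p = 2 := ((Nat.prime_dvd_prime_iff_eq Nat.prime_two hpp).mp
      (Nat.prime_two.dvd_of_dvd_pow h2)).symm
    have h5 : 5 ∣ p ^ (k : ℕ) := by rw [h10]; norm_num
    have := (Nat.prime_dvd_prime_iff_eq Nat.prime_five hpp).mp
      (Nat.prime_five.dvd_of_dvd_pow h5)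
    omega
  set μ : F := n ^ 3 with hμdef
  have hμ0 : μ ≠ 0 := pow_ne_zero _ hn0
  have hμ1 : μ ≠ 1 := fun e => hμ3 (by rw [e, one_pow])
  obtain ⟨g, hgc⟩ : ∃ X : Matrix.SpecialLinearGroup (Fin 3) F,
      (X : Matrix (Fin 3) (Fin 3) F) = !![n⁻¹, 0, 0; 0, n⁻¹, 0; 0, 0, n ^ 2] :=
    ⟨⟨_, by simp [Matrix.det_fin_three]; field_simp⟩, rfl⟩
  obtain ⟨D, hDc⟩ : ∃ X : Matrix.SpecialLinearGroup (Fin 3) F,
      (X : Matrix (Fin 3) (Fin 3) F) = !![μ⁻¹, 0, 0; 3 * (1 - μ⁻¹), 1, 0; 3 * (1 - μ), 0, μ] :=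
    ⟨⟨_, by simp [Matrix.det_fin_three, hμ0]⟩, rfl⟩
  refine ⟨g, ?_⟩
  set C := compSL F 2
  set H := Subgroup.closure ({C, g * C * g⁻¹} : Set (Matrix.SpecialLinearGroup (Fin 3) F))
  have hC : C ∈ H := Subgroup.subset_closure (by simp)
  have hD : D ∈ H := by
    have e : g * C = D * (C * g) := by
      apply Subtype.ext
      simp only [coe_mul, C, compSL_two_coe, hgc, hDc]
      ext i j
      fin_cases i <;> fin_cases j <;> simp [Matrix.mul_apply, Fin.sum_univ_three, hμdef] <;>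
        field_simp <;> ring
    have h := mul_mem (Subgroup.subset_closure (show g * C * g⁻¹ ∈ ({C, g * C * g⁻¹} :
      Set (Matrix.SpecialLinearGroup (Fin 3) F)) by simp) : g * C * g⁻¹ ∈ H) (inv_mem hC)
    have e2 : g * C * g⁻¹ * C⁻¹ = D := by rw [e]; group
    rw [← e2]
    exact h
  -- change of basis
  obtain ⟨P, hPc⟩ : ∃ X : Matrix.SpecialLinearGroup (Fin 3) F,
      (X : Matrix (Fin 3) (Fin 3) F) = !![0, 0, 1; 1, 0, 0; 0, 1, 0] :=
    ⟨⟨_, by simp [Matrix.det_fin_three]⟩, rfl⟩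
  let H' : Subgroup (Matrix.SpecialLinearGroup (Fin 3) F) :=
    H.comap (MulAut.conj (C * P)).toMonoidHom
  obtain ⟨D0, hD0c⟩ : ∃ X : Matrix.SpecialLinearGroup (Fin 3) F,
      (X : Matrix (Fin 3) (Fin 3) F) = !![μ, 3 * (1 - μ⁻¹), 0; 0, μ⁻¹, 0; 0, 0, 1] :=
    ⟨⟨_, by simp [Matrix.det_fin_three, hμ0]⟩, rfl⟩
  obtain ⟨D1, hD1c⟩ : ∃ X : Matrix.SpecialLinearGroup (Fin 3) F,
      (X : Matrix (Fin 3) (Fin 3) F) = !![1, 0, 3 * (1 - μ⁻¹); 0, μ, 3 * (1 - μ); 0, 0, μ⁻¹] :=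
    ⟨⟨_, by simp [Matrix.det_fin_three, hμ0]⟩, rfl⟩
  have hD0 : D0 ∈ H' := by
    show C * P * D0 * (C * P)⁻¹ ∈ H
    have e : C * P * D0 = D * (C * P) := by
      apply Subtype.ext
      simp only [coe_mul, C, compSL_two_coe, hPc, hD0c, hDc]
      ext i j
      fin_cases i <;> fin_cases j <;> simp [Matrix.mul_apply, Fin.sum_univ_three] <;> ring
    rwa [e, mul_inv_cancel_right]
  have hD1 : D1 ∈ H' := by
    show C * P * D1 * (C * P)⁻¹ ∈ H
    have e : C * P * D1 = C * D * P := by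
      apply Subtype.ext
      simp only [coe_mul, C, compSL_two_coe, hPc, hD1c, hDc]
      ext i j
      fin_cases i <;> fin_cases j <;> simp [Matrix.mul_apply, Fin.sum_univ_three] <;> ring
    rw [e]
    have : C * D * P * (C * P)⁻¹ = C * D * C⁻¹ := by group
    rw [this]
    exact mul_mem (mul_mem hC hD) (inv_mem hC)
  have h02 : (0 : Fin 3) ≠ 2 := by decide
  have n10 : (1 : Fin 3) ≠ 0 := by decide
  have hT := upperTriangular_central_root hD0 hD1 hμ0 hD0c hD1c h02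
  set z := (3 * (1 - μ⁻¹) * (μ - 1)) * (3 * (1 - μ) * (1 - μ)) * (μ⁻¹ - μ ^ 2)
  have hz : z ≠ 0 := by
    have h1 : (1 : F) - μ⁻¹ ≠ 0 := fun e => hμ1 (inv_eq_one.mp (sub_eq_zero.mp e).symm)
    have h2 : μ⁻¹ - μ ^ 2 ≠ 0 := fun e => hμ3 (by
      have := congrArg (μ * ·) (sub_eq_zero.mp e)
      simp only [mul_inv_cancel₀ hμ0] at this
      linear_combination -this)
    have h4 : μ - 1 ≠ 0 := sub_ne_zero.mpr hμ1
    have h5 : 1 - μ ≠ 0 := sub_ne_zero.mpr (Ne.symm hμ1)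
    exact mul_ne_zero (mul_ne_zero (mul_ne_zero (mul_ne_zero h3 h1) h4)
      (mul_ne_zero (mul_ne_zero h3 h5) h5)) h2
  have hz10 : z ∈ rootCoeff H (1 : Fin 3) 0 := by
    intro h
    have e : P * Matrix.SpecialLinearGroup.transvection h02 z * P⁻¹ =
        Matrix.SpecialLinearGroup.transvection h z := by
      refine conj_transvection_eq h02 h ?_
      ext i j
      fin_cases i <;> fin_cases j <;> simp [hPc, Matrix.mul_apply, Fin.sum_univ_three]
    have h2 : C * (P * Matrix.SpecialLinearGroup.transvection h02 z * P⁻¹) * C⁻¹ ∈ H := by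
      have h1 : C * P * Matrix.SpecialLinearGroup.transvection h02 z * (C * P)⁻¹ ∈ H := hT
      simpa [mul_assoc] using h1
    have := mul_mem (mul_mem (inv_mem hC) h2) hC
    rw [← e]
    simpa [mul_assoc] using this
  refine eq_top_of_compSL_two hC
    (addSubgroup_eq_top_of_mul_stable _ μ (fun S => addSubgroup_eq_top_of_cube ν hν hq S) hz hz10 ?_)
  intro s hs
  refine rootCoeff_conj hD n10 ?_ hs
  ext i j
  fin_cases i <;> fin_cases j <;> simp [hDc, Matrix.mul_apply, Fin.sum_univ_three] <;> field_simp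

end Cfsg.Agent.LinearGroup
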