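import Mathlib
import Cfsg.Prelude.Def_GeometricClasses

/-!
Elements of prime order `n` of `SL_n(q)` and the normaliser of a field subalgebra of degree `n`.
-/

set_option autoImplicit false

namespace Cfsg.Agent.SingerElusive

open Matrix Module

variable {F : Type*} [Field F] [Fintype F] {n : ℕ} [hn : Fact n.Prime]
  {K : Subalgebra F (Matrix (Fin n) (Fin n) F)}

theorem isField (hK : Cfsg.Geo.IsFieldSubalgebra n K) : IsField K :=
  have : Nontrivial K :=
    Module.nontrivial_of_finrank_pos (R := F) (by rw [hK.finrank_eq]; exact hn.out.pos)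
  { exists_pair_ne := exists_pair_ne K
    mul_comm := fun x y => Subtype.ext (hK.comm x x.2 y y.2)
    mul_inv_cancel := fun {x} hx => by
      obtain ⟨y, hy, hxy⟩ := hK.inv x x.2 fun h => hx (Subtype.ext h)
      exact ⟨⟨y, hy⟩, Subtype.ext hxy⟩ }

theorem eq_zero_of_mulVec (hK : Cfsg.Geo.IsFieldSubalgebra n K) {k : Matrix (Fin n) (Fin n) F}
    (hk : k ∈ K) {v : Fin n → F} (hv : v ≠ 0) (h : k *ᵥ v = 0) : k = 0 := by
  by_contra h0
  obtain ⟨y, hy, hky⟩ := hK.inv k hk h0
  refine hv ?_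
  rw [← one_mulVec v, ← hky, hK.comm k hk y hy, ← mulVec_mulVec, h, mulVec_zero]

/-- The field subalgebra identified with the space by a non-zero vector. -/
noncomputable def toVec (hK : Cfsg.Geo.IsFieldSubalgebra n K) {v : Fin n → F} (hv : v ≠ 0) :
    K ≃ₗ[F] (Fin n → F) :=
  LinearEquiv.ofBijective
    ({ toFun := fun (k : K) => (k : Matrix (Fin n) (Fin n) F) *ᵥ v
       map_add' := fun a b => add_mulVec _ _ _
       map_smul' := fun c a => smul_mulVec _ _ _ } : K →ₗ[F] (Fin n → F))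
    (by
      refine ⟨?_, ?_⟩
      · refine (injective_iff_map_eq_zero _).mpr fun k hk => Subtype.ext ?_
        exact eq_zero_of_mulVec hK k.2 hv hk
      · refine (LinearMap.injective_iff_surjective_of_finrank_eq_finrank
          (by rw [hK.finrank_eq, Module.finrank_pi, Fintype.card_fin])).mp ?_
        refine (injective_iff_map_eq_zero _).mpr fun k hk => Subtype.ext ?_
        exact eq_zero_of_mulVec hK k.2 hv hk)

theorem toVec_apply (hK : Cfsg.Geo.IsFieldSubalgebra n K) {v : Fin n → F} (hv : v ≠ 0) (k : K) :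
    toVec hK hv k = (k : Matrix (Fin n) (Fin n) F) *ᵥ v := rfl

theorem mem_of_centralize (hK : Cfsg.Geo.IsFieldSubalgebra n K) {M : Matrix (Fin n) (Fin n) F}
    (hM : ∀ k ∈ K, M * k = k * M) : M ∈ K := by
  haveI : NeZero n := ⟨hn.out.ne_zero⟩
  have hv : (Pi.single (0 : Fin n) (1 : F) : Fin n → F) ≠ 0 := by simp
  obtain ⟨k, hk⟩ := (toVec hK hv).surjective (M *ᵥ Pi.single (0 : Fin n) 1)
  rw [toVec_apply] at hk
  have : M = (k : Matrix (Fin n) (Fin n) F) := Matrix.ext_of_mulVec_single fun i => by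
    obtain ⟨k', hk'⟩ := (toVec hK hv).surjective (Pi.single i 1)
    rw [toVec_apply] at hk'
    rw [← hk', mulVec_mulVec, mulVec_mulVec, hM _ k'.2, ← mulVec_mulVec, ← hk, mulVec_mulVec,
      hK.comm _ k'.2 _ k.2]
  exact this ▸ k.2

omit [Fintype F] hn in
/-- A non-scalar with an eigenspace of dimension at least two is conjugate to no element of the
normaliser. -/
theorem eigen_dep (hK : Cfsg.Geo.IsFieldSubalgebra n K) (hn : n.Prime) [Fintype F]
    {h : GL (Fin n) F} (hh : h ∈ Cfsg.Geo.subalgebraNormalizer K)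
    (hns : ∀ z : F, (h : Matrix (Fin n) (Fin n) F) ≠ z • 1) (c : F) {v w : Fin n → F} (hv : v ≠ 0)
    (hcv : (h : Matrix (Fin n) (Fin n) F) *ᵥ v = c • v)
    (hcw : (h : Matrix (Fin n) (Fin n) F) *ᵥ w = c • w) : ∃ a : F, w = a • v := by
  haveI : Fact n.Prime := ⟨hn⟩
  set H := (h : Matrix (Fin n) (Fin n) F) with hH
  set H' := ((h⁻¹ : GL (Fin n) F) : Matrix (Fin n) (Fin n) F) with hH'
  have h2 : H' * H = 1 := h.inv_mul
  have hc0 : c ≠ 0 := by
    rintro rfl
    refine hv ?_
    rw [← one_mulVec v, ← h2, ← mulVec_mulVec, hcv, zero_smul, mulVec_zero]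
  have hnK : H ∉ K := fun hHK => by
    have h0 := eq_zero_of_mulVec hK (K.sub_mem hHK (K.smul_mem K.one_mem c)) hv
      (by rw [sub_mulVec, smul_mulVec, one_mulVec, hcv, sub_self])
    exact hns c (sub_eq_zero.1 h0)
  let D : Subalgebra F K :=
    { carrier := {a | H * (a : Matrix (Fin n) (Fin n) F) = (a : Matrix (Fin n) (Fin n) F) * H}
      mul_mem' := fun {a b} ha hb => by
        show H * ((a : Matrix (Fin n) (Fin n) F) * b) = _ * H
        rw [← mul_assoc, show H * (a : Matrix (Fin n) (Fin n) F) = _ from ha, mul_assoc,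
          show H * (b : Matrix (Fin n) (Fin n) F) = _ from hb, ← mul_assoc]
        rfl
      add_mem' := fun {a b} ha hb => by
        show H * ((a : Matrix (Fin n) (Fin n) F) + b) = (_ + _) * H
        rw [mul_add, add_mul, show H * (a : Matrix (Fin n) (Fin n) F) = _ from ha,
          show H * (b : Matrix (Fin n) (Fin n) F) = _ from hb]
      algebraMap_mem' := fun r => (Algebra.commutes r H).symm }
  letI : Field K := (isField hK).toField
  haveI : IsSimpleOrder (Subalgebra F K) :=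
    Subalgebra.isSimpleOrder_of_finrank_prime F K (by rw [hK.finrank_eq]; exact hn)
  have hD : D = ⊥ := (eq_bot_or_eq_top D).resolve_right fun htop => hnK
    (mem_of_centralize hK fun k hk => (htop ▸ Algebra.mem_top : (⟨k, hk⟩ : K) ∈ D))
  obtain ⟨a, ha⟩ := (toVec hK hv).surjective w
  rw [toVec_apply] at ha
  have hb : H * (a : Matrix (Fin n) (Fin n) F) * H' ∈ K := (hh a).1 a.2
  have hba : (H * (a : Matrix (Fin n) (Fin n) F) * H' - (a : Matrix (Fin n) (Fin n) F)) *ᵥ v = 0 := by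
    have e : (H * (a : Matrix (Fin n) (Fin n) F) * H') *ᵥ (c • v) = c • w := by
      rw [← hcv, mulVec_mulVec, mul_assoc, h2, mul_one, ← mulVec_mulVec, ha, hcw]
    rw [mulVec_smul] at e
    rw [sub_mulVec, ha, smul_right_injective (Fin n → F) hc0 e, sub_self]
  have hcomm : a ∈ D := by
    show H * (a : Matrix (Fin n) (Fin n) F) = a * H
    have e := sub_eq_zero.1 (eq_zero_of_mulVec hK (K.sub_mem hb a.2) hv hba)
    calc H * (a : Matrix (Fin n) (Fin n) F) = H * a * H' * H := by rw [mul_assoc _ H', h2, mul_one]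
      _ = a * H := by rw [e]
  rw [hD] at hcomm
  obtain ⟨t, ht⟩ := Algebra.mem_bot.1 hcomm
  refine ⟨t, ?_⟩
  rw [← ha, ← ht]
  show (algebraMap F (Matrix (Fin n) (Fin n) F) t) *ᵥ v = _
  rw [Algebra.algebraMap_eq_smul_one, smul_mulVec, one_mulVec]

/-- The Frobenius element of the normaliser. -/
theorem exists_frob (hK : Cfsg.Geo.IsFieldSubalgebra n K) :
    ∃ s : GL (Fin n) F, s ∈ Cfsg.Geo.subalgebraNormalizer K ∧ s ^ n = 1 ∧ s ≠ 1 ∧
      ∀ z : F, (s : Matrix (Fin n) (Fin n) F) ≠ z • 1 := by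
  classical
  haveI : NeZero n := ⟨hn.out.ne_zero⟩
  letI : Field K := (isField hK).toField
  haveI : Finite K := Module.finite_of_finite F
  have hv : (Pi.single (0 : Fin n) (1 : F) : Fin n → F) ≠ 0 := by simp
  set τ := FiniteField.frobeniusAlgEquivOfAlgebraic F K with hτ
  let E := toVec hK hv
  let R : (K ≃ₐ[F] K) →* Module.End F (Fin n → F) :=
    { toFun := fun f => (E : K →ₗ[F] _) ∘ₗ f.toLinearMap ∘ₗ (E.symm : _ →ₗ[F] K)
      map_one' := LinearMap.ext fun x => E.apply_symm_apply x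
      map_mul' := fun f g => LinearMap.ext fun x => by
        show E (f (g (E.symm x))) = E (f (E.symm (E (g (E.symm x)))))
        rw [E.symm_apply_apply] }
  let R' : (K ≃ₐ[F] K) →* GL (Fin n) F :=
    (Units.map ((LinearMap.toMatrixAlgEquiv' : Module.End F (Fin n → F) ≃ₐ[F] _) :
      Module.End F (Fin n → F) →* Matrix (Fin n) (Fin n) F)).comp R.toHomUnits
  have hR' : ∀ f (k : K), ((R' f : GL (Fin n) F) : Matrix (Fin n) (Fin n) F) *ᵥ E k = E (f k) := by
    intro f k
    show LinearMap.toMatrix' (R f) *ᵥ E k = _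
    rw [LinearMap.toMatrix'_mulVec]
    show E (f (E.symm (E k))) = _
    rw [E.symm_apply_apply]
  have hord : orderOf τ = n := by
    rw [hτ, FiniteField.orderOf_frobeniusAlgEquivOfAlgebraic, hK.finrank_eq]
  have hne : τ ≠ 1 := fun h => by
    rw [h, orderOf_one] at hord; exact hn.out.ne_one hord.symm
  have hcomm : ∀ k : K, ((R' τ : GL (Fin n) F) : Matrix (Fin n) (Fin n) F) * (k : Matrix _ _ F) =
      (τ k : Matrix (Fin n) (Fin n) F) * ((R' τ : GL (Fin n) F) : Matrix (Fin n) (Fin n) F) := fun k =>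
    Matrix.ext_of_mulVec_single fun i => by
      obtain ⟨a, ha⟩ := E.surjective (Pi.single i 1)
      have e : ∀ k a : K, (k : Matrix (Fin n) (Fin n) F) *ᵥ E a = E (k * a) := fun k a => by
        show _ *ᵥ ((a : Matrix (Fin n) (Fin n) F) *ᵥ _) = _
        rw [mulVec_mulVec]; rfl
      rw [← ha, ← mulVec_mulVec, ← mulVec_mulVec, e, hR', hR', map_mul]
      exact (e _ _).symm
  refine ⟨R' τ, fun k => ?_, by
    have hp := pow_orderOf_eq_one τ
    rw [hord] at hp
    rw [← map_pow, hp, map_one], fun h => ?_,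
    fun z hz => ?_⟩
  · constructor
    · intro hk
      rw [hcomm ⟨k, hk⟩, mul_assoc, Units.mul_inv, mul_one]
      exact (τ ⟨k, hk⟩).2
    · intro hk
      have h2 := hcomm (τ.symm ⟨_, hk⟩)
      rw [τ.apply_symm_apply] at h2
      simp only [Units.inv_mul_cancel_right] at h2
      have : k = ((τ.symm ⟨_, hk⟩ : K) : Matrix (Fin n) (Fin n) F) := by
        have h3 := congrArg (fun M : Matrix (Fin n) (Fin n) F =>
          (((R' τ)⁻¹ : GL (Fin n) F) : Matrix (Fin n) (Fin n) F) * M) h2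
        simp only [← mul_assoc, Units.inv_mul, one_mul] at h3
        exact h3.symm
      obtain ⟨b, hb⟩ : ∃ b : K, τ.symm ⟨_, hk⟩ = b := ⟨_, rfl⟩
      rw [hb] at this
      rw [this]
      exact b.2
  · refine hne (AlgEquiv.ext fun k => E.injective ?_)
    rw [← hR', h, Units.val_one, one_mulVec]
    rfl
  · refine hne (AlgEquiv.ext fun k => E.injective ?_)
    have h1 := hR' τ 1
    rw [hz, smul_mulVec, one_mulVec, map_one τ] at h1
    have hz1 : z = 1 := by
      have h0 : E 1 ≠ 0 := fun h => one_ne_zero (E.injective (h.trans (_root_.map_zero E).symm))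
      exact smul_left_injective F h0 (h1.trans (one_smul F _).symm)
    rw [← hR', hz, hz1, one_smul, one_mulVec]
    rfl

/-! ### Cyclic vectors -/

/-- The matrix with columns `x ^ j *ᵥ u`. -/
def krylov (x : Matrix (Fin n) (Fin n) F) (u : Fin n → F) : Matrix (Fin n) (Fin n) F :=
  Matrix.of fun i j => (x ^ (j : ℕ) *ᵥ u) i

theorem conj_of_cyclic (hnF : (n : F) ≠ 0) {x y : GL (Fin n) F}
    (hx : (x : Matrix (Fin n) (Fin n) F) ^ n = 1) (hy : (y : Matrix (Fin n) (Fin n) F) ^ n = 1)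
    (u w : Fin n → F)
    (hu : (krylov (x : Matrix (Fin n) (Fin n) F) u).det ≠ 0)
    (hw : (krylov (y : Matrix (Fin n) (Fin n) F) w).det ≠ 0) :
    ∃ g : GL (Fin n) F, (g : Matrix (Fin n) (Fin n) F).det = 1 ∧ g⁻¹ * x * g = y := by
  haveI : NeZero n := ⟨hn.out.ne_zero⟩
  let S : Matrix (Fin n) (Fin n) F := Matrix.of fun i j => if i = j + 1 then 1 else 0
  have key : ∀ (z : Matrix (Fin n) (Fin n) F) (v : Fin n → F), z ^ n = 1 →
      z * krylov z v = krylov z v * S := by
    intro z v hz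
    ext i j
    have hp : z ^ (((j + 1 : Fin n) : ℕ)) = z ^ ((j : ℕ) + 1) := by
      rw [Fin.val_add, Fin.val_one', Nat.add_mod_mod, ← pow_eq_pow_mod _ hz]
    have hl : (z * krylov z v) i j = (z *ᵥ (z ^ (j : ℕ) *ᵥ v)) i := rfl
    rw [hl, mulVec_mulVec, ← pow_succ', ← hp, mul_apply]
    simp [S, krylov]
  set P := krylov (x : Matrix (Fin n) (Fin n) F) u
  set Q := krylov (y : Matrix (Fin n) (Fin n) F) w
  set t := Q.det / P.det with ht
  set C : Matrix (Fin n) (Fin n) F := 1 + Matrix.vecMulVec (fun _ => (t - 1) / n) (fun _ => 1) with hC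
  have hCS : C * S = S * C := by
    rw [hC, add_mul, mul_add, one_mul, mul_one]
    congr 1
    ext i j
    simp only [mul_apply, vecMulVec_apply, S, Matrix.of_apply, mul_ite, ite_mul, mul_one, mul_zero,
      zero_mul, one_mul, Finset.sum_ite_eq', Finset.mem_univ, if_true]
    rw [Finset.sum_congr rfl fun k _ => if_congr (⟨fun h => (eq_sub_of_add_eq h.symm : k = i - 1),
      fun h => by rw [h, sub_add_cancel]⟩ : i = k + 1 ↔ k = i - 1) rfl rfl,
      Finset.sum_ite_eq', if_pos (Finset.mem_univ _)]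
  have hCd : C.det = t := by
    rw [hC, vecMulVec_eq Unit, det_one_add_replicateCol_mul_replicateRow]
    simp only [dotProduct, one_mul, Finset.sum_const, Finset.card_univ, Fintype.card_fin,
      nsmul_eq_mul]
    field_simp
    ring
  have hd : (P * C * Q⁻¹).det = 1 := by
    rw [det_mul, det_mul, hCd, det_nonsing_inv, Ring.inverse_eq_inv', ht]
    field_simp
  refine ⟨Matrix.GeneralLinearGroup.mkOfDetNeZero (P * C * Q⁻¹) (by rw [hd]; exact one_ne_zero),
    hd, ?_⟩
  rw [mul_assoc, inv_mul_eq_iff_eq_mul]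
  refine Units.ext ?_
  show (x : Matrix (Fin n) (Fin n) F) * (P * C * Q⁻¹) = P * C * Q⁻¹ * y
  have hQ : IsUnit Q.det := isUnit_iff_ne_zero.2 hw
  calc (x : Matrix (Fin n) (Fin n) F) * (P * C * Q⁻¹) = (x : Matrix _ _ F) * P * C * Q⁻¹ := by
        simp only [mul_assoc]
    _ = P * C * (S * Q⁻¹) := by rw [key _ u hx, mul_assoc P S, ← hCS]; simp only [P, mul_assoc]
    _ = P * C * Q⁻¹ * y := by
        rw [mul_assoc (P * C)]
        congr 1
        calc S * Q⁻¹ = Q⁻¹ * (Q * S) * Q⁻¹ := by rw [← mul_assoc, nonsing_inv_mul Q hQ, one_mul]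
          _ = Q⁻¹ * y := by
            rw [← key _ w hy]; simp only [mul_assoc, Q, mul_nonsing_inv _ hQ, mul_one]

theorem krylov_det_ne_zero (x : Matrix (Fin n) (Fin n) F) (u : Fin n → F)
    (h : Submodule.span F (Set.range fun j : Fin n => x ^ (j : ℕ) *ᵥ u) = ⊤) :
    (krylov x u).det ≠ 0 := by
  have hli : LinearIndependent F (fun j : Fin n => x ^ (j : ℕ) *ᵥ u) :=
    linearIndependent_of_top_le_span_of_card_eq_finrank h.ge (by simp)
  exact ((Matrix.isUnit_iff_isUnit_det _).1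
    (Matrix.linearIndependent_cols_iff_isUnit.1 hli)).ne_zero

theorem pow_mulVec_mem_span {x : Matrix (Fin n) (Fin n) F} (hx : x ^ n = 1) (u : Fin n → F)
    (k : ℕ) : x ^ k *ᵥ u ∈ Submodule.span F (Set.range fun j : Fin n => x ^ (j : ℕ) *ᵥ u) := by
  rw [pow_eq_pow_mod k hx]
  exact Submodule.subset_span ⟨⟨k % n, Nat.mod_lt _ hn.out.pos⟩, rfl⟩

theorem dvd_finrank {x : Matrix (Fin n) (Fin n) F} (hx : x ^ n = 1) (W : Submodule F (Fin n → F))
    (hW : ∀ v ∈ W, x *ᵥ v ∈ W) (hfix : ∀ v ∈ W, x *ᵥ v = v → v = 0) :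
    orderOf (Fintype.card F : ZMod n) ∣ finrank F W := by
  classical
  let f : W → W := fun v => ⟨x *ᵥ v, hW v v.2⟩
  have hit : ∀ (k : ℕ) (v : W), ((f^[k] v : W) : Fin n → F) = x ^ k *ᵥ (v : Fin n → F) := by
    intro k
    induction k with
    | zero => intro v; simp
    | succ k ih => intro v; rw [Function.iterate_succ_apply', pow_succ', ← mulVec_mulVec, ← ih]
  have hb : Function.Bijective f := Finite.injective_iff_bijective.1 fun a b hab => by
    have hab' := congrArg (fun v : W => x ^ (n - 1) *ᵥ (v : Fin n → F)) hab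
    simp only [f, mulVec_mulVec, ← pow_succ, Nat.sub_add_cancel hn.out.one_le, hx, one_mulVec]
      at hab'
    exact Subtype.ext hab'
  let σ : Equiv.Perm W := Equiv.ofBijective f hb
  have hσ : σ ^ n ^ 1 = 1 := Equiv.ext fun v => Subtype.ext (by
    rw [pow_one, ← Equiv.Perm.iterate_eq_pow]
    show ((f^[n] v : W) : Fin n → F) = v
    rw [hit, hx, one_mulVec])
  haveI := Fintype.ofFinite W
  have hmod := Equiv.Perm.card_compl_support_modEq hσ
  have hc : σ.supportᶜ = {0} := by
    ext v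
    simp only [Finset.mem_compl, Equiv.Perm.mem_support, not_not, Finset.mem_singleton]
    constructor
    · intro h; exact Subtype.ext (hfix v v.2 (congrArg Subtype.val h))
    · rintro rfl; exact Subtype.ext (mulVec_zero x)
  rw [hc, Finset.card_singleton, Module.card_eq_pow_finrank (K := F)] at hmod
  refine orderOf_dvd_of_pow_eq_one ?_
  have := (ZMod.natCast_eq_natCast_iff _ _ _).2 hmod
  rw [Nat.cast_one, Nat.cast_pow] at this
  exact this.symm

theorem cyclic_of_primitive (hnF : (n : F) ≠ 0)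
    (hq : orderOf (Fintype.card F : ZMod n) = n - 1) (h3 : 3 ≤ n)
    {x : Matrix (Fin n) (Fin n) F} (hx : x ^ n = 1) (hx1 : x ≠ 1) :
    ∃ u, (krylov x u).det ≠ 0 := by
  set S := ∑ k ∈ Finset.range n, x ^ k with hS
  have hSx : S * x = S := by
    have h := geom_sum_mul x n
    rw [hx, sub_self, mul_sub, mul_one, sub_eq_zero] at h
    exact h
  have hxS : x * S = S := by
    have h := mul_geom_sum x n
    rw [hx, sub_self, sub_mul, one_mul, sub_eq_zero] at h
    exact h
  have hSfix : ∀ v, x *ᵥ v = v → S *ᵥ v = (n : F) • v := by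
    intro v hv
    have hp : ∀ k : ℕ, x ^ k *ᵥ v = v := fun k => by
      induction k with
      | zero => simp
      | succ k ih => rw [pow_succ', ← mulVec_mulVec, ih, hv]
    rw [hS, sum_mulVec, Finset.sum_congr rfl fun k _ => hp k, Finset.sum_const, Finset.card_range,
      Nat.cast_smul_eq_nsmul]
  obtain ⟨e, he, hfe⟩ : ∃ e : Fin n → F, e ≠ 0 ∧ x *ᵥ e = e := by
    by_contra hcon
    push_neg at hcon
    have hd := dvd_finrank hx ⊤ (fun v _ => Submodule.mem_top) fun v _ hv => by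
      by_contra h0; exact hcon v h0 hv
    rw [finrank_top, Module.finrank_pi, Fintype.card_fin, hq] at hd
    rcases hn.out.eq_one_or_self_of_dvd _ hd with h | h <;> omega
  obtain ⟨a, ha⟩ : ∃ a, x *ᵥ a - a ≠ 0 := by
    by_contra hcon
    push_neg at hcon
    exact hx1 (Matrix.ext_of_mulVec_single fun i => by rw [one_mulVec, sub_eq_zero.1 (hcon _)])
  set w := x *ᵥ a - a with hw
  have hSw : S *ᵥ w = 0 := by rw [hw, mulVec_sub, mulVec_mulVec, hSx, sub_self]
  set w' := x *ᵥ w - w with hw'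
  have hw'0 : w' ≠ 0 := by
    intro h
    have := hSfix w (sub_eq_zero.1 h)
    rw [hSw, eq_comm, smul_eq_zero] at this
    exact ha (this.resolve_left hnF)
  let U := Submodule.span F (Set.range fun j : Fin n => x ^ (j : ℕ) *ᵥ w')
  let W := Submodule.span F (Set.range fun j : Fin n => x ^ (j : ℕ) *ᵥ (e + w))
  have hUS : ∀ v ∈ U, S *ᵥ v = 0 := by
    have hle : U ≤ LinearMap.ker (Matrix.mulVecLin S) := Submodule.span_le.2 (by
      rintro _ ⟨j, rfl⟩
      show S *ᵥ (x ^ (j : ℕ) *ᵥ w') = 0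
      have hp : ∀ k : ℕ, S * x ^ k = S := fun k => by
        induction k with
        | zero => simp
        | succ k ih => rw [pow_succ, ← mul_assoc, ih, hSx]
      rw [mulVec_mulVec, hp, hw', mulVec_sub, mulVec_mulVec, hSx, sub_self])
    exact fun v hv => hle hv
  have hUx : ∀ v ∈ U, x *ᵥ v ∈ U := by
    have hle : U ≤ U.comap (Matrix.mulVecLin x) := Submodule.span_le.2 (by
      rintro _ ⟨j, rfl⟩
      show x *ᵥ (x ^ (j : ℕ) *ᵥ w') ∈ U
      rw [mulVec_mulVec, ← pow_succ']
      exact pow_mulVec_mem_span hx w' _)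
    exact fun v hv => hle hv
  have hd := dvd_finrank hx U hUx fun v hv hfix => by
    have := hSfix v hfix
    rw [hUS v hv, eq_comm, smul_eq_zero] at this
    exact this.resolve_left hnF
  rw [hq] at hd
  have hU : n - 1 ≤ finrank F U := Nat.le_of_dvd (Module.finrank_pos_iff_exists_ne_zero.2
    ⟨⟨w', Submodule.subset_span ⟨⟨0, hn.out.pos⟩, by simp⟩⟩, fun h => hw'0 (congrArg Subtype.val h)⟩)
    hd
  have hWmem : ∀ k : ℕ, x ^ k *ᵥ (e + w) ∈ W := pow_mulVec_mem_span hx _
  have hle : U ≤ W := Submodule.span_le.2 (by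
    rintro _ ⟨j, rfl⟩
    show x ^ (j : ℕ) *ᵥ w' ∈ W
    have : x ^ (j : ℕ) *ᵥ w' = x ^ ((j : ℕ) + 1) *ᵥ (e + w) - x ^ (j : ℕ) *ᵥ (e + w) := by
      rw [pow_succ, ← mulVec_mulVec, ← mulVec_sub, hw', mulVec_add, hfe]
      abel_nf
    rw [this]
    exact W.sub_mem (hWmem _) (hWmem _))
  have heW : S *ᵥ (e + w) ∈ W := by
    rw [hS, sum_mulVec]; exact W.sum_mem fun k _ => hWmem k
  rw [mulVec_add, hSw, add_zero, hSfix e hfe] at heW
  have hlt : U < W := lt_of_le_of_ne hle fun h => by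
    have := hUS _ (h ▸ heW : (n : F) • e ∈ U)
    rw [mulVec_smul, hSfix e hfe, smul_eq_zero, smul_eq_zero] at this
    tauto
  have hWtop : W = ⊤ := by
    refine Submodule.eq_top_of_finrank_eq ?_
    have := Submodule.finrank_lt_finrank_of_lt hlt
    have := W.finrank_le
    rw [Module.finrank_pi, Fintype.card_fin] at *
    omega
  exact ⟨e + w, krylov_det_ne_zero x _ hWtop⟩

/-- Three linear eigenspaces of dimension at most one. -/
theorem cyclic_of_split {ζ : F} (hζ : ζ ^ 3 = 1) (hζ1 : ζ ≠ 1)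
    (h3F : (3 : F) ≠ 0) {x : Matrix (Fin 3) (Fin 3) F} (hx : x ^ 3 = 1)
    (hdim : ∀ (c : F) (v w : Fin 3 → F), v ≠ 0 → x *ᵥ v = c • v → x *ᵥ w = c • w →
      ∃ a : F, w = a • v) :
    ∃ u, (krylov x u).det ≠ 0 := by
  classical
  have hs : ζ ^ 2 + ζ + 1 = 0 := by
    have : (ζ - 1) * (ζ ^ 2 + ζ + 1) = 0 := by linear_combination hζ
    exact (mul_eq_zero.1 this).resolve_left (sub_ne_zero.2 hζ1)
  let c : Fin 3 → F := fun i => ζ ^ (i : ℕ)
  have hc : ∀ i, c i ^ 3 = 1 := fun i => by rw [← pow_mul, mul_comm, pow_mul, hζ, one_pow]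
  let π : Fin 3 → (Fin 3 → F) → (Fin 3 → F) := fun i v =>
    v + (c i) ^ 2 • (x *ᵥ v) + c i • (x ^ 2 *ᵥ v)
  have hπ : ∀ i v, x *ᵥ π i v = c i • π i v := fun i v => by
    simp only [π, mulVec_add, mulVec_smul, mulVec_mulVec, ← pow_succ', hx, one_mulVec, smul_add,
      smul_smul, ← pow_two]
    rw [show c i ^ (2 + 1) = 1 from hc i, one_smul]
    abel
  have hsum : ∀ v, π 0 v + π 1 v + π 2 v = (3 : F) • v := fun v => by
    simp only [π, c, Fin.val_zero, Fin.val_one, Fin.val_two, pow_zero, pow_one, one_pow]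
    match_scalars
    · norm_num
    · linear_combination hs + ζ * hζ
    · linear_combination hs
  have hex : ∀ i, ∃ e : Fin 3 → F, e ≠ 0 ∧ x *ᵥ e = c i • e := by
    intro i
    by_contra hcon
    push_neg at hcon
    have hi : ∀ v, π i v = 0 := fun v => by
      by_contra h; exact hcon _ h (hπ i v)
    have hch : ∀ j, ∃ d : Fin 3 → F, ∀ v, ∃ a : F, π j v = a • d := by
      intro j
      by_cases h : ∀ v, π j v = 0
      · exact ⟨0, fun v => ⟨0, by rw [h v, smul_zero]⟩⟩
      push_neg at h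
      obtain ⟨v₀, hv₀⟩ := h
      exact ⟨π j v₀, fun v => hdim _ _ _ hv₀ (hπ j v₀) (hπ j v)⟩
    choose d hd using hch
    have htop : ⊤ ≤ Submodule.span F (↑((Finset.univ.erase i).image d) : Set (Fin 3 → F)) := by
      intro v _
      have hmem : ∀ j, π j v ∈
          Submodule.span F (↑((Finset.univ.erase i).image d) : Set (Fin 3 → F)) := fun j => by
        by_cases hj : j = i
        · rw [hj, hi]; exact zero_mem _
        · obtain ⟨a, ha⟩ := hd j v
          rw [ha]
          exact Submodule.smul_mem _ _ (Submodule.subset_span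
            (Finset.mem_coe.2 (Finset.mem_image.2 ⟨j, by simp [hj], rfl⟩)))
      rw [← inv_smul_smul₀ h3F v, ← hsum v]
      exact Submodule.smul_mem _ _ (add_mem (add_mem (hmem 0) (hmem 1)) (hmem 2))
    have hle := finrank_span_finset_le_card (R := F) ((Finset.univ.erase i).image d)
    rw [Set.finrank, top_le_iff.1 htop, finrank_top, Module.finrank_pi, Fintype.card_fin] at hle
    have := (Finset.card_image_le (f := d) (s := Finset.univ.erase i))
    simp at this
    omega
  choose e he hxe using hex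
  have hcinj : Function.Injective c := by
    have hsq : ζ ^ 2 ≠ 1 := fun h => hζ1 (by linear_combination hζ - ζ * h)
    have hsq' : ζ ^ 2 ≠ ζ := fun h => hsq (by
      linear_combination hζ - ζ * h)
    intro a b hab
    fin_cases a <;> fin_cases b <;> first
      | rfl
      | (exfalso; simp [c, -mul_self_eq_one_iff, -sq_eq_one_iff] at hab; first
          | exact hζ1 hab | exact hζ1 hab.symm | exact hsq hab | exact hsq hab.symm
          | exact hsq' hab | exact hsq' hab.symm)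
  have hli : LinearIndependent F e :=
    Module.End.eigenvectors_linearIndependent' (Matrix.mulVecLin x) c hcinj e fun i =>
      ⟨Module.End.mem_eigenspace_iff.2 (hxe i), he i⟩
  have hpi : ∀ i j, π i (e j) = if i = j then (3 : F) • e j else 0 := by
    intro i j
    have h1 : π i (e j) = (1 + c i ^ 2 * c j + c i * c j ^ 2) • e j := by
      simp only [π, pow_two x, ← mulVec_mulVec, hxe, mulVec_smul, smul_smul]
      match_scalars
      ring
    rw [h1]
    by_cases hij : i = j
    · subst hij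
      rw [if_pos rfl, ← pow_succ, ← pow_succ', hc]
      norm_num
    · rw [if_neg hij]
      have h0 := hπ i (e j)
      rw [h1, mulVec_smul, hxe, smul_smul, smul_smul, ← sub_eq_zero, ← sub_smul, smul_eq_zero]
        at h0
      have h2 := h0.resolve_right (he j)
      have h3 : (1 + c i ^ 2 * c j + c i * c j ^ 2) * (c j - c i) = 0 := by linear_combination h2
      rw [(mul_eq_zero.1 h3).resolve_right (sub_ne_zero.2 fun h => hij (hcinj h.symm)), zero_smul]
  refine ⟨e 0 + e 1 + e 2, krylov_det_ne_zero x _ (top_le_iff.1 ?_)⟩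
  rw [← hli.span_eq_top_of_card_eq_finrank (by simp)]
  refine Submodule.span_le.2 ?_
  rintro _ ⟨i, rfl⟩
  have hlin : π i (e 0 + e 1 + e 2) = (3 : F) • e i := by
    have hadd : ∀ a b, π i (a + b) = π i a + π i b := fun a b => by
      simp only [π, mulVec_add, smul_add]; abel
    rw [hadd, hadd, hpi, hpi, hpi]
    fin_cases i <;> simp
  rw [SetLike.mem_coe, ← inv_smul_smul₀ h3F (e i), ← hlin]
  refine Submodule.smul_mem _ _ (add_mem (add_mem ?_ (Submodule.smul_mem _ _ ?_))
    (Submodule.smul_mem _ _ (pow_mulVec_mem_span (n := 3) hx _ 2)))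
  · simpa using pow_mulVec_mem_span (n := 3) hx (e 0 + e 1 + e 2) 0
  · simpa using pow_mulVec_mem_span (n := 3) hx (e 0 + e 1 + e 2) 1

/-! ### In the special linear group -/

theorem not_conj (hK : Cfsg.Geo.IsFieldSubalgebra n K) (x : Matrix.SpecialLinearGroup (Fin n) F)
    (hns : ∀ z : F, (x : Matrix (Fin n) (Fin n) F) ≠ z • 1) (c : F) {v w : Fin n → F}
    (hv : v ≠ 0) (hcv : (x : Matrix (Fin n) (Fin n) F) *ᵥ v = c • v)
    (hcw : (x : Matrix (Fin n) (Fin n) F) *ᵥ w = c • w) (hvw : ∀ a : F, w ≠ a • v) :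
    ¬ ∃ P : Matrix.SpecialLinearGroup (Fin n) F, P⁻¹ * x * P ∈
      (Cfsg.Geo.subalgebraNormalizer K).comap (Matrix.SpecialLinearGroup.toGL :
        Matrix.SpecialLinearGroup (Fin n) F →* GL (Fin n) F) := by
  rintro ⟨P, hP⟩
  set A := (P : Matrix (Fin n) (Fin n) F) with hA
  set B := ((P⁻¹ : Matrix.SpecialLinearGroup (Fin n) F) : Matrix (Fin n) (Fin n) F) with hB
  have hAB : A * B = 1 := by rw [hA, hB, ← Matrix.SpecialLinearGroup.coe_mul, mul_inv_cancel]; rfl
  have hBA : B * A = 1 := by rw [hA, hB, ← Matrix.SpecialLinearGroup.coe_mul, inv_mul_cancel]; rfl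
  have hval : ((Matrix.SpecialLinearGroup.toGL (P⁻¹ * x * P) : GL (Fin n) F) :
      Matrix (Fin n) (Fin n) F) = B * (x : Matrix (Fin n) (Fin n) F) * A := by
    show ((P⁻¹ * x * P : Matrix.SpecialLinearGroup (Fin n) F) : Matrix (Fin n) (Fin n) F) = _
    rw [Matrix.SpecialLinearGroup.coe_mul, Matrix.SpecialLinearGroup.coe_mul]
  have he : ∀ u, (x : Matrix (Fin n) (Fin n) F) *ᵥ u = c • u →
      (B * (x : Matrix (Fin n) (Fin n) F) * A) *ᵥ (B *ᵥ u) = c • (B *ᵥ u) := fun u hu => by
    rw [mulVec_mulVec, mul_assoc, hAB, mul_one, ← mulVec_mulVec, hu, mulVec_smul]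
  have hinv : ∀ u, A *ᵥ (B *ᵥ u) = u := fun u => by rw [mulVec_mulVec, hAB, one_mulVec]
  obtain ⟨a, ha⟩ := eigen_dep hK hn.out (Subgroup.mem_comap.1 hP) (fun z hz => hns z (by
      rw [hval] at hz
      calc (x : Matrix (Fin n) (Fin n) F) = A * (B * (x : Matrix (Fin n) (Fin n) F) * A) * B := by
            rw [← mul_assoc, ← mul_assoc, hAB, one_mul, mul_assoc, hAB, mul_one]
        _ = z • 1 := by rw [hz, Matrix.mul_smul, mul_one, Matrix.smul_mul, hAB]))
    c (v := B *ᵥ v) (w := B *ᵥ w) (fun h => hv (by rw [← hinv v, h, mulVec_zero]))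
    (by rw [hval]; exact he v hcv) (by rw [hval]; exact he w hcw)
  exact hvw a (by rw [← hinv w, ha, mulVec_smul, hinv])

theorem conj_into (hnF : (n : F) ≠ 0) {s : GL (Fin n) F}
    (hs : s ∈ Cfsg.Geo.subalgebraNormalizer K) (hsn : s ^ n = 1)
    (x : Matrix.SpecialLinearGroup (Fin n) F) (hx : (x : Matrix (Fin n) (Fin n) F) ^ n = 1)
    (hcx : ∃ u, (krylov (x : Matrix (Fin n) (Fin n) F) u).det ≠ 0)
    (hcs : ∃ u, (krylov (s : Matrix (Fin n) (Fin n) F) u).det ≠ 0) :
    ∃ P : Matrix.SpecialLinearGroup (Fin n) F, P⁻¹ * x * P ∈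
      (Cfsg.Geo.subalgebraNormalizer K).comap (Matrix.SpecialLinearGroup.toGL :
        Matrix.SpecialLinearGroup (Fin n) F →* GL (Fin n) F) := by
  obtain ⟨u, hu⟩ := hcx
  obtain ⟨w, hw⟩ := hcs
  obtain ⟨g, hg, hgc⟩ := conj_of_cyclic hnF (x := Matrix.SpecialLinearGroup.toGL x) (y := s)
    hx (by rw [← Units.val_pow_eq_pow_val, hsn]; rfl) u w hu hw
  obtain ⟨Q, hQ⟩ : ∃ Q : Matrix.SpecialLinearGroup (Fin n) F,
      Matrix.SpecialLinearGroup.toGL Q = g :=
    ⟨⟨(g : Matrix (Fin n) (Fin n) F), hg⟩, Units.ext rfl⟩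
  refine ⟨Q, Subgroup.mem_comap.2 ?_⟩
  rw [map_mul, map_mul, map_inv, hQ, hgc]
  exact hs

theorem eq_one_of_pow_eq_one {z : F} (hz : z ^ n = 1) (h : ¬ n ∣ Fintype.card F - 1) : z = 1 := by
  have hz0 : z ≠ 0 := by
    rintro rfl
    rw [zero_pow hn.out.ne_zero] at hz
    exact zero_ne_one hz
  have h1 : orderOf z ∣ n := orderOf_dvd_of_pow_eq_one hz
  have h2 : orderOf z ∣ Fintype.card F - 1 :=
    orderOf_dvd_of_pow_eq_one (FiniteField.pow_card_sub_one_eq_one z hz0)
  rcases hn.out.eq_one_or_self_of_dvd _ h1 with h' | h'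
  · exact orderOf_eq_one_iff.1 h'
  · exact absurd (h' ▸ h2) h

theorem card_mod_ne_zero (hnF : (n : F) ≠ 0) : (Fintype.card F : ZMod n) ≠ 0 := by
  intro h
  rw [ZMod.natCast_eq_zero_iff] at h
  obtain ⟨m, hp, hcard⟩ := FiniteField.card F (ringChar F)
  rw [hcard] at h
  rw [(Nat.prime_dvd_prime_iff_eq hn.out hp).1 (hn.out.dvd_of_dvd_pow h)] at hnF
  exact hnF (ringChar.Nat.cast_ringChar)

end Cfsg.Agent.SingerElusive
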