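import Cfsg.Agent.Lib.LinearGroup.UnitaryThreeModel
import Mathlib.Algebra.QuadraticAlgebra.Basic
import Mathlib.Data.ZMod.Basic
import Mathlib.Algebra.CharP.CharAndCard
import Mathlib.Algebra.Algebra.ZMod

/-!
Generating pairs for `SU 3 (5)` and `SU 3 (8)` from certified words (helper9).
-/

set_option autoImplicit false

namespace Cfsg.Agent.LinearGroup.SUThree

open Matrix
open Cfsg.Agent.Unitary (conjHom conjHom_apply)

universe u

/-- The eight element field on bit triples (`x³ = x + 1`). -/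
structure GF8 where
  /-- the bits -/
  code : Fin 8
deriving DecidableEq

/-- Carry-free product modulo `x³ + x + 1`. -/
def gf8mul (a b : Fin 8) : Fin 8 :=
  let r : ℕ := (if b.val.testBit 0 then a.val else 0) ^^^ ((if b.val.testBit 1 then 2 * a.val else 0) ^^^
    (if b.val.testBit 2 then 4 * a.val else 0))
  let r1 : ℕ := if r.testBit 4 then r ^^^ 22 else r
  let r2 : ℕ := if r1.testBit 3 then r1 ^^^ 11 else r1
  ⟨r2 % 8, Nat.mod_lt _ (by norm_num)⟩

/-- The bit triples. -/
def gf8equiv : GF8 ≃ Fin 8 := ⟨fun a => a.code, fun a => ⟨a⟩, fun _ => rfl, fun _ => rfl⟩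

instance : Fintype GF8 := Fintype.ofEquiv (Fin 8) gf8equiv.symm
instance : Zero GF8 := ⟨⟨0⟩⟩
instance : One GF8 := ⟨⟨1⟩⟩
instance : Add GF8 := ⟨fun a b => ⟨⟨(a.code.val ^^^ b.code.val) % 8, Nat.mod_lt _ (by norm_num)⟩⟩⟩
instance : Neg GF8 := ⟨fun a => a⟩
instance : Mul GF8 := ⟨fun a b => ⟨gf8mul a.code b.code⟩⟩

instance instCommRingGF8 : CommRing GF8 where
  add_assoc := by decide
  zero_add := by decide
  add_zero := by decide
  add_comm := by decide
  neg_add_cancel := by decide
  mul_assoc := by decide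
  one_mul := by decide
  mul_one := by decide
  left_distrib := by decide
  right_distrib := by decide
  mul_comm := by decide
  zero_mul := by decide
  mul_zero := by decide
  nsmul := nsmulRec
  zsmul := zsmulRec

variable {R : Type} [CommRing R]

/-- `U (a, b)` over a ring. -/
def upMat (q : ℕ) (a b : R) : Matrix (Fin 3) (Fin 3) R := !![1, a, b; 0, 1, -a ^ q; 0, 0, 1]

/-- The unitary condition over a ring. -/
def IsJ (q : ℕ) (M : Matrix (Fin 3) (Fin 3) R) : Prop :=
  M.det = 1 ∧ Mᵀ * !![0, 0, 1; 0, 1, 0; 1, 0, 0] * M.map (fun x => x ^ q) =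
    !![0, 0, 1; 0, 1, 0; 1, 0, 0]

variable {F : Type u} [Field F] [Fintype F] {q : ℕ} (hF : Fintype.card F = q ^ 2) (φ : R →+* F)

include hF in
theorem exists_lift {M : Matrix (Fin 3) (Fin 3) R} (h : IsJ q M) :
    ∃ X : jGroup hF, ((X : Matrix.SpecialLinearGroup (Fin 3) F) : Matrix (Fin 3) (Fin 3) F) =
      φ.mapMatrix M := by
  refine ⟨⟨⟨φ.mapMatrix M, by rw [← RingHom.map_det, h.1, map_one]⟩, ?_⟩, rfl⟩
  refine (mem_jGroup hF).mpr ?_
  have hJ : φ.mapMatrix (!![0, 0, 1; 0, 1, 0; 1, 0, 0] : Matrix (Fin 3) (Fin 3) R) = antiJ := by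
    ext i j
    fin_cases i <;> fin_cases j <;> simp [antiJ]
  have h2 := congrArg φ.mapMatrix h.2
  rw [map_mul, map_mul, hJ] at h2
  show (φ.mapMatrix M)ᵀ * antiJ * (φ.mapMatrix M).map (conjHom hF) = antiJ
  have e : φ.mapMatrix (M.map fun x => x ^ q) = (φ.mapMatrix M).map (conjHom hF) := by
    ext i j; simp [conjHom_apply hF]
  rw [← e]
  rw [show (φ.mapMatrix M)ᵀ = φ.mapMatrix Mᵀ from (Matrix.transpose_map).symm]
  exact h2

/-- A closed set under translation by the given vectors and their multiples. -/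
def spanList : List R → ℕ → List R
  | [], _ => [0]
  | a :: l, p => List.flatMap (fun k : ℕ => (spanList l p).map fun s => (k : R) * a + s) (List.range p)

theorem map_spanList (A : AddSubgroup F) : ∀ (l : List R) (p : ℕ), (∀ a ∈ l, φ a ∈ A) →
    ∀ x ∈ spanList l p, φ x ∈ A
  | [], p, _, x, hx => by
    simp only [spanList, List.mem_singleton] at hx
    subst hx
    rw [map_zero]; exact zero_mem A
  | a :: l, p, h, x, hx => by
    simp only [spanList, List.mem_flatMap, List.mem_map] at hx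
    obtain ⟨k, _, s, hs, rfl⟩ := hx
    show φ ((k : R) * a + s) ∈ A
    rw [map_add, map_mul, map_natCast φ k, ← nsmul_eq_mul]
    exact add_mem (nsmul_mem (h a (by simp)) k)
      (map_spanList A l p (fun b hb => h b (by simp [hb])) s hs)

include hF in
/-- Soundness of a certificate. -/
theorem exists_pair_cert (hinj : Function.Injective φ) (hcard : Nat.card R = Nat.card F)
    (U G V : Matrix (Fin 3) (Fin 3) R) (b0 : R) (hU : U = upMat q 1 b0)
    (hUJ : IsJ q U) (hGJ : IsJ q G) (hVJ : IsJ q V) (hVG : V * G = G * U) (hV20 : V 2 0 ≠ 0)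
    (hU2 : (U - 1) ^ 3 = 0 ∧ ((U - 1) ^ 2 : Matrix (Fin 3) (Fin 3) R) 0 2 ≠ 0)
    (data : List ((List Bool × List Bool) × R × R))
    (hdata : ∀ d ∈ data, (d.1.1.map fun b => if b then V else U).prod =
      (d.1.2.map fun b => if b then V else U).prod * upMat q d.2.1 d.2.2)
    (p : ℕ) (hspan : ∀ x : R, x ∈ spanList (1 :: data.map fun d => d.2.1) p) :
    ∃ u g : jGroup hF,
      IsNilpotent (((u : Matrix.SpecialLinearGroup (Fin 3) F) : Matrix (Fin 3) (Fin 3) F) - 1) ∧
      (((u : Matrix.SpecialLinearGroup (Fin 3) F) : Matrix (Fin 3) (Fin 3) F) - 1) ^ 2 ≠ 0 ∧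
      (∀ a, a ∈ aCoeff hF (Subgroup.closure {u, g * u * g⁻¹})) ∧
      ∃ w ∈ Subgroup.closure ({u, g * u * g⁻¹} : Set (jGroup hF)),
        ((w : Matrix.SpecialLinearGroup (Fin 3) F) : Matrix (Fin 3) (Fin 3) F) 2 0 ≠ 0 := by
  obtain ⟨u, hu⟩ := exists_lift hF φ hUJ
  obtain ⟨g, hg⟩ := exists_lift hF φ hGJ
  obtain ⟨v, hv⟩ := exists_lift hF φ hVJ
  have hconj : g * u * g⁻¹ = v := by
    rw [mul_inv_eq_iff_eq_mul]
    apply Subtype.ext
    apply Subtype.ext
    simp only [Subgroup.coe_mul, Matrix.SpecialLinearGroup.coe_mul, hu, hg, hv, ← map_mul, hVG]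
  set H := Subgroup.closure ({u, g * u * g⁻¹} : Set (jGroup hF))
  have huH : u ∈ H := Subgroup.subset_closure (by simp)
  have hvH : v ∈ H := hconj ▸ Subgroup.subset_closure (by simp)
  have hword : ∀ w : List Bool, ∃ W : jGroup hF, W ∈ H ∧
      ((W : Matrix.SpecialLinearGroup (Fin 3) F) : Matrix (Fin 3) (Fin 3) F) =
        φ.mapMatrix (w.map fun b => if b then V else U).prod := by
    intro w
    induction w with
    | nil => exact ⟨1, one_mem H, by simp⟩
    | cons b l ih =>
      obtain ⟨W, hW, eW⟩ := ih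
      cases b
      · exact ⟨u * W, mul_mem huH hW, by
          simp [Subgroup.coe_mul, Matrix.SpecialLinearGroup.coe_mul, hu, eW]⟩
      · exact ⟨v * W, mul_mem hvH hW, by
          simp [Subgroup.coe_mul, Matrix.SpecialLinearGroup.coe_mul, hv, eW]⟩
  -- upper elements of `H` give coordinates
  have hup : ∀ (X : jGroup hF) (a b : R), X ∈ H →
      ((X : Matrix.SpecialLinearGroup (Fin 3) F) : Matrix (Fin 3) (Fin 3) F) =
        φ.mapMatrix (upMat q a b) → φ a ∈ aCoeff hF H := by
    intro X a b hX eX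
    have e : ((X : Matrix.SpecialLinearGroup (Fin 3) F) : Matrix (Fin 3) (Fin 3) F) =
        !![1, φ a, φ b; 0, 1, -(φ a) ^ q; 0, 0, 1] := by
      rw [eX]
      ext i j
      fin_cases i <;> fin_cases j <;> simp [upMat]
    have hc : Cond q (φ a) (φ b) := by
      have h22 := congrFun (congrFun ((mem_jGroup hF).mp X.2) 2) 2
      rw [e] at h22
      simp [antiJ, Matrix.mul_apply, Fin.sum_univ_three, conjHom_apply hF,
        Unitary.neg_pow_q hF, Unitary.pow_q_pow_q hF] at h22
      unfold Cond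
      linear_combination h22
    refine ⟨φ b, hc, ?_⟩
    have : jU hF hc = X := Subtype.ext (Subtype.ext (by rw [e]; rfl))
    rwa [this]
  refine ⟨u, g, ⟨3, ?_⟩, ?_, ?_, v, hvH, ?_⟩
  · rw [hu, ← map_one φ.mapMatrix, ← map_sub, ← map_pow, hU2.1, map_zero]
  · intro e
    apply hU2.2
    apply hinj
    have h2 := congrFun (congrFun e 0) 2
    rw [hu, ← map_one φ.mapMatrix, ← map_sub, ← map_pow] at h2
    simpa using h2
  · intro a
    haveI : Finite R := Nat.finite_of_card_ne_zero (by rw [hcard]; exact Nat.card_pos.ne')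
    obtain ⟨x, rfl⟩ := (hinj.bijective_of_nat_card_le hcard.ge).2 a
    refine map_spanList φ _ _ p ?_ x (hspan x)
    intro r hr
    rcases List.mem_cons.mp hr with rfl | hr
    · exact hup u 1 b0 huH (by rw [hu, hU])
    · obtain ⟨d, hd, rfl⟩ := List.mem_map.mp hr
      obtain ⟨W1, h1, e1⟩ := hword d.1.1
      obtain ⟨W2, h2, e2⟩ := hword d.1.2
      refine hup (W2⁻¹ * W1) _ d.2.2 (mul_mem (inv_mem h2) h1) ?_
      simp only [Subgroup.coe_mul, Subgroup.coe_inv, Matrix.SpecialLinearGroup.coe_mul]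
      rw [e1, hdata d hd, map_mul, ← e2, ← Matrix.mul_assoc, ← Matrix.SpecialLinearGroup.coe_mul,
        inv_mul_cancel, Matrix.SpecialLinearGroup.coe_one, Matrix.one_mul]
  · rw [hv]
    intro e
    apply hV20
    apply hinj
    simpa using e

end Cfsg.Agent.LinearGroup.SUThree
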