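import Cfsg.Agent.Lib.LinearGroup.UnitaryThreeModel
import Mathlib.FieldTheory.Finiteness

/-!
Two conjugate regular unipotents with monomial quotient in `SU 3` (helper9).
-/

set_option autoImplicit false

namespace Cfsg.Agent.LinearGroup.SUThree

open Matrix
open Cfsg.Agent.Unitary (conjHom conjHom_apply)

universe u

variable {F : Type u} [Field F] [Fintype F] {q : ℕ}

/-- An element of norm one and large order generates the field additively with its powers,
except for `q = 5` and `q = 8`. -/
theorem addSubgroup_eq_top_of_norm_one (hF : Fintype.card F = q ^ 2) (h5 : q ≠ 5) (h8 : q ≠ 8)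
    (hq : 3 ≤ q) (t : Fˣ) (ht : (t : F) * (t : F) ^ q = 1) (hdvd : q + 1 ∣ 3 * orderOf t)
    (S : AddSubgroup F) (h1 : (1 : F) ∈ S) (hst : ∀ s ∈ S, (t : F) * s ∈ S) : S = ⊤ := by
  classical
  have hord : q + 1 ≤ 3 * orderOf t :=
    Nat.le_of_dvd (by have := orderOf_pos t; omega) hdvd
  let T : AddSubgroup F := AddSubgroup.closure (Set.range fun i : ℕ => (t : F) ^ i)
  have hTS : T ≤ S := by
    rw [AddSubgroup.closure_le]
    rintro _ ⟨i, rfl⟩
    induction i with
    | zero => simpa using h1
    | succ i ih =>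
      show (t : F) ^ (i + 1) ∈ S
      rw [pow_succ']
      exact hst _ ih
  have hpow : ∀ i : ℕ, (t : F) ^ i ∈ T := fun i => AddSubgroup.subset_closure ⟨i, rfl⟩
  have hmul : ∀ a ∈ T, ∀ b ∈ T, a * b ∈ T := by
    intro a ha b hb
    induction ha using AddSubgroup.closure_induction with
    | mem a ha' =>
      induction hb using AddSubgroup.closure_induction with
      | mem b hb' =>
        obtain ⟨i, rfl⟩ := ha'
        obtain ⟨j, rfl⟩ := hb'
        simp only [← pow_add]
        exact hpow _
      | zero => rw [mul_zero]; exact zero_mem _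
      | add x y _ _ hx hy => rw [mul_add]; exact add_mem hx hy
      | neg x _ hx => rw [mul_neg]; exact neg_mem hx
    | zero => rw [zero_mul]; exact zero_mem _
    | add x y _ _ hx hy => rw [add_mul]; exact add_mem hx hy
    | neg x _ hx => rw [neg_mul]; exact neg_mem hx
  have hone : (1 : F) ∈ T := by simpa using hpow 0
  have hinv : ∀ a ∈ T, a⁻¹ ∈ T := by
    intro a ha
    rcases eq_or_ne a 0 with rfl | h0
    · rwa [_root_.inv_zero]
    have h2 := FiniteField.pow_card_sub_one_eq_one a h0
    have hc : 1 < Fintype.card F := Fintype.one_lt_card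
    rw [show Fintype.card F - 1 = (Fintype.card F - 2) + 1 by omega, pow_succ] at h2
    rw [← eq_inv_of_mul_eq_one_left h2]
    generalize Fintype.card F - 2 = k
    induction k with
    | zero => simpa using hone
    | succ k ih => rw [pow_succ]; exact hmul _ ih _ ha
  let K : Subfield F :=
    { carrier := T
      mul_mem' := fun {a b} ha hb => hmul a ha b hb
      one_mem' := hone
      add_mem' := fun {a b} ha hb => T.add_mem ha hb
      zero_mem' := T.zero_mem
      neg_mem' := fun {a} ha => T.neg_mem ha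
      inv_mem' := hinv }
  haveI : Finite K := inferInstance
  haveI := Fintype.ofFinite K
  have hj := Module.card_eq_pow_finrank (K := K) (V := F)
  set j := Module.finrank K F
  set s := Fintype.card K with hs
  have hs2 : 2 ≤ s := Fintype.one_lt_card
  -- many powers of `t`
  have hd : orderOf t + 1 ≤ s := by
    have h := Nat.card_le_card_of_injective
      (fun o : Option (Fin (orderOf t)) => Option.elim o (0 : K) (fun i => ⟨(t : F) ^ i.val, hpow i⟩)) ?_
    · rwa [Nat.card_eq_fintype_card, Nat.card_eq_fintype_card, Fintype.card_option,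
        Fintype.card_fin] at h
    rintro (_ | i) (_ | k) h <;> simp only [Option.elim] at h
    · rfl
    · exact absurd (congrArg Subtype.val h).symm (by simp)
    · exact absurd (congrArg Subtype.val h) (by simp)
    · have h' : t ^ i.val = t ^ k.val := Units.ext (by simpa using congrArg Subtype.val h)
      exact congrArg some (Fin.ext (pow_injOn_Iio_orderOf i.isLt k.isLt h'))
  rw [hF] at hj
  have hj0 : j ≠ 0 := by
    intro e; rw [e, pow_zero] at hj
    have := Nat.pow_le_pow_left hq 2
    omega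
  rcases Nat.lt_or_ge j 2 with hj2 | hj2
  · -- the subfield is everything
    have hj1 : j = 1 := by omega
    rw [hj1, pow_one] at hj
    rw [eq_top_iff]
    intro x _
    apply hTS
    have hbij : Function.Bijective (fun a : K => (a : F)) :=
      (Fintype.bijective_iff_injective_and_card _).mpr ⟨Subtype.val_injective, by rw [hF, ← hs, hj]⟩
    obtain ⟨a, rfl⟩ := hbij.2 x
    exact a.2
  exfalso
  rcases Nat.even_or_odd' j with ⟨i, hi | hi⟩
  · -- `t` is fixed by the involution
    rw [hi, mul_comm 2 i, pow_mul] at hj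
    have hqs : q = s ^ i := Nat.pow_left_injective two_ne_zero hj
    have htK : (t : F) ∈ K := show (t : F) ∈ T by simpa using hpow 1
    have e : ((t : F)) ^ q = t := by
      have h1 := congrArg Subtype.val (FiniteField.pow_card (⟨(t : F), htK⟩ : K))
      simp only [SubmonoidClass.coe_pow] at h1
      rw [hqs]
      clear hqs hj hi
      induction i with
      | zero => simp
      | succ i ih => rw [pow_succ, pow_mul, ih, h1]
    have ht2 : t ^ 2 = 1 := Units.ext (by
      rw [Units.val_pow_eq_pow_val, sq, Units.val_one]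
      rw [e] at ht; exact ht)
    have := Nat.le_of_dvd two_pos (orderOf_dvd_of_pow_eq_one ht2)
    obtain ⟨p, f, hp, hf, hc, hpf⟩ := Unitary.exists_prime_pow hF
    have h35 : q = 3 ∨ q = 4 := by omega
    have := orderOf_pos t
    rcases (show orderOf t = 1 ∨ orderOf t = 2 by omega) with h | h <;>
      rcases h35 with rfl | rfl <;> rw [h] at hdvd <;> norm_num at hdvd
  · -- odd degree at least three
    have hi1 : 1 ≤ i := by omega
    obtain ⟨r, hr⟩ : ∃ r, s = r ^ 2 := by
      obtain ⟨p, f, hp, hf, hc, hpf⟩ := Unitary.exists_prime_pow hF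
      have hsd : s ∣ p ^ (f * 2) := by
        rw [pow_mul, ← hpf, hj]; exact dvd_pow_self s hj0
      obtain ⟨e, -, he⟩ := (Nat.dvd_prime_pow hp).mp hsd
      have : f * 2 = e * j := by
        have h2 : p ^ (f * 2) = p ^ (e * j) := by rw [pow_mul, ← hpf, hj, he, pow_mul]
        exact Nat.pow_right_injective hp.two_le h2
      have he2 : Even e := by
        have h3 : Even (e * j) := ⟨f, by omega⟩
        rcases Nat.even_mul.mp h3 with h | h
        · exact h
        · exact absurd h (Nat.not_even_iff_odd.mpr ⟨i, hi⟩)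
      obtain ⟨e', rfl⟩ := he2
      exact ⟨p ^ e', by rw [he, ← pow_mul]; ring_nf⟩
    have hqr : q = r ^ j := by
      apply Nat.pow_left_injective two_ne_zero
      show q ^ 2 = (r ^ j) ^ 2
      rw [hj, hr, ← pow_mul, ← pow_mul, mul_comm]
    have hr2 : 2 ≤ r := by
      by_contra hr'
      have : r = 0 ∨ r = 1 := by omega
      rcases this with rfl | rfl <;> simp at hr <;> omega
    rcases Nat.lt_or_ge i 2 with hi2 | hi2
    · have hj3 : j = 3 := by omega
      rw [hj3] at hqr
      have hb : r ^ 3 + 4 ≤ 3 * r ^ 2 := by omega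
      have : r = 2 := by
        by_contra hne
        have : 3 ≤ r := by omega
        nlinarith
      subst this
      omega
    · have h5' : r ^ 5 ≤ r ^ j := Nat.pow_le_pow_right (by omega) (by omega)
      have hb : r ^ j + 4 ≤ 3 * r ^ 2 := by omega
      have hr5 : r ^ 5 = r ^ 2 * r ^ 3 := by ring
      have h8r : 8 ≤ r ^ 3 := by
        have := Nat.pow_le_pow_left hr2 3
        omega
      nlinarith [Nat.mul_le_mul_left (r ^ 2) h8r]

/-- The generating pair when `q ≠ 5, 8`. -/
theorem exists_pair_torus (hF : Fintype.card F = q ^ 2) (hq : 3 ≤ q) (h5 : q ≠ 5) (h8 : q ≠ 8) :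
    ∃ u g : jGroup hF,
      IsNilpotent (((u : Matrix.SpecialLinearGroup (Fin 3) F) : Matrix (Fin 3) (Fin 3) F) - 1) ∧
      (((u : Matrix.SpecialLinearGroup (Fin 3) F) : Matrix (Fin 3) (Fin 3) F) - 1) ^ 2 ≠ 0 ∧
      (∀ a, a ∈ aCoeff hF (Subgroup.closure {u, g * u * g⁻¹})) ∧
      ∃ w ∈ Subgroup.closure ({u, g * u * g⁻¹} : Set (jGroup hF)),
        ((w : Matrix.SpecialLinearGroup (Fin 3) F) : Matrix (Fin 3) (Fin 3) F) 2 0 ≠ 0 := by
  -- a generator of the norm one group
  obtain ⟨ν, hν⟩ := IsCyclic.exists_generator (α := Fˣ)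
  have hordν : orderOf ν = q ^ 2 - 1 := by
    rw [orderOf_eq_card_of_forall_mem_zpowers hν, Nat.card_units, Nat.card_eq_fintype_card, hF]
  have hq2 : 9 ≤ q ^ 2 := by have := Nat.pow_le_pow_left hq 2; omega
  have hfac : (q - 1) * (q + 1) = q ^ 2 - 1 := by
    obtain ⟨m, rfl⟩ : ∃ m, q = m + 1 := ⟨q - 1, by omega⟩
    have : (m + 1) ^ 2 = m * (m + 1 + 1) + 1 := by ring
    simp only [Nat.add_sub_cancel]
    omega
  set ηu : Fˣ := ν ^ (q - 1) with hηu
  have hordη : orderOf ηu = q + 1 := by
    rw [hηu, orderOf_pow' _ (by omega), hordν, ← hfac, Nat.gcd_mul_right_left,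
      Nat.mul_div_cancel_left _ (by omega)]
  set η : F := (ηu : F) with hηdef
  have hη0 : η ≠ 0 := ηu.ne_zero
  have hηn : η ^ q = η⁻¹ := by
    have := congrArg Units.val (hordη ▸ pow_orderOf_eq_one ηu : ηu ^ (q + 1) = 1)
    rw [Units.val_pow_eq_pow_val, pow_succ', Units.val_one] at this
    exact eq_inv_of_mul_eq_one_right this
  set β : F := -η⁻¹ with hβdef
  have hβ0 : β ≠ 0 := neg_ne_zero.mpr (inv_ne_zero hη0)
  have hσβ : β ^ q = β⁻¹ := by
    rw [hβdef, Unitary.neg_pow_q hF, inv_pow, hηn]; field_simp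
  have hβ1 : β ≠ 1 := by
    intro e
    have e' : η = -1 := by
      rw [hβdef, neg_eq_iff_eq_neg] at e
      rw [← inv_inv η, e, inv_neg, inv_one]
    have h2 : ηu ^ 2 = 1 := Units.ext (by
      rw [Units.val_pow_eq_pow_val, Units.val_one, ← hηdef, e']; ring)
    have := Nat.le_of_dvd two_pos (orderOf_dvd_of_pow_eq_one h2)
    omega
  have hb1 : β - 1 ≠ 0 := sub_ne_zero.mpr hβ1
  have hb1' : 1 - β ≠ 0 := sub_ne_zero.mpr (Ne.symm hβ1)
  -- parameters
  set σ := conjHom hF with hσdef
  have σa : ∀ x : F, σ x = x ^ q := fun x => conjHom_apply hF x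
  have σσ : ∀ x : F, σ (σ x) = x := fun x => by rw [σa, σa, Unitary.pow_q_pow_q hF]
  have sβ : σ β = β⁻¹ := by rw [σa, hσβ]
  set α : F := (β - 1) ^ 3 / β ^ 2 with hα
  set γ : F := -1 / (α * β) with hγ
  set b0 : F := (3 - β) / α with hb0
  set k : F := -β / (β - 1) ^ 2 with hk
  have hα0 : α ≠ 0 := div_ne_zero (pow_ne_zero _ hb1) (pow_ne_zero _ hβ0)
  have hb1i : β⁻¹ - 1 ≠ 0 := by
    rw [sub_ne_zero, Ne, inv_eq_one]; exact hβ1
  have sα : σ α = -(α * β) := by
    rw [hα, map_div₀, map_pow, map_pow, map_sub, map_one, sβ]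
    field_simp
    ring
  have sγ : σ γ = α⁻¹ := by
    rw [hγ, map_div₀, map_neg, map_one, map_mul, sα, sβ]
    field_simp
  have sb0 : σ b0 = -1 - b0 := by
    rw [hb0, map_div₀, map_sub, map_ofNat, sα, sβ]
    rw [hα]
    field_simp
    ring
  have sk : σ k = -(β⁻¹) / (β⁻¹ - 1) ^ 2 := by
    rw [hk, map_div₀, map_neg, map_pow, map_sub, map_one, sβ]
  have hu : Cond q (1 : F) b0 := by
    unfold Cond
    rw [← σa, sb0, one_pow]; ring
  set u : jGroup hF := jU hF hu
  -- the monomial element
  obtain ⟨mm, hmm⟩ : ∃ X : jGroup hF,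
      ((X : Matrix.SpecialLinearGroup (Fin 3) F) : Matrix (Fin 3) (Fin 3) F) =
        !![0, 0, γ; 0, β, 0; α, 0, 0] := by
    refine ⟨⟨⟨!![0, 0, γ; 0, β, 0; α, 0, 0], ?_⟩, ?_⟩, rfl⟩
    · simp [Matrix.det_fin_three, hγ]; field_simp
    · refine (mem_jGroup hF).mpr ?_
      ext i j
      fin_cases i <;> fin_cases j <;>
        simp [antiJ, Matrix.mul_apply, Fin.sum_univ_three, ← hσdef, sα, sβ, sγ, hγ] <;>
        field_simp
  -- the conjugating element
  set τ : F := α * (1 - β) with hτ
  have hτ0 : τ ≠ 0 := mul_ne_zero hα0 hb1'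
  have sτ : σ τ = τ := by
    rw [hτ, map_mul, map_sub, map_one, sα, sβ]; field_simp; ring
  set ρ : F := -b0 - 1 / (1 - β) with hρ
  have sρ : ρ + ρ ^ q = 0 := by
    rw [← σa, hρ, map_sub, map_neg, sb0, map_div₀, map_one, map_sub, map_one, sβ]
    field_simp
    ring
  obtain ⟨c, hc⟩ := Unitary.exists_sub_pow_eq hF sρ
  rw [← σa] at hc
  have sc : σ c = c - ρ := by linear_combination -hc
  set R : F := (c * σ c * τ - c * α - σ (c * α)) / τ with hR
  have sR : R ^ q = R := by
    rw [← σa, hR, map_div₀, map_sub, map_sub, map_mul, map_mul, σσ, σσ, sτ]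
    ring
  obtain ⟨d, hd⟩ := Unitary.exists_trace_eq hF sR
  rw [← σa] at hd
  have sd : σ d = R - d := by linear_combination hd
  set e0 : F := 1 + c * (2 - β) + d * (1 - β) with he0
  set e1 : F := -(c * α) - d * α with he1
  set e2 : F := c * α + d * τ with he2
  obtain ⟨S, hS⟩ : ∃ X : jGroup hF,
      ((X : Matrix.SpecialLinearGroup (Fin 3) F) : Matrix (Fin 3) (Fin 3) F) =
        !![-k * (1 - β), -k * ((2 - β) + c * (1 - β) + b0 * (1 - β)), k * e0;
           k * α, -k * (-α - c * α - b0 * α), k * e1;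
           -k * τ, -k * (α + c * τ + b0 * τ), k * e2] := by
    refine ⟨⟨⟨!![-k * (1 - β), -k * ((2 - β) + c * (1 - β) + b0 * (1 - β)), k * e0;
           k * α, -k * (-α - c * α - b0 * α), k * e1;
           -k * τ, -k * (α + c * τ + b0 * τ), k * e2], ?_⟩, ?_⟩, rfl⟩
    · simp [Matrix.det_fin_three, he0, he1, he2, hτ]
      rw [hk, hb0, hα]
      field_simp
      ring
    · refine (mem_jGroup hF).mpr ?_
      ext i j
      fin_cases i <;> fin_cases j <;>
        simp [antiJ, Matrix.mul_apply, Fin.sum_univ_three, ← hσdef, he0, he1, he2, sα, sβ, sb0, sk,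
          sτ, sc, sd, map_ofNat] <;>
        (try simp only [hR, map_mul, sc, sα]) <;>
        simp only [hτ, hρ, hk, hb0, hα] <;> field_simp <;> ring
  have hconj : S * u * S⁻¹ = u * mm := by
    rw [mul_inv_eq_iff_eq_mul]
    apply Subtype.ext
    apply Subtype.ext
    simp only [Subgroup.coe_mul, Matrix.SpecialLinearGroup.coe_mul, u, jU, jMat_coe, hmm, hS]
    ext i j
    fin_cases i <;> fin_cases j <;>
      simp [Matrix.mul_apply, Fin.sum_univ_three, he0, he1, he2] <;>
      simp only [hτ, hγ, hk, hb0, hα] <;> field_simp <;> ring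
  refine ⟨u, S, ⟨3, ?_⟩, ?_, ?_⟩
  · simp only [u, jU, jMat_coe, pow_succ, pow_zero, Matrix.one_mul]
    ext i j
    fin_cases i <;> fin_cases j <;> simp [Matrix.mul_apply, Fin.sum_univ_three]
  · intro e
    have := congrFun (congrFun e 0) 2
    simp [u, jU, jMat_coe, pow_succ, Matrix.mul_apply, Fin.sum_univ_three] at this
  rw [hconj]
  set H := Subgroup.closure ({u, u * mm} : Set (jGroup hF))
  have huH : u ∈ H := Subgroup.subset_closure (by simp)
  have hm : mm ∈ H := by
    have := mul_mem (inv_mem huH) (Subgroup.subset_closure (by simp) : u * mm ∈ H)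
    rwa [inv_mul_cancel_left] at this
  refine ⟨?_, mm, hm, by rw [hmm]; simpa using hα0⟩
  -- the torus `mm ^ 2`
  set t : F := -1 / β ^ 3 with htdef
  have ht0 : t ≠ 0 := div_ne_zero (by simp) (pow_ne_zero _ hβ0)
  have htq : t ^ q = -β ^ 3 := by
    rw [← σa, htdef, map_div₀, map_neg, map_one, map_pow, sβ]; field_simp
  have hordt : q + 1 ∣ 3 * orderOf (Units.mk0 t ht0) := by
    have e : Units.mk0 t ht0 = ηu ^ 3 := Units.ext (by
      simp [htdef, hβdef, ← hηdef]; field_simp)
    rw [← hordη, e, orderOf_dvd_iff_pow_eq_one, pow_mul]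
    exact pow_orderOf_eq_one _
  intro a
  have hst : ∀ s ∈ aCoeff hF H, t * s ∈ aCoeff hF H := by
    rintro s ⟨b, hb, hbH⟩
    have hcb : Cond q (t * s) b := by
      unfold Cond at *
      rw [mul_pow, htq, htdef]
      field_simp
      linear_combination hb
    refine ⟨b, hcb, ?_⟩
    have e : mm * mm * jU hF hb = jU hF hcb * (mm * mm) := by
      apply Subtype.ext
      apply Subtype.ext
      simp only [Subgroup.coe_mul, Matrix.SpecialLinearGroup.coe_mul, jU, jMat_coe, hmm]
      rw [mul_pow, htq]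
      ext i j
      fin_cases i <;> fin_cases j <;>
        simp [Matrix.mul_apply, Fin.sum_univ_three, hγ, htdef] <;> field_simp
    have := mul_mem (mul_mem (mul_mem hm hm) hbH) (inv_mem (mul_mem hm hm))
    rwa [e, mul_inv_cancel_right] at this
  have htn : (Units.mk0 t ht0 : F) * (Units.mk0 t ht0 : F) ^ q = 1 := by
    show t * t ^ q = 1
    rw [htq, htdef]; field_simp
  rw [addSubgroup_eq_top_of_norm_one hF h5 h8 hq (Units.mk0 t ht0) htn hordt (aCoeff hF H)
    ⟨b0, hu, huH⟩ hst]
  exact AddSubgroup.mem_top a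

end Cfsg.Agent.LinearGroup.SUThree
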